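import Cfsg.Agent.Lib.PresU.Conc

/-!
# The presentations of the special unitary groups
-/

set_option autoImplicit false
set_option linter.unusedSectionVars false
set_option linter.unusedSimpArgs false
set_option linter.style.haveILetI false

namespace Cfsg.Agent.Lib.PresU

open Matrix Cfsg Cfsg.Agent.Lib.HermCount.Field

/-- The images of the generators of a presentation generate. -/
lemma gens_of_pres {G : Type*} [Group G] {k : ℕ} (R : Finset (FreeGroup (Fin k)))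
    (E : PresentedGroup (↑R : Set (FreeGroup (Fin k))) ≃* G) :
    ∃ gM : List G, gM.length = k ∧ ∀ H : Subgroup G, (∀ x ∈ gM, x ∈ H) → H = ⊤ := by
  refine ⟨List.ofFn (fun i => E (PresentedGroup.of i)), List.length_ofFn, ?_⟩
  intro H hH
  have h1 : H.comap E.toMonoidHom = ⊤ := by
    rw [eq_top_iff, ← PresentedGroup.closure_range_of (↑R : Set (FreeGroup (Fin k))), Subgroup.closure_le]
    rintro _ ⟨i, rfl⟩
    exact hH _ (by simp [List.mem_ofFn])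
  rw [eq_top_iff]
  intro g _
  have := (Subgroup.ext_iff.1 h1 (E.symm g)).2 trivial
  simpa using this

section sl

variable {F : Type*} [Field F] [Fintype F]

/-- A presentation of `SL`. -/
lemma sl_any (m : ℕ) (hm : 1 ≤ m) : ∃ (a : ℕ) (R : Finset (FreeGroup (Fin a))), R.card ≤ 25 ∧
    Nonempty (PresentedGroup (↑R : Set (FreeGroup (Fin a))) ≃* SpecialLinearGroup (Fin (m + 1)) F) := by
  by_cases h1 : m = 1
  · subst h1
    obtain ⟨⟨R, hR, hE⟩, -, -⟩ := Cfsg.Agent.S2286.result (F := F)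
    exact ⟨3, R, by omega, hE⟩
  by_cases h2 : m = 2
  · subst h2
    obtain ⟨R, hR, hE⟩ := Cfsg.Agent.Lib.PresSLn.Pres.sl3_pres (F := F)
    exact ⟨4, R, by omega, hE⟩
  obtain ⟨R, hR, hE⟩ := Cfsg.Agent.Lib.PresSLn.ShortF.sl_seven (F := F) (m + 1) (by omega)
  exact ⟨7, R, hR, hE⟩

/-- The generators of the stabiliser. -/
lemma levi_X (m : ℕ) (hm : 1 ≤ m) {ζ : Fˣ} (hζ : ∀ u : Fˣ, ∃ k : ℕ, ζ ^ k = u) :
    ∃ X : List (SpecialLinearGroup (Fin (m + 1)) F), X.length ≤ 3 ∧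
      (∀ x ∈ X, x.1 *ᵥ Pi.single (Fin.last m) 1 = Pi.single (Fin.last m) 1 ∧
        Pi.single (Fin.last m) 1 ᵥ* x.1 = Pi.single (Fin.last m) 1) ∧
      ∀ G : Subgroup (SpecialLinearGroup (Fin (m + 1)) F), (∀ x ∈ X, x ∈ G) →
        ∀ A : SpecialLinearGroup (Fin (m + 1)) F, A.1 *ᵥ Pi.single (Fin.last m) 1 = Pi.single (Fin.last m) 1 →
          Pi.single (Fin.last m) 1 ᵥ* A.1 = Pi.single (Fin.last m) 1 → A ∈ G := by
  by_cases h1 : m = 1
  · subst h1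
    refine ⟨[], by simp, by simp, ?_⟩
    intro G _ A h1 h2
    obtain ⟨M, rfl⟩ := Cfsg.Agent.Lib.PresSp.Theta.exists_blk A h1 h2
    have hM : M = 1 := by
      apply Subtype.ext
      ext i j
      have hi : i = 0 := Subsingleton.elim _ _
      have hj : j = 0 := Subsingleton.elim _ _
      subst hi hj
      have := M.2
      rw [det_fin_one] at this
      exact this
    rw [hM, map_one]
    exact one_mem _
  · obtain ⟨X, hl, hfix, hX⟩ := Cfsg.Agent.Lib.PresSp.Theta.theta_gen (F := F) (m := m) (by omega) hζ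
    exact ⟨X, hl.le, hfix, hX⟩

end sl

section main

variable {F : Type*} [Field F] [Fintype F] {q : ℕ} (hF : Fintype.card F = q ^ 2)

include hF

/-- A presentation of `SU₃`. -/
lemma su3_any : ∃ (k : ℕ) (R : Finset (FreeGroup (Fin k))), R.card + 6 * k ≤ 39 ∧
    Nonempty (PresentedGroup (↑R : Set (FreeGroup (Fin k))) ≃* Cfsg.Agent.Lib.PresSU3.GG (frobHom hF)) := by
  by_cases h : q = 2 ∨ q = 5
  · have hq : q.Prime := by
      rcases h with rfl | rfl <;> norm_num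
    obtain ⟨R, hR, hE⟩ := P3.su3p_pres hF hq
    exact ⟨4, R, by omega, hE⟩
  · push Not at h
    obtain ⟨R, hR, hE⟩ := Cfsg.Agent.Lib.PresSU3.su3_pres hF h.1 h.2
    exact ⟨3, R, by omega, hE⟩

/-- The case of even degree. -/
theorem su_even_main (m : ℕ) (hm : 1 ≤ m) : ∃ (a : ℕ) (R : Finset (FreeGroup (Fin a))), R.card ≤ 57 ∧
    Nonempty (PresentedGroup (↑R : Set (FreeGroup (Fin a))) ≃* ↥(Cfsg.SU ((m + 1) + (m + 1)) F q)) := by
  classical
  haveI : Fintype (kF hF) := Fintype.ofFinite _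
  obtain ⟨ζ, hgen, -⟩ := Cfsg.Agent.Lib.PresSU3.exists_gen_units hF
  set σ := frobHom hF with hσ
  have I := inv_F hF
  obtain ⟨θ, hθ'⟩ := exists_frob_ne hF
  have hθ : σ θ ≠ θ := hθ'
  have hs : θ - σ θ ≠ 0 := sub_ne_zero.2 hθ.symm
  have hss : σ (θ - σ θ) = -(θ - σ θ) := by
    rw [map_sub, Cfsg.Agent.Lib.PresSU3.hσ_frob hF]
    ring
  have hab : (0 : Fin (m + 1)) ≠ Fin.last m := by
    intro h
    have := congrArg Fin.val h
    simp at this
    omega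
  obtain ⟨P, P', h1, h2, hP⟩ := gram_even hF (Fin (m + 1)) (n := (m + 1) + (m + 1)) (by simp)
  have hT := closure_tv hF h1 h2 hP (by omega) (by omega)
  obtain ⟨e, -, -⟩ := su_bridge hF h1 h2 hP
  obtain ⟨X, hl, hfix, hX⟩ := levi_X (F := F) m hm hgen
  obtain ⟨a, RA, hRA, ⟨EA⟩⟩ := sl_any (F := F) m hm
  obtain ⟨⟨RB, hRB, ⟨EB⟩⟩, -, -⟩ := Cfsg.Agent.S2286.result (F := kF hF)
  obtain ⟨R, hR, ⟨E⟩⟩ := su_even_pres (inv_F hF) hs hss hab hgen (gen_kF hF hgen) hθ hT X hfix hX RA EA RB EB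
  obtain ⟨R', hR', ⟨E'⟩⟩ := Cfsg.Agent.Lib.PresSLn.ShortP.to_fin R E
  exact ⟨_, R', by omega, ⟨E'.trans e⟩⟩

/-- The case of odd degree. -/
theorem su_odd_main (m : ℕ) (hm : 1 ≤ m) : ∃ (a : ℕ) (R : Finset (FreeGroup (Fin a))), R.card ≤ 77 ∧
    Nonempty (PresentedGroup (↑R : Set (FreeGroup (Fin a))) ≃* ↥(Cfsg.SU ((m + 1) + (m + 1) + 1) F q)) := by
  classical
  haveI : Fintype (kF hF) := Fintype.ofFinite _
  obtain ⟨ζ, hgen, -⟩ := Cfsg.Agent.Lib.PresSU3.exists_gen_units hF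
  set σ := frobHom hF with hσ
  have hσσ : ∀ x, σ (σ x) = x := Cfsg.Agent.Lib.PresSU3.hσ_frob hF
  have I := inv_F hF
  obtain ⟨θ, hθ'⟩ := exists_frob_ne hF
  have hθ : σ θ ≠ θ := hθ'
  have hs : θ - σ θ ≠ 0 := sub_ne_zero.2 hθ.symm
  have hss : σ (θ - σ θ) = -(θ - σ θ) := by
    rw [map_sub, hσσ]
    ring
  have hab : (0 : Fin (m + 1)) ≠ Fin.last m := by
    intro h
    have := congrArg Fin.val h
    simp at this
    omega
  obtain ⟨b₁, hb₁⟩ := exists_trace hF (-1) (by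
    have : σ (-1 : F) = -1 := by simp
    exact this)
  obtain ⟨b₂, hb₂⟩ := exists_trace hF (-(θ * σ θ)) (by
    have : σ (-(θ * σ θ)) = -(θ * σ θ) := by
      rw [map_neg, map_mul, hσσ, mul_comm]
    exact this)
  have h₁ : b₁ + σ b₁ + 1 * σ 1 = 0 := by
    have : b₁ + σ b₁ = -1 := hb₁
    rw [this, map_one]
    ring
  have h₂ : b₂ + σ b₂ + θ * σ θ = 0 := by
    have : b₂ + σ b₂ = -(θ * σ θ) := hb₂
    rw [this]
    ring
  obtain ⟨P, P', h1, h2, hP⟩ := gram_odd hF (Fin (m + 1)) (n := (m + 1) + (m + 1) + 1) (by simp)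
  have hT := closure_tv hF h1 h2 hP (by omega) (by omega)
  obtain ⟨e, -, -⟩ := su_bridge hF h1 h2 hP
  obtain ⟨X, hl, hfix, hX⟩ := levi_X (F := F) m hm hgen
  obtain ⟨a, RA, hRA, ⟨EA⟩⟩ := sl_any (F := F) m hm
  obtain ⟨k, RB, hRB, ⟨EB⟩⟩ := su3_any hF
  obtain ⟨gM, hgl, hgM⟩ := gens_of_pres RB EB
  obtain ⟨R, hR, ⟨E⟩⟩ := su_odd_pres (inv_F hF) hs hss hab hgen (gen_kF hF hgen) hθ h₁ h₂ hT X hfix hX gM hgM RA EA RB EB
  obtain ⟨R', hR', ⟨E'⟩⟩ := Cfsg.Agent.Lib.PresSLn.ShortP.to_fin R E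
  refine ⟨_, R', ?_, ⟨E'.trans e⟩⟩
  have h5 : X.length * gM.length ≤ 3 * gM.length := Nat.mul_le_mul_right _ hl
  rw [hgl] at hR h5
  omega

/-- The case of degree three. -/
theorem su_three_main : ∃ (a : ℕ) (R : Finset (FreeGroup (Fin a))), R.card ≤ 77 ∧
    Nonempty (PresentedGroup (↑R : Set (FreeGroup (Fin a))) ≃* ↥(Cfsg.SU 3 F q)) := by
  obtain ⟨k, R, hR, ⟨E⟩⟩ := su3_any hF
  obtain ⟨e⟩ := Cfsg.Agent.Lib.PresSU3.exists_iso hF (two_le hF)
  exact ⟨k, R, by omega, ⟨E.trans e⟩⟩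

/-- All the special unitary groups. -/
theorem su_all (n : ℕ) (hn : 3 ≤ n) : ∃ (a : ℕ) (R : Finset (FreeGroup (Fin a))), R.card ≤ 77 ∧
    Nonempty (PresentedGroup (↑R : Set (FreeGroup (Fin a))) ≃* ↥(Cfsg.SU n F q)) := by
  by_cases h3 : n = 3
  · subst h3
    exact su_three_main hF
  rcases Nat.even_or_odd n with h | h
  · obtain ⟨c, rfl⟩ := h
    obtain ⟨m, rfl⟩ : ∃ m, c = m + 1 := ⟨c - 1, by omega⟩
    obtain ⟨a, R, hR, hE⟩ := su_even_main hF m (by omega)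
    exact ⟨a, R, by omega, hE⟩
  · obtain ⟨c, rfl⟩ := h
    obtain ⟨m, rfl⟩ : ∃ m, c = m + 1 := ⟨c - 1, by omega⟩
    have e : 2 * (m + 1) + 1 = (m + 1) + (m + 1) + 1 := by ring
    rw [e]
    exact su_odd_main hF m (by omega)

end main

end Cfsg.Agent.Lib.PresU
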