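import Cfsg.Agent.Lib.PresU.Brg
import Cfsg.Agent.Lib.PresSp.Surj

/-!
# The Levi subgroup and a long root `SL₂` generate the unitary group
-/

set_option autoImplicit false
set_option linter.unusedSectionVars false
set_option linter.unusedSimpArgs false
set_option linter.style.haveILetI false

namespace Cfsg.Agent.Lib.PresU

open Matrix Cfsg.Agent.Lib.PresSp.M2 Cfsg.Agent.Lib.PresSp.Mono Cfsg.Agent.Lib.PresSLn.TwoGen
open Cfsg.Agent.Lib.PresSp.Tgt (sj sj_mul sj_add sj_zero sj_tr sj_ne sj_sub one_sj_mul one_sj_mul_sj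
  sj_mul_one_sj upM upM_mul upM_zero)
open Cfsg.Agent.Lib.PresSp.Surj (exists_levi)

variable {ι : Type*} [Fintype ι] [DecidableEq ι] {K : Type*} [Field K] {k : Type*} [Field k]
variable {σ : K →+* K} {j : k →+* K} {a b : ι}

lemma fJ_JE (x y : ι ⊕ ι → K) :
    fJ σ (JE ι K) x y = ∑ i, (x (Sum.inl i) * σ (y (Sum.inr i)) + x (Sum.inr i) * σ (y (Sum.inl i))) := by
  have e : (σ ∘ y) = Sum.elim (fun i => σ (y (Sum.inl i))) (fun i => σ (y (Sum.inr i))) := by
    funext r
    rcases r with r | r <;> rfl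
  rw [fJ, JE, e, fromBlocks_mulVec]
  simp only [Sum.elim_comp_inl, Sum.elim_comp_inr, zero_mulVec, one_mulVec, zero_add, add_zero]
  rw [dotProduct, Fintype.sum_sum_type, ← Finset.sum_add_distrib]
  rfl

lemma lev_mv_inl (l : SpecialLinearGroup ι K) (w : ι ⊕ ι → K) (r : ι) :
    (levM σ l *ᵥ w) (Sum.inl r) = (l.1 *ᵥ (w ∘ Sum.inl)) r := by
  rw [levM, fromBlocks_mulVec]
  simp

lemma lev_mv_inr (l : SpecialLinearGroup ι K) (w : ι ⊕ ι → K) (r : ι) :
    (levM σ l *ᵥ w) (Sum.inr r) = (hh σ (l⁻¹).1 *ᵥ (w ∘ Sum.inr)) r := by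
  rw [levM, fromBlocks_mulVec]
  simp

lemma sj_mv (i : ι) (c : K) (w : ι → K) : sj i c *ᵥ w = Pi.single i (c * w i) := by
  ext r
  by_cases h : r = i
  · subst h
    simp [sj, single_mulVec]
  · simp [sj, single_mulVec, Pi.single_apply, Function.update_of_ne, h]

lemma lg_mv_inl (s : K) (i : ι) (g : M2 k) (w : ι ⊕ ι → K) (l : ι) :
    (lgM j s i g *ᵥ w) (Sum.inl l) =
      w (Sum.inl l) + if l = i then (j (g.1 0 0) - 1) * w (Sum.inl i) + (j (g.1 0 1) * s) * w (Sum.inr i) else 0 := by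
  rw [lgM, fromBlocks_mulVec]
  simp only [Sum.elim_inl, Pi.add_apply, add_mulVec, one_mulVec, sj_mv, Function.comp_apply]
  by_cases h : l = i
  · subst h
    simp
    ring
  · simp [h, Pi.single_apply]

lemma lg_mv_inr (s : K) (i : ι) (g : M2 k) (w : ι ⊕ ι → K) (l : ι) :
    (lgM j s i g *ᵥ w) (Sum.inr l) =
      w (Sum.inr l) + if l = i then (j (g.1 1 0) * s⁻¹) * w (Sum.inl i) + (j (g.1 1 1) - 1) * w (Sum.inr i) else 0 := by
  rw [lgM, fromBlocks_mulVec]
  simp only [Sum.elim_inr, Pi.add_apply, add_mulVec, one_mulVec, sj_mv, Function.comp_apply]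
  by_cases h : l = i
  · subst h
    simp
    ring
  · simp [h, Pi.single_apply]

section hyp

variable [Finite K] [Finite k] (I : Inv σ j) {s : K} (hs : s ≠ 0) (hss : σ s = -s)

local notation "Lv" => levS (σ := σ) (ι := ι) I.invol
local notation "Lg" => lgS (ι := ι) I hs hss

/-- The subgroup generated by the Levi subgroup and a long root `SL₂`. -/
def HU (I : Inv σ j) {s : K} (hs : s ≠ 0) (hss : σ s = -s) (b : ι) : Subgroup (GE σ ι) :=
  Subgroup.closure (Set.range (levS (σ := σ) (ι := ι) I.invol) ∪ Set.range (lgS (ι := ι) I hs hss b))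

lemma lev_mem (l : SpecialLinearGroup ι K) : levS I.invol l ∈ HU I hs hss b :=
  Subgroup.subset_closure (Or.inl ⟨l, rfl⟩)

lemma lg_mem' (g : M2 k) : lgS I hs hss b g ∈ HU I hs hss b :=
  Subgroup.subset_closure (Or.inr ⟨g, rfl⟩)

/-- The conjugate transpose in `SL`. -/
def hhS (σ : K →+* K) (hσ : ∀ x, σ (σ x) = x) (m : SpecialLinearGroup ι K) : SpecialLinearGroup ι K :=
  ⟨hh σ m.1, by
    rw [hh, det_transpose]
    have e : ((m.1).map σ).det = σ (m.1.det) := (RingHom.map_det σ _).symm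
    rw [e, m.2, map_one]⟩

/-- Moving a vector with vanishing `f` part. -/
lemma to_e_zero (hab : a ≠ b) (w : ι ⊕ ι → K) (hw : w ≠ 0) (hf : w ∘ Sum.inr = 0) :
    ∃ y ∈ HU I hs hss b, y.1.1 *ᵥ w = Pi.single (Sum.inl b) 1 := by
  have hp : w ∘ Sum.inl ≠ 0 := by
    intro h0
    apply hw
    ext (r | r)
    · exact congrFun h0 r
    · exact congrFun hf r
  obtain ⟨l, hl⟩ := exists_levi (F := K) hab _ hp
  refine ⟨levS I.invol l, lev_mem I hs hss l, ?_⟩
  change levM σ l *ᵥ w = _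
  ext (r | r)
  · rw [lev_mv_inl, hl]
    by_cases h : r = b
    · subst h
      simp
    · simp [h, Pi.single_apply]
  · rw [lev_mv_inr, hf, mulVec_zero]
    simp [Pi.single_apply]

/-- Moving an isotropic vector. -/
lemma exists_to_e (hab : a ≠ b) (w : ι ⊕ ι → K) (hw : w ≠ 0) (hiso : fJ σ (JE ι K) w w = 0) :
    ∃ y ∈ HU I hs hss b, y.1.1 *ᵥ w = Pi.single (Sum.inl b) 1 := by
  by_cases hf : w ∘ Sum.inr = 0
  · exact to_e_zero I hs hss hab w hw hf
  obtain ⟨m, hm⟩ := exists_levi (F := K) hab _ hf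
  set l : SpecialLinearGroup ι K := (hhS σ I.invol m)⁻¹ with hl
  have hhl : hh σ (l⁻¹).1 = m.1 := by
    rw [hl, inv_inv]
    ext r t
    simp [hhS, hh_apply, I.invol]
  set w1 : ι ⊕ ι → K := levM σ l *ᵥ w with hw1
  have hw1f : w1 ∘ Sum.inr = Pi.single b 1 := by
    funext r
    change (levM σ l *ᵥ w) (Sum.inr r) = _
    rw [lev_mv_inr, hhl, hm]
  have hiso1 : fJ σ (JE ι K) w1 w1 = 0 := by
    have := fJ_mem (levS (σ := σ) (ι := ι) I.invol l) w w
    rw [hiso] at this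
    exact this
  have hα : w1 (Sum.inl b) + σ (w1 (Sum.inl b)) = 0 := by
    rw [fJ_JE] at hiso1
    have hf' : ∀ r, w1 (Sum.inr r) = (Pi.single b 1 : ι → K) r := fun r => congrFun hw1f r
    simp only [hf'] at hiso1
    rw [Finset.sum_add_distrib, Finset.sum_eq_single b, Finset.sum_eq_single b] at hiso1
    · simpa using hiso1
    · intro i _ hi
      simp [hi]
    · simp
    · intro i _ hi
      simp [hi]
    · simp
  set α := w1 (Sum.inl b) with hαd
  have hfix : σ (α / s) = α / s := by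
    have : σ α = -α := by linear_combination hα
    rw [map_div₀, this, hss, neg_div_neg_eq]
  obtain ⟨d₀, hd₀⟩ := I.surj _ hfix
  have hd₀' : j d₀ * s = α := by
    rw [hd₀]
    field_simp
  set w2 : ι ⊕ ι → K := lgM j s b (uu (-d₀)) *ᵥ w1 with hw2
  have hw2f : ∀ r, w2 (Sum.inr r) = (Pi.single b 1 : ι → K) r := by
    intro r
    rw [hw2, lg_mv_inr]
    have hf' : w1 (Sum.inr r) = (Pi.single b 1 : ι → K) r := congrFun hw1f r
    rw [hf']
    by_cases h : r = b
    · subst h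
      simp [coe_uu]
    · simp [h, coe_uu]
  have hw2e : w2 (Sum.inl b) = 0 := by
    rw [hw2, lg_mv_inl, if_pos rfl]
    have hf' : w1 (Sum.inr b) = (Pi.single b 1 : ι → K) b := congrFun hw1f b
    rw [hf']
    simp [coe_uu, hd₀', ← hαd]
  set w3 : ι ⊕ ι → K := lgM j s b wn *ᵥ w2 with hw3
  have hw3f : w3 ∘ Sum.inr = 0 := by
    funext r
    change (lgM j s b wn *ᵥ w2) (Sum.inr r) = 0
    rw [lg_mv_inr, hw2f, hw2f, hw2e]
    by_cases h : r = b
    · subst h
      simp [coe_wn]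
    · simp [h, coe_wn]
  have hw3e : w3 (Sum.inl b) = -s := by
    rw [hw3, lg_mv_inl, if_pos rfl, hw2f, hw2e]
    simp [coe_wn]
  have hw3ne : w3 ≠ 0 := by
    intro h0
    rw [h0] at hw3e
    have : s = 0 := by
      have h1 : (0 : K) = -s := hw3e
      linear_combination h1
    exact hs this
  obtain ⟨y, hy, hy2⟩ := to_e_zero I hs hss hab w3 hw3ne hw3f
  refine ⟨y * (lgS I hs hss b wn * (lgS I hs hss b (uu (-d₀)) * levS I.invol l)), ?_, ?_⟩
  · exact mul_mem hy (mul_mem (lg_mem' I hs hss _) (mul_mem (lg_mem' I hs hss _) (lev_mem I hs hss _)))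
  · change (y.1.1 * (lgM j s b wn * (lgM j s b (uu (-d₀)) * levM σ l))) *ᵥ w = _
    rw [← mulVec_mulVec, ← mulVec_mulVec, ← mulVec_mulVec, ← hw1, ← hw2, ← hw3, hy2]

/-- The root element. -/
lemma tv_e (g : GE σ ι) {c : K} (h : IsTv (JE ι K) g (Pi.single (Sum.inl b) 1) c) :
    ∃ d, g = lgS I hs hss b (uu d) := by
  have hJ1 : fJ σ (JE ι K) (Pi.single (Sum.inr b) 1) (Pi.single (Sum.inl b) 1) = 1 := by
    rw [fJ_single]
    simp [JE]
  have hJ2 : fJ σ (JE ι K) (Pi.single (Sum.inl b) 1) (Pi.single (Sum.inr b) 1) = 1 := by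
    rw [fJ_single]
    simp [JE]
  have hJ3 : fJ σ (JE ι K) (Pi.single (Sum.inl b) 1) (Pi.single (Sum.inl b) 1) = 0 := by
    rw [fJ_single]
    simp [JE]
  have hJ4 : fJ σ (JE ι K) (Pi.single (Sum.inr b) 1) (Pi.single (Sum.inr b) 1) = 0 := by
    rw [fJ_single]
    simp [JE]
  have hc : c + σ c = 0 := by
    have h1 := fJ_mem g (Pi.single (Sum.inr b) 1) (Pi.single (Sum.inr b) 1)
    rw [h, hJ4, hJ1, mul_one, fJ_add_left, fJ_add_right, fJ_add_right, fJ_smul_left, fJ_smul_left, fJ_smul_right,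
      fJ_smul_right, hJ1, hJ2, hJ3, hJ4] at h1
    linear_combination h1
  have hfix : σ (c / s) = c / s := by
    have : σ c = -c := by linear_combination hc
    rw [map_div₀, this, hss, neg_div_neg_eq]
  obtain ⟨d, hd⟩ := I.surj _ hfix
  refine ⟨d, ?_⟩
  apply SUg_ext
  change g.1.1 = lgM j s b (uu d)
  rw [lgM_uu, hd, div_mul_cancel₀ _ hs]
  apply Matrix.ext_iff_mulVec.2
  intro x
  rw [h, fJ_JE]
  have e1 : ∑ i, (x (Sum.inl i) * σ ((Pi.single (Sum.inl b) 1 : ι ⊕ ι → K) (Sum.inr i)) +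
      x (Sum.inr i) * σ ((Pi.single (Sum.inl b) 1 : ι ⊕ ι → K) (Sum.inl i))) = x (Sum.inr b) := by
    rw [Finset.sum_eq_single b]
    · simp
    · intro i _ hi
      simp [Pi.single_apply, hi]
    · simp
  rw [e1, upM, fromBlocks_mulVec, sj_mv]
  ext (r | r)
  · by_cases h : r = b
    · subst h
      simp
    · simp [h, Pi.single_apply]
  · simp [Pi.single_apply]

/-- The generation statement. -/
theorem gen_even (hab : a ≠ b)
    (hT : Subgroup.closure {g : GE σ ι | ∃ w c, fJ σ (JE ι K) w w = 0 ∧ IsTv (JE ι K) g w c} = ⊤) :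
    Subgroup.closure (Set.range (levS (σ := σ) (ι := ι) I.invol) ∪ Set.range (lgS (ι := ι) I hs hss b)) = ⊤ := by
  rw [eq_top_iff, ← hT, Subgroup.closure_le]
  rintro g ⟨w, c, hiso, hg⟩
  change g ∈ HU I hs hss b
  by_cases hw : w = 0
  · have : g = 1 := by
      apply SUg_ext
      change g.1.1 = 1
      apply Matrix.ext_iff_mulVec.2
      intro x
      rw [hg, hw]
      simp
    rw [this]
    exact one_mem _
  · obtain ⟨y, hy, hyw⟩ := exists_to_e I hs hss hab w hw hiso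
    have h1 := hg.conj y
    rw [hyw] at h1
    obtain ⟨d, hd⟩ := tv_e I hs hss _ h1
    have e2 : g = y⁻¹ * lgS I hs hss b (uu d) * y := by
      rw [← hd]
      group
    rw [e2]
    exact mul_mem (mul_mem (inv_mem hy) (lg_mem' I hs hss _)) hy

end hyp

end Cfsg.Agent.Lib.PresU
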