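import Cfsg.Agent.Lib.PresU.Inj
import Cfsg.Agent.Lib.PresU.Surj
import Cfsg.Agent.Lib.PresSp.Theta

/-!
# The presentation of the unitary group in even degree
-/

set_option autoImplicit false
set_option linter.unusedSectionVars false
set_option linter.unusedSimpArgs false
set_option linter.style.haveILetI false

namespace Cfsg.Agent.Lib.PresU

open Matrix Cfsg.Agent.Lib.PresSp.M2 Cfsg.Agent.Lib.PresSp.Mono Cfsg.Agent.Lib.PresSLn.TwoGen
open Cfsg.Agent.Lib.PresSp.Theta (cm rq comm_of_cm cm_of_comm eq_of_rq rq_of_eq m2_gen3)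

variable {ι : Type*} [Fintype ι] [DecidableEq ι] {K : Type*} [Field K] {k : Type*} [Field k]
variable {σ : K →+* K} {j : k →+* K} {a b : ι}

/-- Words. -/
abbrev Wu (ι : Type*) [Fintype ι] [DecidableEq ι] (K : Type*) [Field K] (k : Type*) [Field k] : Type _ :=
  FreeGroup (SpecialLinearGroup ι K ⊕ M2 k)

/-- A generator from the Levi subgroup. -/
def xw (l : SpecialLinearGroup ι K) : Wu ι K k := FreeGroup.of (Sum.inl l)

/-- A generator from the long root `SL₂`. -/
def yw (g : M2 k) : Wu ι K k := FreeGroup.of (Sum.inr g)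

/-- The main relators. -/
noncomputable def mainWords (I : Inv σ j) (hab : a ≠ b) (ζ : Kˣ) (θ' : K) : List (Wu ι K k) :=
  let T := xw (k := k) (TT hab (1 : K))
  let T' := xw (k := k) (TT hab.symm (1 : K))
  let t := xw (k := k) (tt hab ζ)
  let S := xw (k := k) (pj a b a)
  let U := yw (ι := ι) (K := K) (uu (1 : k))
  let L := yw (ι := ι) (K := K) (ll (1 : k))
  let D := yw (ι := ι) (K := K) (dd (I.nU ζ))
  let W := yw (ι := ι) (K := K) (wn : M2 k)
  [cm D t,
    rq (D * T * D⁻¹) (xw (TT hab (j (((I.nU ζ)⁻¹ : kˣ) : k)))),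
    rq (t * U * t⁻¹) (yw (uu (((I.nU ζ)⁻¹ : kˣ) : k))),
    rq (S * D * S⁻¹) (xw (tt hab (jU j (I.nU ζ))) * D),
    rq (W * t * W⁻¹) (t * D),
    cm U T',
    cm L T,
    cm U (S * U * S⁻¹),
    cm L (S * U * S⁻¹),
    cm L (S * L * S⁻¹),
    rq (W * T * W⁻¹) ((S * W * S⁻¹) * T' * (S * W * S⁻¹)⁻¹),
    rq (T * U * T⁻¹) (U * (W * T * W⁻¹) * (S * U * S⁻¹)),
    rq (T * (W * T * W⁻¹) * T⁻¹) ((W * T * W⁻¹) * (S * yw (uu (I.tr (σ 1))) * S⁻¹)),
    rq (T * (W * xw (TT hab θ') * W⁻¹) * T⁻¹) ((W * xw (TT hab θ') * W⁻¹) * (S * yw (uu (I.tr (σ θ'))) * S⁻¹))]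

/-- The commuting relators for the stabiliser of a row and a column. -/
noncomputable def thetaWords (I : Inv σ j) (ζ : Kˣ) (X : List (SpecialLinearGroup ι K)) : List (Wu ι K k) :=
  X.flatMap (fun x => [cm (xw x) (yw (uu (1 : k))), cm (xw x) (yw (dd (I.nU ζ))), cm (xw x) (yw (wn : M2 k))])

lemma thetaWords_length (I : Inv σ j) (ζ : Kˣ) (X : List (SpecialLinearGroup ι K)) :
    (thetaWords I ζ X).length = 3 * X.length := by
  induction X with
  | nil => rfl
  | cons x X ih =>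
    simp only [thetaWords, List.flatMap_cons, List.length_append, List.length_cons, List.length_nil] at ih ⊢
    omega

/-- The evaluation of a word. -/
def ev {Γ : Type*} [Group Γ] (lam : SpecialLinearGroup ι K →* Γ) (mu : M2 k →* Γ) : Wu ι K k →* Γ :=
  FreeGroup.lift (Sum.elim lam mu)

@[simp] lemma ev_x {Γ : Type*} [Group Γ] (lam : SpecialLinearGroup ι K →* Γ) (mu : M2 k →* Γ)
    (l : SpecialLinearGroup ι K) : ev lam mu (xw l) = lam l := by
  simp [ev, xw]

@[simp] lemma ev_y {Γ : Type*} [Group Γ] (lam : SpecialLinearGroup ι K →* Γ) (mu : M2 k →* Γ)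
    (g : M2 k) : ev lam mu (yw g) = mu g := by
  simp [ev, yw]

lemma ev_cm {Γ : Type*} [Group Γ] (lam : SpecialLinearGroup ι K →* Γ) (mu : M2 k →* Γ) (x y : Wu ι K k) :
    ev lam mu (cm x y) = cm (ev lam mu x) (ev lam mu y) := by
  simp [cm]

lemma ev_rq {Γ : Type*} [Group Γ] (lam : SpecialLinearGroup ι K →* Γ) (mu : M2 k →* Γ) (x y : Wu ι K k) :
    ev lam mu (rq x y) = rq (ev lam mu x) (ev lam mu y) := by
  simp [rq]

variable [Finite K] [Finite k]

/-- The relators imply the abstract relations. -/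
theorem uHyp_of_words {Γ : Type*} [Group Γ] {lam : SpecialLinearGroup ι K →* Γ} {mu : M2 k →* Γ}
    (I : Inv σ j) (hab : a ≠ b) {ζ : Kˣ} (hζ : ∀ u : Kˣ, ∃ n : ℕ, ζ ^ n = u)
    (hk : ∀ u : kˣ, ∃ n : ℕ, I.nU ζ ^ n = u) {θ' : K} (hθ : σ θ' ≠ θ') (X : List (SpecialLinearGroup ι K))
    (hX : ∀ G : Subgroup (SpecialLinearGroup ι K), (∀ x ∈ X, x ∈ G) →
        ∀ A : SpecialLinearGroup ι K, A.1 *ᵥ Pi.single b 1 = Pi.single b 1 →
          Pi.single b 1 ᵥ* A.1 = Pi.single b 1 → A ∈ G)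
    (hm : ∀ l ∈ mainWords I hab ζ θ', ev lam mu l = 1) (ht : ∀ l ∈ thetaWords I ζ X, ev lam mu l = 1) :
    UHyp I lam mu hab ζ := by
  simp only [mainWords, List.forall_mem_cons, ev_cm, ev_rq, map_mul, map_inv, ev_x, ev_y] at hm
  obtain ⟨r1, r2, r3, r4, r5, r6, r7, r8, r9, r10, r11, r12, r13, r14, -⟩ := hm
  have H0 : UHyp0 I lam mu hab ζ := by
    refine ⟨hζ, hk, ?_, comm_of_cm r1, eq_of_rq r2, eq_of_rq r3, eq_of_rq r4, eq_of_rq r5, comm_of_cm r6,
      comm_of_cm r7, comm_of_cm r8, comm_of_cm r9, comm_of_cm r10, eq_of_rq r11⟩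
    intro A h1 h2 g
    -- the elements of `X` commute with everything
    have hx : ∀ x ∈ X, ∀ g, Commute (lam x) (mu g) := by
      intro x hx g
      have hx' : ∀ l ∈ [cm (xw x) (yw (uu (1 : k))), cm (xw x) (yw (dd (I.nU ζ))), cm (xw x) (yw (wn : M2 k))],
          ev lam mu l = 1 := fun l hl => ht l (List.mem_flatMap.2 ⟨x, hx, hl⟩)
      simp only [List.forall_mem_cons, ev_cm, ev_x, ev_y] at hx'
      obtain ⟨e1, e2, e3, -⟩ := hx'
      let G : Subgroup (M2 k) := (Subgroup.centralizer {lam x}).comap mu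
      have hK : G = ⊤ := by
        refine m2_gen3 hk G ?_ ?_ ?_
        · rw [Subgroup.mem_comap, Subgroup.mem_centralizer_singleton_iff]
          exact (comm_of_cm e1).symm.eq
        · rw [Subgroup.mem_comap, Subgroup.mem_centralizer_singleton_iff]
          exact (comm_of_cm e2).symm.eq
        · rw [Subgroup.mem_comap, Subgroup.mem_centralizer_singleton_iff]
          exact (comm_of_cm e3).symm.eq
      have hg : g ∈ G := by
        rw [hK]
        trivial
      rw [Subgroup.mem_comap, Subgroup.mem_centralizer_singleton_iff] at hg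
      exact Commute.symm hg
    let G : Subgroup (SpecialLinearGroup ι K) := (Subgroup.centralizer {mu g}).comap lam
    have hA : A ∈ G := by
      refine hX G (fun x hxX => ?_) A h1 h2
      rw [Subgroup.mem_comap, Subgroup.mem_centralizer_singleton_iff]
      exact (hx x hxX g).eq
    rw [Subgroup.mem_comap, Subgroup.mem_centralizer_singleton_iff] at hA
    exact hA
  have hs1 := H0.s41 (eq_of_rq r12)
  have hA : lam (TT hab 1) * zz lam mu a b hab 1 * (lam (TT hab 1))⁻¹ =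
      zz lam mu a b hab 1 * yy lam mu a b a (I.tr (σ 1)) := by
    rw [zz_ab, yy, muJ_apply]
    exact eq_of_rq r13
  have hB : lam (TT hab 1) * zz lam mu a b hab θ' * (lam (TT hab 1))⁻¹ =
      zz lam mu a b hab θ' * yy lam mu a b a (I.tr (σ θ')) := by
    rw [zz_ab, yy, muJ_apply]
    exact eq_of_rq r14
  have hss := H0.ss_ab (H0.ss1 hθ hA hB)
  refine ⟨H0, fun c d => ?_⟩
  have := H0.s4_of hs1 hss c d
  rwa [zz_ab, yy, muJ_apply] at this

/-- The coercion to matrices. -/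
def geCoe (σ : K →+* K) (ι : Type*) [Fintype ι] [DecidableEq ι] : GE σ ι →* Matrix (ι ⊕ ι) (ι ⊕ ι) K where
  toFun x := x.1.1
  map_one' := rfl
  map_mul' _ _ := rfl

/-- The relators hold in the target. -/
lemma main_target (I : Inv σ j) {s : K} (hs : s ≠ 0) (hss : σ s = -s) (hab : a ≠ b) {ζ : Kˣ}
    (hζ : ∀ u : Kˣ, ∃ n : ℕ, ζ ^ n = u) (hk : ∀ u : kˣ, ∃ n : ℕ, I.nU ζ ^ n = u) (θ' : K) :
    ∀ l ∈ mainWords I hab ζ θ', ev (levS (σ := σ) (ι := ι) I.invol) (lgS (ι := ι) I hs hss b) l = 1 := by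
  have H := uHyp0_target I hs hss hab hζ hk
  have hpj : ∀ g : M2 k, levS I.invol (pj a b a) * lgS I hs hss b g * (levS I.invol (pj a b a))⁻¹ =
      lgS I hs hss a g := fun g => lgS_conj I hs hss (mv_pj (F := K) hab a) g
  simp only [mainWords, List.forall_mem_cons, ev_cm, ev_rq, map_mul, map_inv, ev_x, ev_y]
  refine ⟨cm_of_comm H.r1, rq_of_eq H.r2, rq_of_eq H.r3, rq_of_eq H.r4, rq_of_eq H.r5, cm_of_comm H.r6,
    cm_of_comm H.r7, cm_of_comm H.r8, cm_of_comm H.r9, cm_of_comm H.r10, rq_of_eq H.r11, ?_, ?_, ?_, by simp⟩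
  · apply rq_of_eq
    rw [hpj]
    have := s4_tgt I hs hss hab (1 : K) (1 : k)
    simpa [I.nm_one] using this
  · apply rq_of_eq
    rw [hpj]
    have := ss_tgt I hs hss hab (1 : K) (1 : K)
    simpa using this
  · apply rq_of_eq
    rw [hpj]
    have := ss_tgt I hs hss hab (1 : K) θ'
    simpa using this

/-- The presentation of the unitary group. -/
theorem su_even_pres (I : Inv σ j) {s : K} (hs : s ≠ 0) (hss : σ s = -s) (hab : a ≠ b) {ζ : Kˣ}
    (hζ : ∀ u : Kˣ, ∃ n : ℕ, ζ ^ n = u) (hk : ∀ u : kˣ, ∃ n : ℕ, I.nU ζ ^ n = u) {θ' : K} (hθ : σ θ' ≠ θ')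
    (hT : Subgroup.closure {g : GE σ ι | ∃ w c, fJ σ (JE ι K) w w = 0 ∧ IsTv (JE ι K) g w c} = ⊤)
    (X : List (SpecialLinearGroup ι K))
    (hfix : ∀ x ∈ X, x.1 *ᵥ Pi.single b 1 = Pi.single b 1 ∧ Pi.single b 1 ᵥ* x.1 = Pi.single b 1)
    (hX : ∀ G : Subgroup (SpecialLinearGroup ι K), (∀ x ∈ X, x ∈ G) →
        ∀ A : SpecialLinearGroup ι K, A.1 *ᵥ Pi.single b 1 = Pi.single b 1 →
          Pi.single b 1 ᵥ* A.1 = Pi.single b 1 → A ∈ G)
    {αA αB : Type} (RA : Finset (FreeGroup αA))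
    (EA : PresentedGroup (↑RA : Set (FreeGroup αA)) ≃* SpecialLinearGroup ι K)
    (RB : Finset (FreeGroup αB)) (EB : PresentedGroup (↑RB : Set (FreeGroup αB)) ≃* M2 k) :
    ∃ R : Finset (FreeGroup (αA ⊕ αB)), R.card ≤ RA.card + RB.card + (14 + 3 * X.length) ∧
      Nonempty (PresentedGroup (↑R : Set (FreeGroup (αA ⊕ αB))) ≃* GE σ ι) := by
  obtain ⟨R, hR, hE⟩ := Cfsg.Agent.Lib.PresSp.Push.pres_push RA EA RB EB
    (levS (σ := σ) (ι := ι) I.invol) (lgS (ι := ι) I hs hss b) (gen_even I hs hss hab hT)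
    (mainWords I hab ζ θ' ++ thetaWords I ζ X) (by
      intro l hl
      rcases List.mem_append.1 hl with hl | hl
      · exact main_target I hs hss hab hζ hk θ' l hl
      · have H := uHyp0_target I hs hss hab hζ hk
        obtain ⟨x, hx, hl⟩ := List.mem_flatMap.1 hl
        obtain ⟨h1, h2⟩ := hfix x hx
        have hc := fun g => H.theta x h1 h2 g
        rcases List.mem_cons.1 hl with rfl | hl
        · change ev _ _ _ = 1
          rw [ev_cm, ev_x, ev_y]
          exact cm_of_comm (hc _)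
        rcases List.mem_cons.1 hl with rfl | hl
        · change ev _ _ _ = 1
          rw [ev_cm, ev_x, ev_y]
          exact cm_of_comm (hc _)
        rcases List.mem_cons.1 hl with rfl | hl
        · change ev _ _ _ = 1
          rw [ev_cm, ev_x, ev_y]
          exact cm_of_comm (hc _)
        · simp at hl) (by
      intro Γ _ ρ Θ φ hL hgen h1 h2
      have H : UHyp I ρ Θ hab ζ := uHyp_of_words I hab hζ hk hθ X hX
        (fun l hl => hL l (List.mem_append_left _ hl)) (fun l hl => hL l (List.mem_append_right _ hl))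
      have hinj := UHyp.injective H hs ((geCoe σ ι).comp φ)
        (fun l => by
          change (φ (ρ l)).1.1 = _
          rw [h1]
          rfl)
        (fun g => by
          change (φ (Θ g)).1.1 = _
          rw [h2]
          rfl) hgen
      intro x y hxy
      exact hinj (by
        change (φ x).1.1 = (φ y).1.1
        rw [hxy]))
  refine ⟨R, hR.trans ?_, hE⟩
  rw [List.length_append, thetaWords_length]
  simp [mainWords]

end Cfsg.Agent.Lib.PresU
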