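import Cfsg.Agent.Lib.PresU.Fld

/-!
# The abstract relations for `SU_{2n}`: the group generated by `SL_n(K)` and a long root `SL₂(k)`

First consequences: the torus action and the commuting of the long root `SL₂`s.
-/

set_option autoImplicit false

namespace Cfsg.Agent.Lib.PresU

open Matrix Cfsg.Agent.Lib.PresSp.M2 Cfsg.Agent.Lib.PresSp.Mono Cfsg.Agent.Lib.PresSLn.TwoGen
open Cfsg.Agent.Lib.PresSp.Abs (sq_ind conj_comm conj_mul conj_conj conj_one conj_inv comm_conj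
  comm_of_conj A_zero A_neg act_of_sq act_pow comm_ext)

variable {ι : Type*} [Fintype ι] [DecidableEq ι] {K : Type*} [Field K] {k : Type*} [Field k]
  {Γ : Type*} [Group Γ]
variable {a b : ι}

/-- The hypotheses: relations between the images of `SL_ι(K)` and of a long root `SL₂(k)`. -/
structure UHyp0 [Finite K] [Finite k] {σ : K →+* K} {j : k →+* K} (I : Inv σ j)
    (lam : SpecialLinearGroup ι K →* Γ) (mu : M2 k →* Γ) (hab : a ≠ b) (ζ : Kˣ) : Prop where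
  gen : ∀ u : Kˣ, ∃ n : ℕ, ζ ^ n = u
  genk : ∀ u : kˣ, ∃ n : ℕ, I.nU ζ ^ n = u
  theta : ∀ l : SpecialLinearGroup ι K, l.1 *ᵥ Pi.single b 1 = Pi.single b 1 →
    Pi.single b 1 ᵥ* l.1 = Pi.single b 1 → ∀ g, Commute (lam l) (mu g)
  r1 : Commute (mu (dd (I.nU ζ))) (lam (tt hab ζ))
  r2 : mu (dd (I.nU ζ)) * lam (TT hab 1) * (mu (dd (I.nU ζ)))⁻¹ =
    lam (TT hab (j (((I.nU ζ)⁻¹ : kˣ) : k)))
  r3 : lam (tt hab ζ) * mu (uu 1) * (lam (tt hab ζ))⁻¹ = mu (uu (((I.nU ζ)⁻¹ : kˣ) : k))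
  r4 : lam (pj a b a) * mu (dd (I.nU ζ)) * (lam (pj a b a))⁻¹ =
    lam (tt hab (jU j (I.nU ζ))) * mu (dd (I.nU ζ))
  r5 : mu wn * lam (tt hab ζ) * (mu wn)⁻¹ = lam (tt hab ζ) * mu (dd (I.nU ζ))
  r6 : Commute (mu (uu 1)) (lam (TT hab.symm 1))
  r7 : Commute (mu (ll 1)) (lam (TT hab 1))
  r8 : Commute (mu (uu 1)) (lam (pj a b a) * mu (uu 1) * (lam (pj a b a))⁻¹)
  r9 : Commute (mu (ll 1)) (lam (pj a b a) * mu (uu 1) * (lam (pj a b a))⁻¹)
  r10 : Commute (mu (ll 1)) (lam (pj a b a) * mu (ll 1) * (lam (pj a b a))⁻¹)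
  r11 : mu wn * lam (TT hab 1) * (mu wn)⁻¹ =
    (lam (pj a b a) * mu wn * (lam (pj a b a))⁻¹) * lam (TT hab.symm 1) *
      (lam (pj a b a) * mu wn * (lam (pj a b a))⁻¹)⁻¹

/-- The long root `SL₂` at the index `j`. -/
def muJ (lam : SpecialLinearGroup ι K →* Γ) (mu : M2 k →* Γ) (a b j : ι) : M2 k →* Γ :=
  (MulAut.conj (lam (pj a b j))).toMonoidHom.comp mu

lemma muJ_apply (lam : SpecialLinearGroup ι K →* Γ) (mu : M2 k →* Γ) (a b j : ι) (g : M2 k) :
    muJ lam mu a b j g = lam (pj a b j) * mu g * (lam (pj a b j))⁻¹ := rfl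

lemma muJ_b (lam : SpecialLinearGroup ι K →* Γ) (mu : M2 k →* Γ) (a b : ι) (g : M2 k) :
    muJ lam mu a b b g = mu g := by
  rw [muJ_apply, pj_self]
  simp

namespace UHyp0

variable [Finite K] [Finite k] {σ : K →+* K} {j : k →+* K} {I : Inv σ j}
  {lam : SpecialLinearGroup ι K →* Γ} {mu : M2 k →* Γ} {hab : a ≠ b} {ζ : Kˣ}
  (H : UHyp0 I lam mu hab ζ)
include H

omit H in
lemma uu_hom' (mu : M2 k →* Γ) (x y : k) : mu (uu (x + y)) = mu (uu x) * mu (uu y) := by rw [uu_add, map_mul]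

omit H in
lemma ll_hom' (mu : M2 k →* Γ) (x y : k) : mu (ll (x + y)) = mu (ll x) * mu (ll y) := by rw [ll_add, map_mul]

omit H in
lemma T_hom (lam : SpecialLinearGroup ι K →* Γ) {i j : ι} (h : i ≠ j) (x y : K) :
    lam (TT h (x + y)) = lam (TT h x) * lam (TT h y) := by rw [TT_add, map_mul]

omit H in
/-- `dd` conjugation in `mu`. -/
lemma mu_dd_uu (mu : M2 k →* Γ) (u : kˣ) (d : k) :
    mu (dd u) * mu (uu d) * (mu (dd u))⁻¹ = mu (uu ((u : k) ^ 2 * d)) := by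
  rw [← map_inv, ← map_mul, ← map_mul, dd_uu]

omit H in
lemma mu_dd_ll (mu : M2 k →* Γ) (u : kˣ) (d : k) :
    mu (dd u) * mu (ll d) * (mu (dd u))⁻¹ = mu (ll (((u⁻¹ : kˣ) : k) ^ 2 * d)) := by
  rw [← map_inv, ← map_mul, ← map_mul, dd_ll]

omit H in
lemma lam_tt_ab (lam : SpecialLinearGroup ι K →* Γ) (hab : a ≠ b) (u : Kˣ) (c : K) :
    lam (tt hab u) * lam (TT hab c) * (lam (tt hab u))⁻¹ = lam (TT hab ((u : K) ^ 2 * c)) := by
  rw [← map_inv, ← map_mul, ← map_mul, tt_conj_ab]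

omit H in
lemma lam_tt_ba (lam : SpecialLinearGroup ι K →* Γ) (hab : a ≠ b) (u : Kˣ) (c : K) :
    lam (tt hab u) * lam (TT hab.symm c) * (lam (tt hab u))⁻¹ =
      lam (TT hab.symm (((u⁻¹ : Kˣ) : K) ^ 2 * c)) := by
  rw [← map_inv, ← map_mul, ← map_mul, tt_conj_ba]

/-- D1. -/
lemma comm_H_t (u : kˣ) (v : Kˣ) : Commute (mu (dd u)) (lam (tt hab v)) := by
  obtain ⟨n, rfl⟩ := H.genk u
  obtain ⟨m, rfl⟩ := H.gen v
  rw [dd_pow, tt_pow, map_pow, map_pow]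
  exact H.r1.pow_pow n m

/-- D2. -/
lemma tt_uu (v : Kˣ) (c : k) :
    lam (tt hab v) * mu (uu c) * (lam (tt hab v))⁻¹ = mu (uu (((I.nU v)⁻¹ : kˣ) * c)) := by
  obtain ⟨n, rfl⟩ := H.gen v
  have h1 : ∀ c, lam (tt hab ζ) * mu (uu c) * (lam (tt hab ζ))⁻¹ =
      mu (uu (((I.nU ζ)⁻¹ : kˣ) * c)) := by
    intro c
    refine act_of_sq (A := fun c => mu (uu c)) (uu_hom' mu) ?_ H.r3 c
    intro w
    exact ⟨mu (dd w), H.comm_H_t w ζ, fun c => mu_dd_uu mu w c⟩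
  have h2 : lam (tt hab ζ) ^ n * mu (uu c) * (lam (tt hab ζ) ^ n)⁻¹ = _ :=
    act_pow (A := fun c => mu (uu c)) h1 n c
  rw [tt_pow, map_pow, h2]
  congr 2
  rw [map_pow]
  simp only [inv_pow, Units.val_inv_eq_inv_val, Units.val_pow_eq_pow_val]

/-- D3. -/
lemma w_tt (v : Kˣ) :
    mu wn * lam (tt hab v) * (mu wn)⁻¹ = lam (tt hab v) * mu (dd (I.nU v)) := by
  obtain ⟨n, rfl⟩ := H.gen v
  have hc : Commute (lam (tt hab ζ)) (mu (dd (I.nU ζ))) := H.r1.symm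
  have e1 : lam (tt hab (ζ ^ n)) * mu (dd (I.nU (ζ ^ n))) =
      (lam (tt hab ζ) * mu (dd (I.nU ζ))) ^ n := by
    rw [hc.mul_pow, tt_pow, map_pow, map_pow, dd_pow, map_pow]
  rw [e1, ← H.r5, tt_pow, map_pow]
  exact conj_pow.symm

/-- The conjugate of the Weyl element by the torus of the Levi subgroup. -/
lemma tt_wn (v : Kˣ) :
    lam (tt hab v) * mu wn * (lam (tt hab v))⁻¹ = mu (dd (I.nU v)⁻¹) * mu wn := by
  have h := H.w_tt (hab := hab) v⁻¹
  rw [tt_inv, map_inv, map_inv] at h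
  calc lam (tt hab v) * mu wn * (lam (tt hab v))⁻¹
      = lam (tt hab v) * (mu wn * (lam (tt hab v))⁻¹ * (mu wn)⁻¹) * mu wn := by group
    _ = _ := by rw [h]; group

/-- The torus of the Levi subgroup normalises the long root `SL₂`. -/
lemma exists_tt_mu (v : Kˣ) (g : M2 k) : ∃ g', lam (tt hab v) * mu g * (lam (tt hab v))⁻¹ = mu g' := by
  have hu : ∀ d, ∃ g', lam (tt hab v) * mu (uu d) * (lam (tt hab v))⁻¹ = mu g' :=
    fun d => ⟨_, H.tt_uu v d⟩
  have hw : ∃ g', lam (tt hab v) * mu wn * (lam (tt hab v))⁻¹ = mu g' :=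
    ⟨dd (I.nU v)⁻¹ * wn, by rw [map_mul, H.tt_wn]⟩
  refine m2_induction (P := fun g => ∃ g', lam (tt hab v) * mu g * (lam (tt hab v))⁻¹ = mu g') ?_ hu ?_ ?_ ?_ g
  · exact ⟨1, by simp⟩
  · intro d
    have e : ll d = wn * uu (-d) * wn⁻¹ := by
      rw [wn_uu, neg_neg]
    obtain ⟨g₁, h₁⟩ := hw
    obtain ⟨g₂, h₂⟩ := hu (-d)
    refine ⟨g₁ * g₂ * g₁⁻¹, ?_⟩
    rw [e, map_mul, map_mul, map_inv, map_mul, map_mul, map_inv, ← h₁, ← h₂]
    group
  · rintro x y ⟨x', hx⟩ ⟨y', hy⟩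
    refine ⟨x' * y', ?_⟩
    rw [map_mul, map_mul, ← hx, ← hy]
    group
  · rintro x ⟨x', hx⟩
    refine ⟨x'⁻¹, ?_⟩
    rw [map_inv, map_inv, ← hx]
    group

/-- D4: the element `τ_u`. -/
lemma comm_tau_wn (u : kˣ) : Commute (lam (tt hab (jU j u)) * mu (dd u)) (mu wn) := by
  have h1 := H.w_tt (hab := hab) (jU j u)
  have h2 : mu wn * mu (dd u) * (mu wn)⁻¹ = mu (dd u⁻¹) := by
    rw [← map_inv, ← map_mul, ← map_mul, wn_dd]
  have h3 : mu wn * (lam (tt hab (jU j u)) * mu (dd u)) * (mu wn)⁻¹ = lam (tt hab (jU j u)) * mu (dd u) := by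
    rw [Cfsg.Agent.Lib.PresSp.Abs.conj_mul, h1, h2, I.nU_jU, dd_mul, dd_inv, map_mul, map_inv]
    group
  symm
  change _ = _
  rw [mul_inv_eq_iff_eq_mul] at h3
  exact h3

lemma comm_tau_uu (u : kˣ) (d : k) : Commute (lam (tt hab (jU j u)) * mu (dd u)) (mu (uu d)) := by
  change _ = _
  have h : (lam (tt hab (jU j u)) * mu (dd u)) * mu (uu d) * (lam (tt hab (jU j u)) * mu (dd u))⁻¹ = mu (uu d) := by
    rw [conj_conj, mu_dd_uu, H.tt_uu, I.nU_jU]
    congr 2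
    simp only [Units.val_inv_eq_inv_val, Units.val_mul, _root_.mul_inv_rev]
    have := u.ne_zero
    field_simp
  rw [mul_inv_eq_iff_eq_mul] at h
  exact h

/-- D4. -/
lemma comm_tau (u : kˣ) (g : M2 k) : Commute (lam (tt hab (jU j u)) * mu (dd u)) (mu g) := by
  refine m2_induction (P := fun g => Commute (lam (tt hab (jU j u)) * mu (dd u)) (mu g)) ?_ ?_ ?_ ?_ ?_ g
  · rw [map_one]
    exact Commute.one_right _
  · exact H.comm_tau_uu u
  · intro d
    have e : ll d = wn * uu (-d) * wn⁻¹ := by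
      rw [wn_uu, neg_neg]
    rw [e, map_mul, map_mul, map_inv]
    exact ((H.comm_tau_wn u).mul_right (H.comm_tau_uu u (-d))).mul_right (H.comm_tau_wn u).inv_right
  · intro g h hg hh
    rw [map_mul]
    exact hg.mul_right hh
  · intro g hg
    rw [map_inv]
    exact hg.inv_right

/-- D5. -/
lemma s_dd (u : kˣ) :
    lam (pj a b a) * mu (dd u) * (lam (pj a b a))⁻¹ = lam (tt hab (jU j u)) * mu (dd u) := by
  obtain ⟨n, rfl⟩ := H.genk u
  rw [map_pow, tt_pow, dd_pow, map_pow, map_pow, ← (H.comm_H_t _ _).symm.mul_pow, ← H.r4]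
  exact conj_pow.symm

/-- D6. -/
lemma comm_t1 (g : M2 k) : Commute (lam (tt hab (-1 : Kˣ))) (mu g) := by
  have e : (-1 : Kˣ) = jU j (-1 : kˣ) := by
    apply Units.ext
    simp
  have h1 := H.comm_tau (-1 : kˣ) g
  have h2 : Commute (mu (dd (-1 : kˣ))) (mu g) := by
    change _ = _
    rw [← map_mul, ← map_mul, dd_neg_one_central]
  have := h1.mul_left h2.inv_left
  rw [e]
  simpa [mul_assoc] using this

lemma comm_Mvb {m : SpecialLinearGroup ι K} {ε : K} (h : Mv m b b ε) (g : M2 k) :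
    Commute (lam m) (mu g) := by
  rcases eps_cases h.sq with rfl | rfl
  · exact H.theta m h.col h.row g
  · have h1 := (mv_tt_neg_b (F := K) hab).mul h
    have e : (-1 : K) * -1 = 1 := by ring
    rw [e] at h1
    have h2 := H.theta _ h1.col h1.row g
    rw [map_mul] at h2
    have h3 := h2.mul_left (H.comm_t1 g).inv_left
    simpa [mul_assoc] using h3

/-- D7: conjugating the long root `SL₂`s by monomial elements. -/
lemma conj_muJ {l : SpecialLinearGroup ι K} {j' k' : ι} {ε : K} (h : Mv l j' k' ε) (g : M2 k) :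
    lam l * muJ lam mu a b j' g * (lam l)⁻¹ = muJ lam mu a b k' g := by
  have h1 := ((mv_pj (F := K) hab j').mul h).mul (mv_pj (F := K) hab k').inv
  have h2 := H.comm_Mvb h1 g
  rw [map_mul, map_mul, map_inv] at h2
  rw [muJ_apply, muJ_apply]
  have e : lam l * lam (pj a b j') = lam (pj a b k') * ((lam (pj a b k'))⁻¹ * (lam l * lam (pj a b j'))) := by
    group
  calc lam l * (lam (pj a b j') * mu g * (lam (pj a b j'))⁻¹) * (lam l)⁻¹
      = (lam l * lam (pj a b j')) * mu g * (lam l * lam (pj a b j'))⁻¹ := by group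
    _ = lam (pj a b k') * (((lam (pj a b k'))⁻¹ * (lam l * lam (pj a b j'))) * mu g *
          ((lam (pj a b k'))⁻¹ * (lam l * lam (pj a b j')))⁻¹) * (lam (pj a b k'))⁻¹ := by
        nth_rewrite 1 [e]
        nth_rewrite 1 [e]
        group
    _ = _ := by
        rw [h2.eq]
        group

/-- The action of `s` on `e_a`. -/
lemma exists_mv_s : ∃ ε : K, Mv (pj a b a : SpecialLinearGroup ι K) a b ε := by
  have h := mv_mono (F := K) (Equiv.swap b a) a a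
  rw [Equiv.swap_apply_right] at h
  exact ⟨_, h⟩

/-- D8. -/
lemma comm_H_muJa (u : kˣ) (g : M2 k) : Commute (mu (dd u)) (muJ lam mu a b a g) := by
  obtain ⟨ε, hs⟩ := H.exists_mv_s
  apply comm_of_conj (lam (pj a b a))
  rw [H.s_dd, H.conj_muJ hs, muJ_b]
  exact H.comm_tau u g

lemma tau_muJa (u : kˣ) (g : M2 k) :
    (lam (tt hab (jU j u)) * mu (dd u)) * muJ lam mu a b a g * (lam (tt hab (jU j u)) * mu (dd u))⁻¹ =
      muJ lam mu a b a (dd u * g * (dd u)⁻¹) := by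
  rw [← H.s_dd, muJ_apply, muJ_apply, map_mul, map_mul, map_inv]
  group

/-- D9. -/
lemma H_ab (u : kˣ) (c : K) :
    mu (dd u) * lam (TT hab c) * (mu (dd u))⁻¹ = lam (TT hab (j ((u⁻¹ : kˣ) : k) * c)) := by
  obtain ⟨n, rfl⟩ := H.genk u
  have h1 : ∀ c, mu (dd (I.nU ζ)) * lam (TT hab c) * (mu (dd (I.nU ζ)))⁻¹ =
      lam (TT hab (j (((I.nU ζ)⁻¹ : kˣ) : k) * c)) := by
    intro c
    refine act_of_sq (A := fun c => lam (TT hab c)) (T_hom lam hab) ?_ H.r2 c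
    intro v
    exact ⟨lam (tt hab v), (H.comm_H_t _ v).symm, fun c => lam_tt_ab lam hab v c⟩
  have h2 : mu (dd (I.nU ζ)) ^ n * lam (TT hab c) * (mu (dd (I.nU ζ)) ^ n)⁻¹ = _ :=
    act_pow (A := fun c => lam (TT hab c)) h1 n c
  rw [dd_pow, map_pow, h2]
  congr 3
  simp only [Units.val_inv_eq_inv_val, inv_pow, Units.val_pow_eq_pow_val, map_inv₀, map_pow]

lemma tau_ab (u : kˣ) (c : K) :
    (lam (tt hab (jU j u)) * mu (dd u)) * lam (TT hab c) * (lam (tt hab (jU j u)) * mu (dd u))⁻¹ =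
      lam (TT hab (j u * c)) := by
  rw [conj_conj, H.H_ab, lam_tt_ab]
  congr 2
  simp only [Units.val_inv_eq_inv_val, jU_val, map_inv₀]
  have : j (u : k) ≠ 0 := (map_ne_zero j).2 u.ne_zero
  field_simp

/-- The conjugate of `x_ab` by `s`. -/
lemma exists_s_T : ∃ η : K, η * η = 1 ∧ ∀ c,
    lam (pj a b a) * lam (TT hab c) * (lam (pj a b a))⁻¹ = lam (TT hab.symm (η * c)) := by
  obtain ⟨ε, hs⟩ := H.exists_mv_s
  have hs2 := mv_pj (F := K) hab a
  refine ⟨ε * 1, by simpa using hs.sq, fun c => ?_⟩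
  rw [← map_inv, ← map_mul, ← map_mul]
  exact congrArg lam (hs.conj_T hs2 hab hab.symm c)

lemma tau_ba (u : kˣ) (c : K) :
    (lam (tt hab (jU j u)) * mu (dd u)) * lam (TT hab.symm c) * (lam (tt hab (jU j u)) * mu (dd u))⁻¹ =
      lam (TT hab.symm (j ((u⁻¹ : kˣ) : k) * c)) := by
  obtain ⟨η, hη, hs⟩ := H.exists_s_T
  have h1 := H.H_ab u (η * c)
  have h2 := congrArg (fun x => lam (pj a b a) * x * (lam (pj a b a))⁻¹) h1
  rw [hs] at h2
  have h3 : lam (pj a b a) * (mu (dd u) * lam (TT hab (η * c)) * (mu (dd u))⁻¹) * (lam (pj a b a))⁻¹ =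
      (lam (pj a b a) * mu (dd u) * (lam (pj a b a))⁻¹) *
        (lam (pj a b a) * lam (TT hab (η * c)) * (lam (pj a b a))⁻¹) *
        (lam (pj a b a) * mu (dd u) * (lam (pj a b a))⁻¹)⁻¹ := by group
  rw [h3, hs, H.s_dd] at h2
  have e1 : η * (η * c) = c := by rw [← mul_assoc, hη, one_mul]
  have e2 : η * (j ((u⁻¹ : kˣ) : k) * (η * c)) = j ((u⁻¹ : kˣ) : k) * c := by
    calc η * (j ((u⁻¹ : kˣ) : k) * (η * c)) = (η * η) * (j ((u⁻¹ : kˣ) : k) * c) := by ring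
      _ = _ := by rw [hη, one_mul]
  rwa [e1, e2] at h2

lemma H_ba (u : kˣ) (c : K) :
    mu (dd u) * lam (TT hab.symm c) * (mu (dd u))⁻¹ = lam (TT hab.symm (j u * c)) := by
  have h1 := H.tau_ba u c
  rw [conj_conj] at h1
  have h2 := congrArg (fun x => lam (tt hab (jU j u)⁻¹) * x * (lam (tt hab (jU j u)⁻¹))⁻¹) h1
  rw [lam_tt_ba] at h2
  have e : lam (tt hab (jU j u)⁻¹) * (lam (tt hab (jU j u)) * (mu (dd u) * lam (TT hab.symm c) * (mu (dd u))⁻¹) *
      (lam (tt hab (jU j u)))⁻¹) * (lam (tt hab (jU j u)⁻¹))⁻¹ = mu (dd u) * lam (TT hab.symm c) * (mu (dd u))⁻¹ := by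
    rw [tt_inv, map_inv]
    group
  rw [e] at h2
  rw [h2]
  congr 2
  simp only [Units.val_inv_eq_inv_val, inv_inv, jU_val, map_inv₀]
  have : j (u : k) ≠ 0 := (map_ne_zero j).2 u.ne_zero
  field_simp

lemma tt_ll (v : Kˣ) (c : k) :
    lam (tt hab v) * mu (ll c) * (lam (tt hab v))⁻¹ = mu (ll (I.nm v * c)) := by
  have e : ∀ d, ll d = wn * uu (-d) * (wn : M2 k)⁻¹ := by
    intro d
    rw [wn_uu, neg_neg]
  have h1 := H.tt_wn (hab := hab) v
  have h2 := H.tt_uu (hab := hab) v (-c)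
  have h3 := mu_dd_ll mu (I.nU v)⁻¹ (((I.nU v)⁻¹ : kˣ) * c)
  calc lam (tt hab v) * mu (ll c) * (lam (tt hab v))⁻¹
      = (lam (tt hab v) * mu wn * (lam (tt hab v))⁻¹) * (lam (tt hab v) * mu (uu (-c)) * (lam (tt hab v))⁻¹) *
          (lam (tt hab v) * mu wn * (lam (tt hab v))⁻¹)⁻¹ := by
        rw [e c, map_mul, map_mul, map_inv]
        group
    _ = mu (dd (I.nU v)⁻¹) * (mu wn * mu (uu (-(((I.nU v)⁻¹ : kˣ) * c))) * (mu wn)⁻¹) * (mu (dd (I.nU v)⁻¹))⁻¹ := by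
        rw [h1, h2, mul_neg]
        group
    _ = mu (dd (I.nU v)⁻¹) * mu (ll (((I.nU v)⁻¹ : kˣ) * c)) * (mu (dd (I.nU v)⁻¹))⁻¹ := by
        rw [e (((I.nU v)⁻¹ : kˣ) * c), map_mul, map_mul, map_inv]
    _ = _ := by
        rw [h3]
        congr 2
        simp only [Units.val_inv_eq_inv_val, inv_inv, I.nU_val]
        have := I.nm_ne v.ne_zero
        field_simp

/-- A general lemma: commuting of two root groups over the two fields. -/
lemma comm_ext2 {A : k → Γ} {B : K → Γ} (hA : ∀ x y, A (x + y) = A x * A y)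
    (hB : ∀ x y, B (x + y) = B x * B y) (h11 : Commute (A 1) (B 1))
    (hS : ∀ (r : kˣ) (w : Kˣ), ∃ S : Γ, S * A 1 * S⁻¹ = A (I.nm w * (r : k) ^ 2) ∧ S * B 1 * S⁻¹ = B ((w : K) ^ 2))
    (d : k) (c : K) : Commute (A d) (B c) := by
  have step1 : ∀ (r : kˣ) (w : Kˣ), Commute (A (I.nm w * (r : k) ^ 2)) (B ((w : K) ^ 2)) := by
    intro r w
    obtain ⟨S, h1, h2⟩ := hS r w
    rw [← h1, ← h2]
    exact comm_conj S h11
  have step2 : ∀ (d : k) (w : Kˣ), Commute (A d) (B ((w : K) ^ 2)) := by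
    intro d w
    have hw := I.nm_ne w.ne_zero
    have e : d = I.nm w * (d / I.nm w) := by field_simp
    rw [e]
    refine sq_ind (P := fun d => Commute (A (I.nm w * d)) (B ((w : K) ^ 2))) ?_ ?_ ?_ (d / I.nm w)
    · rw [mul_zero, A_zero hA]
      exact Commute.one_left _
    · intro x y hx hy
      rw [mul_add, hA]
      exact hx.mul_left hy
    · intro v
      exact step1 v w
  refine sq_ind (P := fun c => Commute (A d) (B c)) ?_ ?_ ?_ c
  · rw [A_zero hB]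
    exact Commute.one_right _
  · intro x y hx hy
    rw [hB]
    exact hx.mul_right hy
  · intro w
    exact step2 d w

end UHyp0

end Cfsg.Agent.Lib.PresU
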