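import Cfsg.Agent.Lib.PresU.Abs

/-!
# The relations for `SU_{2n}`: commuting of the long root `SL₂`s and the transfer to all indices
-/

set_option autoImplicit false

namespace Cfsg.Agent.Lib.PresU

open Matrix Cfsg.Agent.Lib.PresSp.M2 Cfsg.Agent.Lib.PresSp.Mono Cfsg.Agent.Lib.PresSLn.TwoGen
open Cfsg.Agent.Lib.PresSp.Abs (sq_ind conj_comm conj_conj conj_one comm_conj
  comm_of_conj A_zero A_neg act_of_sq act_pow comm_ext)

variable {ι : Type*} [Fintype ι] [DecidableEq ι] {K : Type*} [Field K] {k : Type*} [Field k]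
  {Γ : Type*} [Group Γ]
variable {a b : ι}

namespace UHyp0

variable [Finite K] [Finite k] {σ : K →+* K} {j : k →+* K} {I : Inv σ j}
  {lam : SpecialLinearGroup ι K →* Γ} {mu : M2 k →* Γ} {hab : a ≠ b} {ζ : Kˣ}
  (H : UHyp0 I lam mu hab ζ)
include H

/-- D10. -/
lemma comm_U_ba (d : k) (c : K) : Commute (mu (uu d)) (lam (TT hab.symm c)) := by
  refine H.comm_ext2 (A := fun d => mu (uu d)) (B := fun c => lam (TT hab.symm c)) (uu_hom' mu)
    (T_hom lam hab.symm) H.r6 ?_ d c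
  intro r w
  refine ⟨mu (dd (r * r)) * lam (tt hab (jU j r * w⁻¹)), ?_, ?_⟩
  · rw [conj_conj, H.tt_uu, mu_dd_uu]
    congr 2
    simp only [map_mul, map_inv, I.nU_jU, Units.val_mul, Units.val_inv_eq_inv_val, inv_inv, I.nU_val]
    have h1 := I.nm_ne w.ne_zero
    have h2 := r.ne_zero
    field_simp
  · rw [conj_conj, lam_tt_ba, H.H_ba]
    congr 2
    simp only [Units.val_mul, Units.val_inv_eq_inv_val, jU_val, map_mul, _root_.mul_inv_rev, inv_inv, inv_pow]
    have h1 : j (r : k) ≠ 0 := (map_ne_zero j).2 r.ne_zero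
    have h2 := w.ne_zero
    field_simp

lemma comm_L_ab (d : k) (c : K) : Commute (mu (ll d)) (lam (TT hab c)) := by
  refine H.comm_ext2 (A := fun d => mu (ll d)) (B := fun c => lam (TT hab c)) (ll_hom' mu)
    (T_hom lam hab) H.r7 ?_ d c
  intro r w
  refine ⟨mu (dd (r⁻¹ * r⁻¹)) * lam (tt hab (jU j r⁻¹ * w)), ?_, ?_⟩
  · rw [conj_conj, H.tt_ll, mu_dd_ll]
    congr 2
    rw [Units.val_mul, I.nm_mul, jU_val, I.nm_j]
    simp only [Units.val_mul, Units.val_inv_eq_inv_val, inv_inv]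
    have h2 := r.ne_zero
    field_simp
  · rw [conj_conj, lam_tt_ab, H.H_ab]
    congr 2
    simp only [Units.val_mul, Units.val_inv_eq_inv_val, jU_val, map_mul, map_inv₀, _root_.mul_inv_rev, inv_inv, inv_pow]
    have h1 : j (r : k) ≠ 0 := (map_ne_zero j).2 r.ne_zero
    have h2 := w.ne_zero
    field_simp

/-- The scaling element for the pair of long root `SL₂`s. -/
lemma scale_U (v w : kˣ) (d : k) :
    (mu (dd v) * (lam (tt hab (jU j w)) * mu (dd w))) * mu (uu d) * (mu (dd v) * (lam (tt hab (jU j w)) * mu (dd w)))⁻¹ =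
      mu (uu ((v : k) ^ 2 * d)) := by
  rw [conj_conj, (H.comm_tau w (uu d)).eq, mul_inv_cancel_right, mu_dd_uu]

lemma scale_L (v w : kˣ) (d : k) :
    (mu (dd v) * (lam (tt hab (jU j w)) * mu (dd w))) * mu (ll d) * (mu (dd v) * (lam (tt hab (jU j w)) * mu (dd w)))⁻¹ =
      mu (ll (((v⁻¹ : kˣ) : k) ^ 2 * d)) := by
  rw [conj_conj, (H.comm_tau w (ll d)).eq, mul_inv_cancel_right, mu_dd_ll]

lemma scale_Ja (v w : kˣ) (g : M2 k) :
    (mu (dd v) * (lam (tt hab (jU j w)) * mu (dd w))) * muJ lam mu a b a g *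
        (mu (dd v) * (lam (tt hab (jU j w)) * mu (dd w)))⁻¹ =
      muJ lam mu a b a (dd w * g * (dd w)⁻¹) := by
  rw [conj_conj, H.tau_muJa, (H.comm_H_muJa v _).eq, mul_inv_cancel_right]

lemma comm_U_ya (d e : k) : Commute (mu (uu d)) (muJ lam mu a b a (uu e)) := by
  refine comm_ext (A := fun d => mu (uu d)) (B := fun e => muJ lam mu a b a (uu e)) (uu_hom' mu)
    (fun x y => by rw [uu_add, map_mul]) (by rw [muJ_apply]; exact H.r8) ?_ d e
  intro v w
  refine ⟨mu (dd v) * (lam (tt hab (jU j w)) * mu (dd w)), ?_, ?_⟩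
  · rw [H.scale_U, mul_one]
  · rw [H.scale_Ja, dd_uu, mul_one]

lemma comm_L_ya (d e : k) : Commute (mu (ll d)) (muJ lam mu a b a (uu e)) := by
  refine comm_ext (A := fun d => mu (ll d)) (B := fun e => muJ lam mu a b a (uu e)) (ll_hom' mu)
    (fun x y => by rw [uu_add, map_mul]) (by rw [muJ_apply]; exact H.r9) ?_ d e
  intro v w
  refine ⟨mu (dd v⁻¹) * (lam (tt hab (jU j w)) * mu (dd w)), ?_, ?_⟩
  · rw [H.scale_L, mul_one]
    simp
  · rw [H.scale_Ja, dd_uu, mul_one]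

lemma comm_L_yla (d e : k) : Commute (mu (ll d)) (muJ lam mu a b a (ll e)) := by
  refine comm_ext (A := fun d => mu (ll d)) (B := fun e => muJ lam mu a b a (ll e)) (ll_hom' mu)
    (fun x y => by rw [ll_add, map_mul]) (by rw [muJ_apply]; exact H.r10) ?_ d e
  intro v w
  refine ⟨mu (dd v⁻¹) * (lam (tt hab (jU j w⁻¹)) * mu (dd w⁻¹)), ?_, ?_⟩
  · rw [H.scale_L, mul_one]
    simp
  · rw [H.scale_Ja, dd_ll, mul_one]
    simp

lemma comm_U_yla (d e : k) : Commute (mu (uu d)) (muJ lam mu a b a (ll e)) := by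
  obtain ⟨ε, hs⟩ := H.exists_mv_s
  have h1 := comm_conj (lam (pj a b a)) (H.comm_L_ya e d)
  rw [H.conj_muJ hs, muJ_b] at h1
  exact h1.symm

/-- D11: the long root `SL₂`s at `a` and `b` commute. -/
lemma comm_mu_muJa (g g' : M2 k) : Commute (mu g) (muJ lam mu a b a g') := by
  refine m2_induction (P := fun g => Commute (mu g) (muJ lam mu a b a g')) ?_ ?_ ?_ ?_ ?_ g
  · rw [map_one]
    exact Commute.one_left _
  · intro d
    refine m2_induction (P := fun g' => Commute (mu (uu d)) (muJ lam mu a b a g')) ?_ ?_ ?_ ?_ ?_ g'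
    · rw [map_one]
      exact Commute.one_right _
    · exact H.comm_U_ya d
    · exact H.comm_U_yla d
    · intro x y hx hy
      rw [map_mul]
      exact hx.mul_right hy
    · intro x hx
      rw [map_inv]
      exact hx.inv_right
  · intro d
    refine m2_induction (P := fun g' => Commute (mu (ll d)) (muJ lam mu a b a g')) ?_ ?_ ?_ ?_ ?_ g'
    · rw [map_one]
      exact Commute.one_right _
    · exact H.comm_L_ya d
    · exact H.comm_L_yla d
    · intro x y hx hy
      rw [map_mul]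
      exact hx.mul_right hy
    · intro x hx
      rw [map_inv]
      exact hx.inv_right
  · intro x y hx hy
    rw [map_mul]
    exact hx.mul_left hy
  · intro x hx
    rw [map_inv]
    exact hx.inv_left

/-- The transfer to any ordered pair of indices. -/
lemma transfer {i j' : ι} (hij : i ≠ j') : ∃ (m : SpecialLinearGroup ι K) (η : K), η * η = 1 ∧
    (∀ c, lam m * lam (TT hab c) * (lam m)⁻¹ = lam (TT hij (η * c))) ∧
    (∀ c, lam m * lam (TT hab.symm c) * (lam m)⁻¹ = lam (TT hij.symm (η * c))) ∧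
    (∀ g, lam m * mu g * (lam m)⁻¹ = muJ lam mu a b j' g) ∧
    (∀ g, lam m * muJ lam mu a b a g * (lam m)⁻¹ = muJ lam mu a b i g) := by
  obtain ⟨m, ε, ε', h1, h2⟩ := exists_mv (F := K) a b hab hij
  refine ⟨m, ε * ε', ?_, ?_, ?_, ?_, ?_⟩
  · calc ε * ε' * (ε * ε') = (ε * ε) * (ε' * ε') := by ring
      _ = 1 := by rw [h1.sq, h2.sq, one_mul]
  · intro c
    rw [← map_inv, ← map_mul, ← map_mul]
    exact congrArg lam (h1.conj_T h2 hab hij c)
  · intro c
    rw [← map_inv, ← map_mul, ← map_mul, mul_comm ε ε']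
    exact congrArg lam (h2.conj_T h1 hab.symm hij.symm c)
  · intro g
    have := H.conj_muJ h2 g
    rwa [muJ_b] at this
  · intro g
    exact H.conj_muJ h1 g

/-- D12. -/
lemma comm_muJ {i j' : ι} (hij : i ≠ j') (g g' : M2 k) :
    Commute (muJ lam mu a b i g) (muJ lam mu a b j' g') := by
  obtain ⟨m, η, hη, -, -, h3, h4⟩ := H.transfer hij
  rw [← h3, ← h4]
  exact comm_conj _ (H.comm_mu_muJa g' g).symm

lemma hj_T {i j' : ι} (hij : i ≠ j') (u : kˣ) (c : K) :
    muJ lam mu a b j' (dd u) * lam (TT hij c) * (muJ lam mu a b j' (dd u))⁻¹ =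
      lam (TT hij (j ((u⁻¹ : kˣ) : k) * c)) := by
  obtain ⟨m, η, hη, h1, -, h3, -⟩ := H.transfer hij
  have h5 := congrArg (fun x => lam m * x * (lam m)⁻¹) (H.H_ab u (η * c))
  rw [h1] at h5
  have e : lam m * (mu (dd u) * lam (TT hab (η * c)) * (mu (dd u))⁻¹) * (lam m)⁻¹ =
      (lam m * mu (dd u) * (lam m)⁻¹) * (lam m * lam (TT hab (η * c)) * (lam m)⁻¹) *
        (lam m * mu (dd u) * (lam m)⁻¹)⁻¹ := by group
  rw [e, h1, h3] at h5
  have e1 : η * (η * c) = c := by rw [← mul_assoc, hη, one_mul]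
  have e2 : η * (j ((u⁻¹ : kˣ) : k) * (η * c)) = j ((u⁻¹ : kˣ) : k) * c := by
    calc η * (j ((u⁻¹ : kˣ) : k) * (η * c)) = (η * η) * (j ((u⁻¹ : kˣ) : k) * c) := by ring
      _ = _ := by rw [hη, one_mul]
  rwa [e1, e2] at h5

lemma hj_T' {i j' : ι} (hij : i ≠ j') (u : kˣ) (c : K) :
    muJ lam mu a b j' (dd u) * lam (TT hij.symm c) * (muJ lam mu a b j' (dd u))⁻¹ =
      lam (TT hij.symm (j u * c)) := by
  obtain ⟨m, η, hη, -, h1, h3, -⟩ := H.transfer hij
  have h5 := congrArg (fun x => lam m * x * (lam m)⁻¹) (H.H_ba u (η * c))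
  rw [h1] at h5
  have e : lam m * (mu (dd u) * lam (TT hab.symm (η * c)) * (mu (dd u))⁻¹) * (lam m)⁻¹ =
      (lam m * mu (dd u) * (lam m)⁻¹) * (lam m * lam (TT hab.symm (η * c)) * (lam m)⁻¹) *
        (lam m * mu (dd u) * (lam m)⁻¹)⁻¹ := by group
  rw [e, h1, h3] at h5
  have e1 : η * (η * c) = c := by rw [← mul_assoc, hη, one_mul]
  have e2 : η * (j (u : k) * (η * c)) = j (u : k) * c := by
    calc η * (j (u : k) * (η * c)) = (η * η) * (j (u : k) * c) := by ring
      _ = _ := by rw [hη, one_mul]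
  rwa [e1, e2] at h5

/-- Transvections commute with the long root `SL₂`s at other indices. -/
lemma comm_T_muJ {i k' j' : ι} (hik : i ≠ k') (hi : i ≠ j') (hk : k' ≠ j') (c : K) (g : M2 k) :
    Commute (lam (TT hik c)) (muJ lam mu a b j' g) := by
  have h := H.conj_muJ (Mv.T_fix (F := K) hik hi hk c) g
  change _ = _
  rw [mul_inv_eq_iff_eq_mul] at h
  exact h

lemma comm_yj_Tji {i j' : ι} (hij : i ≠ j') (d : k) (c : K) :
    Commute (muJ lam mu a b j' (uu d)) (lam (TT hij.symm c)) := by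
  obtain ⟨m, η, hη, -, h1, h3, -⟩ := H.transfer hij
  have h5 := comm_conj (lam m) (H.comm_U_ba d (η * c))
  rw [h3, h1] at h5
  have e1 : η * (η * c) = c := by rw [← mul_assoc, hη, one_mul]
  rwa [e1] at h5

lemma comm_ylj_Tij {i j' : ι} (hij : i ≠ j') (d : k) (c : K) :
    Commute (muJ lam mu a b j' (ll d)) (lam (TT hij c)) := by
  obtain ⟨m, η, hη, h1, -, h3, -⟩ := H.transfer hij
  have h5 := comm_conj (lam m) (H.comm_L_ab d (η * c))
  rw [h3, h1] at h5
  have e1 : η * (η * c) = c := by rw [← mul_assoc, hη, one_mul]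
  rwa [e1] at h5

end UHyp0

end Cfsg.Agent.Lib.PresU
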