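import Cfsg.Agent.Lib.PresU.Tgt
import Cfsg.Agent.Lib.Classical.HermTransv

/-!
# Unitary groups of Gram matrices and the standard unitary group
-/

set_option autoImplicit false
set_option linter.unusedSectionVars false
set_option linter.unusedSimpArgs false
set_option linter.style.haveILetI false

namespace Cfsg.Agent.Lib.PresU

open Matrix Cfsg.Agent.Lib.HermCount.Field

section form

variable {Ι : Type*} [Fintype Ι] [DecidableEq Ι] {K : Type*} [Field K] {σ : K →+* K}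

/-- The sesquilinear form of a Gram matrix. -/
def fJ (σ : K →+* K) (J : Matrix Ι Ι K) (x y : Ι → K) : K := x ⬝ᵥ (J *ᵥ (σ ∘ y))

lemma fJ_map_mulVec (M : Matrix Ι Ι K) (y : Ι → K) : σ ∘ (M *ᵥ y) = M.map σ *ᵥ (σ ∘ y) := by
  funext i
  exact RingHom.map_mulVec σ M y i

lemma fJ_mul (J M : Matrix Ι Ι K) (x y : Ι → K) :
    fJ σ J (M *ᵥ x) (M *ᵥ y) = fJ σ (Mᵀ * J * M.map σ) x y := by
  simp only [fJ]
  rw [fJ_map_mulVec, ← mulVec_mulVec, ← mulVec_mulVec, dotProduct_mulVec x Mᵀ, vecMul_transpose]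

lemma fJ_single (J : Matrix Ι Ι K) (r t : Ι) : fJ σ J (Pi.single r 1) (Pi.single t 1) = J r t := by
  have e : σ ∘ (Pi.single t (1 : K)) = Pi.single t 1 := by
    funext i
    by_cases h : i = t
    · subst h
      simp
    · simp [Pi.single_apply, h]
  rw [fJ, e, mulVec_single_one, single_one_dotProduct]
  rfl

lemma isU_iff (J M : Matrix Ι Ι K) :
    IsU σ J M ↔ ∀ x y, fJ σ J (M *ᵥ x) (M *ᵥ y) = fJ σ J x y := by
  constructor
  · intro h x y
    rw [fJ_mul]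
    unfold IsU at h
    rw [h]
  · intro h
    unfold IsU
    ext r t
    have := h (Pi.single r 1) (Pi.single t 1)
    rwa [fJ_mul, fJ_single, fJ_single] at this

lemma fJ_add_left (J : Matrix Ι Ι K) (x x' y : Ι → K) : fJ σ J (x + x') y = fJ σ J x y + fJ σ J x' y := by
  simp [fJ, add_dotProduct]

lemma fJ_smul_left (J : Matrix Ι Ι K) (c : K) (x y : Ι → K) : fJ σ J (c • x) y = c * fJ σ J x y := by
  simp [fJ, smul_dotProduct]

lemma fJ_add_right (J : Matrix Ι Ι K) (x y y' : Ι → K) : fJ σ J x (y + y') = fJ σ J x y + fJ σ J x y' := by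
  have e : σ ∘ (y + y') = σ ∘ y + σ ∘ y' := by
    funext i
    simp
  simp [fJ, e, mulVec_add, dotProduct_add]

lemma fJ_smul_right (J : Matrix Ι Ι K) (c : K) (x y : Ι → K) : fJ σ J x (c • y) = σ c * fJ σ J x y := by
  have e : σ ∘ (c • y) = σ c • (σ ∘ y) := by
    funext i
    simp
  simp [fJ, e, mulVec_smul, dotProduct_smul]

/-- A group element preserves the form. -/
lemma fJ_mem {J : Matrix Ι Ι K} (g : SUg σ J) (x y : Ι → K) :
    fJ σ J (g.1.1 *ᵥ x) (g.1.1 *ᵥ y) = fJ σ J x y :=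
  (isU_iff J g.1.1).1 g.2 x y

lemma coe_inv_mul {J : Matrix Ι Ι K} (g : SUg σ J) : (g⁻¹).1.1 * g.1.1 = 1 := by
  have : (g⁻¹ * g).1.1 = 1 := by
    rw [inv_mul_cancel]
    rfl
  exact this

lemma coe_mul_inv {J : Matrix Ι Ι K} (g : SUg σ J) : g.1.1 * (g⁻¹).1.1 = 1 := by
  have : (g * g⁻¹).1.1 = 1 := by
    rw [mul_inv_cancel]
    rfl
  exact this

lemma mv_inv_mul {J : Matrix Ι Ι K} (g : SUg σ J) (x : Ι → K) : (g⁻¹).1.1 *ᵥ (g.1.1 *ᵥ x) = x := by
  rw [mulVec_mulVec, coe_inv_mul, one_mulVec]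

lemma mv_mul_inv {J : Matrix Ι Ι K} (g : SUg σ J) (x : Ι → K) : g.1.1 *ᵥ ((g⁻¹).1.1 *ᵥ x) = x := by
  rw [mulVec_mulVec, coe_mul_inv, one_mulVec]

/-- Being a transvection along `w` with parameter `c`. -/
def IsTv (J : Matrix Ι Ι K) (g : SUg σ J) (w : Ι → K) (c : K) : Prop :=
  ∀ x, g.1.1 *ᵥ x = x + (c * fJ σ J x w) • w

/-- The conjugate of a transvection. -/
lemma IsTv.conj {J : Matrix Ι Ι K} {g : SUg σ J} {w : Ι → K} {c : K} (h : IsTv J g w c) (y : SUg σ J) :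
    IsTv J (y * g * y⁻¹) (y.1.1 *ᵥ w) c := by
  intro x
  change (y.1.1 * g.1.1 * (y⁻¹).1.1) *ᵥ x = _
  rw [← mulVec_mulVec, ← mulVec_mulVec, h, mulVec_add, mulVec_smul, mv_mul_inv]
  congr 3
  nth_rewrite 2 [← mv_mul_inv y x]
  rw [fJ_mem]

end form

section bridge

section mats
variable {Ι Ι' : Type*} [Fintype Ι] [DecidableEq Ι] [Fintype Ι'] [DecidableEq Ι'] {F : Type*} [Field F]

lemma cj_mv (P : Matrix Ι Ι' F) (P' : Matrix Ι' Ι F) (A : Matrix Ι' Ι' F) (w : Ι → F) :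
    (P * A * P') *ᵥ w = P *ᵥ (A *ᵥ (P' *ᵥ w)) := by
  rw [mulVec_mulVec, mulVec_mulVec, Matrix.mul_assoc]

lemma cj_cj {P : Matrix Ι Ι' F} {P' : Matrix Ι' Ι F} (h2 : P' * P = 1) (A : Matrix Ι' Ι' F) :
    P' * (P * A * P') * P = A := by
  have : P' * (P * A * P') * P = (P' * P) * A * (P' * P) := by simp only [Matrix.mul_assoc]
  rw [this, h2, Matrix.one_mul, Matrix.mul_one]

lemma cj_mul {P : Matrix Ι Ι' F} {P' : Matrix Ι' Ι F} (h2 : P' * P = 1) (A B : Matrix Ι' Ι' F) :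
    P * (A * B) * P' = P * A * P' * (P * B * P') := by
  have : P * A * P' * (P * B * P') = P * A * (P' * P) * B * P' := by simp only [Matrix.mul_assoc]
  rw [this, h2, Matrix.mul_one]
  simp only [Matrix.mul_assoc]

lemma cj_mv2 {P : Matrix Ι Ι' F} {P' : Matrix Ι' Ι F} (h1 : P * P' = 1) (A : Matrix Ι Ι F) (w : Ι' → F) :
    P *ᵥ ((P' * A * P) *ᵥ w) = A *ᵥ (P *ᵥ w) := by
  rw [mulVec_mulVec, mulVec_mulVec]
  have : P * (P' * A * P) = (P * P') * A * P := by simp only [Matrix.mul_assoc]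
  rw [this, h1, Matrix.one_mul]

end mats

variable {F : Type*} [Field F] [Fintype F] {q : ℕ} (hF : Fintype.card F = q ^ 2)
variable {Ι : Type*} [Fintype Ι] [DecidableEq Ι] {n : ℕ}

/-- The isomorphism of unitary groups of isometric forms. -/
theorem su_bridge {J : Matrix Ι Ι F} {P : Matrix (Fin n) Ι F} {P' : Matrix Ι (Fin n) F} (h1 : P * P' = 1)
    (h2 : P' * P = 1)
    (hP : ∀ x y, Cfsg.hermForm n F q (P *ᵥ x) (P *ᵥ y) = fJ (frobHom hF) J x y) :
    ∃ e : SUg (frobHom hF) J ≃* ↥(Cfsg.SU n F q), (∀ g, (e g).1.1 = P * g.1.1 * P') ∧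
      (∀ g, (e.symm g).1.1 = P' * g.1.1 * P) := by
  have hPP : ∀ u : Fin n → F, P *ᵥ (P' *ᵥ u) = u := by
    intro u
    rw [mulVec_mulVec, h1, one_mulVec]
  have hPP' : ∀ u : Ι → F, P' *ᵥ (P *ᵥ u) = u := by
    intro u
    rw [mulVec_mulVec, h2, one_mulVec]
  have toF : ∀ g : SUg (frobHom hF) J, (P * g.1.1 * P').det = 1 := by
    intro g
    rw [det_conj_of_mul_eq_one h1 h2]
    exact g.1.2
  have toB : ∀ g : ↥(Cfsg.SU n F q), (P' * g.1.1 * P).det = 1 := by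
    intro g
    rw [det_conj_of_mul_eq_one h2 h1]
    exact g.1.2
  refine ⟨
    { toFun := fun g => ⟨⟨P * g.1.1 * P', toF g⟩, fun u v => ?_⟩
      invFun := fun g => ⟨⟨P' * g.1.1 * P, toB g⟩, ?_⟩
      left_inv := fun g => ?_
      right_inv := fun g => ?_
      map_mul' := fun a b => ?_ }, fun _ => rfl, fun _ => rfl⟩
  · change Cfsg.hermForm n F q ((P * g.1.1 * P') *ᵥ u) ((P * g.1.1 * P') *ᵥ v) = _
    rw [cj_mv, cj_mv, hP, fJ_mem, ← hP, hPP, hPP]
  · change IsU _ _ _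
    rw [isU_iff]
    intro u v
    rw [← hP, ← hP u v]
    rw [cj_mv2 h1, cj_mv2 h1]
    exact g.2 (P *ᵥ u) (P *ᵥ v)
  · apply SUg_ext
    change P' * (P * g.1.1 * P') * P = g.1.1
    exact cj_cj h2 _
  · apply Subtype.ext
    apply Subtype.ext
    change P * (P' * g.1.1 * P) * P' = g.1.1
    exact cj_cj h1 _
  · apply Subtype.ext
    apply Subtype.ext
    change P * (a.1.1 * b.1.1) * P' = P * a.1.1 * P' * (P * b.1.1 * P')
    exact cj_mul h2 _ _

/-- The transvections generate the unitary group of a Gram matrix. -/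
theorem closure_tv {J : Matrix Ι Ι F} {P : Matrix (Fin n) Ι F} {P' : Matrix Ι (Fin n) F} (h1 : P * P' = 1)
    (h2 : P' * P = 1)
    (hP : ∀ x y, Cfsg.hermForm n F q (P *ᵥ x) (P *ᵥ y) = fJ (frobHom hF) J x y)
    (hn : 3 ≤ n) (h32 : ¬ (n = 3 ∧ q = 2)) :
    Subgroup.closure {g : SUg (frobHom hF) J | ∃ w c, fJ (frobHom hF) J w w = 0 ∧ IsTv J g w c} = ⊤ := by
  classical
  obtain ⟨e, he, he'⟩ := su_bridge hF h1 h2 hP
  have hT := Cfsg.Agent.Lib.Classical.HermTransv.closure_transv_SU hF n hn h32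
  have hle : Subgroup.closure {A : ↥(Cfsg.SU n F q) | ∃ (v : Fin n → F) (c : F),
      Cfsg.hermForm n F q v v = 0 ∧
        ((A : Matrix.SpecialLinearGroup (Fin n) F) : Matrix (Fin n) (Fin n) F) =
          Cfsg.unitaryTransvection n q v c} ≤
      (Subgroup.closure {g : SUg (frobHom hF) J | ∃ w c, fJ (frobHom hF) J w w = 0 ∧ IsTv J g w c}).comap
        e.symm.toMonoidHom := by
    rw [Subgroup.closure_le]
    rintro A ⟨v, c, hv, hA⟩
    apply Subgroup.subset_closure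
    have hPw : P *ᵥ (P' *ᵥ v) = v := by
      rw [mulVec_mulVec, h1, one_mulVec]
    refine ⟨P' *ᵥ v, c, ?_, ?_⟩
    · rw [← hP, hPw, hv]
    · intro x
      change (e.symm A).1.1 *ᵥ x = _
      rw [he', ← hP, hPw, ← mulVec_mulVec, ← mulVec_mulVec]
      have hA' : A.1.1 = Cfsg.unitaryTransvection n q v c := hA
      rw [hA', Cfsg.Agent.Lib.Classical.HermTransv.transv_mulVec, mulVec_add, mulVec_smul, mulVec_mulVec,
        h2, one_mulVec]
  rw [eq_top_iff]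
  intro g _
  have h3 : e g ∈ (⊤ : Subgroup ↥(Cfsg.SU n F q)) := trivial
  rw [← hT] at h3
  have h4 := hle h3
  simpa using h4

end bridge

end Cfsg.Agent.Lib.PresU
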