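import Cfsg.Agent.Lib.PresU.Zz

/-!
# The decomposition of the group into double cosets of the Siegel parabolic
-/

set_option autoImplicit false

namespace Cfsg.Agent.Lib.PresU

open Matrix Cfsg.Agent.Lib.PresSp.M2 Cfsg.Agent.Lib.PresSp.Mono Cfsg.Agent.Lib.PresSLn.TwoGen
open Cfsg.Agent.Lib.PresSp.Abs (conj_conj)
open UHyp0

variable {ι : Type*} [Fintype ι] [DecidableEq ι] {K : Type*} [Field K] {k : Type*} [Field k]
  {Γ : Type*} [Group Γ]
variable {a b : ι}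

/-- The group generated by the long root elements and the short root elements `ε_i + ε_j`. -/
def Qq (lam : SpecialLinearGroup ι K →* Γ) (mu : M2 k →* Γ) (a b : ι) : Subgroup Γ :=
  Subgroup.closure ({g | ∃ k' d, g = yy lam mu a b k' d} ∪
    {g | ∃ (i j : ι) (h : i ≠ j) (d : K), g = zz lam mu a b h d})

/-- The Siegel parabolic. -/
def Pp (lam : SpecialLinearGroup ι K →* Γ) (mu : M2 k →* Γ) : Subgroup Γ :=
  Subgroup.closure (Set.range lam ∪ {g | ∃ d, g = mu (uu d)} ∪ {g | ∃ u, g = mu (dd u)})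

/-- The part of `Qq` commuting with the upper root elements at `b`, which is normalised by `mu`. -/
def Qr (lam : SpecialLinearGroup ι K →* Γ) (mu : M2 k →* Γ) (a b : ι) : Subgroup Γ :=
  Subgroup.closure ({g | ∃ k' d, k' ≠ b ∧ g = yy lam mu a b k' d} ∪
    {g | ∃ (i j : ι) (h : i ≠ j) (d : K), g = zz lam mu a b h d})

/-- The unipotent radical of the stabiliser of the span of the `e_k`, `k' ≠ b`. -/
def Nn (lam : SpecialLinearGroup ι K →* Γ) (mu : M2 k →* Γ) (a b : ι) : Subgroup Γ :=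
  Subgroup.closure ({g | ∃ k' d, k' ≠ b ∧ g = yy lam mu a b k' d} ∪
    {g | ∃ (i j : ι) (h : i ≠ j) (d : K), g = zz lam mu a b h d} ∪
    {g | ∃ (k' : ι) (h : k' ≠ b) (d : K), g = lam (TT h d)})

/-- The product of the Weyl elements along a list. -/
def nR (lam : SpecialLinearGroup ι K →* Γ) (mu : M2 k →* Γ) (a b : ι) (R : List ι) : Γ :=
  (R.map (fun j => muJ lam mu a b j wn)).prod

lemma conj_closure_mem (g : Γ) {S : Set Γ} {K : Subgroup Γ} (h : ∀ s ∈ S, g * s * g⁻¹ ∈ K) {y : Γ}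
    (hy : y ∈ Subgroup.closure S) : g * y * g⁻¹ ∈ K := by
  induction hy using Subgroup.closure_induction with
  | mem y hy => exact h y hy
  | one => simp [K.one_mem]
  | mul y z _ _ hy hz =>
    have : g * (y * z) * g⁻¹ = (g * y * g⁻¹) * (g * z * g⁻¹) := by group
    rw [this]
    exact K.mul_mem hy hz
  | inv y _ hy =>
    have : g * y⁻¹ * g⁻¹ = (g * y * g⁻¹)⁻¹ := by group
    rw [this]
    exact K.inv_mem hy

namespace UHyp

variable [Finite K] [Finite k] {σ : K →+* K} {j : k →+* K} {I : Inv σ j}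
  {lam : SpecialLinearGroup ι K →* Γ} {mu : M2 k →* Γ} {hab : a ≠ b} {ζ : Kˣ}
  (H : UHyp I lam mu hab ζ)

section mem

omit [Finite K] [Finite k]

lemma lam_mem_Pp (l : SpecialLinearGroup ι K) : lam l ∈ Pp lam mu :=
  Subgroup.subset_closure (Or.inl (Or.inl ⟨l, rfl⟩))

lemma uu_mem_Pp (d : k) : mu (uu d) ∈ Pp lam mu :=
  Subgroup.subset_closure (Or.inl (Or.inr ⟨d, rfl⟩))

lemma dd_mem_Pp (u : kˣ) : mu (dd u) ∈ Pp lam mu :=
  Subgroup.subset_closure (Or.inr ⟨u, rfl⟩)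

lemma yy_mem_Pp (k' : ι) (d : k) : yy lam mu a b k' d ∈ Pp lam mu := by
  rw [yy, muJ_apply]
  exact mul_mem (mul_mem (lam_mem_Pp _) (uu_mem_Pp _)) (inv_mem (lam_mem_Pp _))

lemma muJ_dd_mem_Pp (k' : ι) (u : kˣ) : muJ lam mu a b k' (dd u) ∈ Pp lam mu := by
  rw [muJ_apply]
  exact mul_mem (mul_mem (lam_mem_Pp _) (dd_mem_Pp _)) (inv_mem (lam_mem_Pp _))

lemma yy_mem_Qq (k' : ι) (d : k) : yy lam mu a b k' d ∈ Qq lam mu a b :=
  Subgroup.subset_closure (Or.inl ⟨k', d, rfl⟩)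

lemma zz_mem_Qq {i j : ι} (h : i ≠ j) (d : K) : zz lam mu a b h d ∈ Qq lam mu a b :=
  Subgroup.subset_closure (Or.inr ⟨i, j, h, d, rfl⟩)

lemma yy_mem_Qr {k' : ι} (hk : k' ≠ b) (d : k) : yy lam mu a b k' d ∈ Qr lam mu a b :=
  Subgroup.subset_closure (Or.inl ⟨k', d, hk, rfl⟩)

lemma zz_mem_Qr {i j : ι} (h : i ≠ j) (d : K) : zz lam mu a b h d ∈ Qr lam mu a b :=
  Subgroup.subset_closure (Or.inr ⟨i, j, h, d, rfl⟩)

lemma yy_mem_Nn {k' : ι} (hk : k' ≠ b) (d : k) : yy lam mu a b k' d ∈ Nn lam mu a b :=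
  Subgroup.subset_closure (Or.inl (Or.inl ⟨k', d, hk, rfl⟩))

lemma zz_mem_Nn {i j : ι} (h : i ≠ j) (d : K) : zz lam mu a b h d ∈ Nn lam mu a b :=
  Subgroup.subset_closure (Or.inl (Or.inr ⟨i, j, h, d, rfl⟩))

lemma T_mem_Nn {k' : ι} (h : k' ≠ b) (d : K) : lam (TT h d) ∈ Nn lam mu a b :=
  Subgroup.subset_closure (Or.inr ⟨k', h, d, rfl⟩)

lemma Qr_le_Nn : Qr lam mu a b ≤ Nn lam mu a b := by
  rw [Qr, Subgroup.closure_le]
  rintro _ (⟨k', d, hk, rfl⟩ | ⟨i, j, h, d, rfl⟩)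
  · exact yy_mem_Nn hk d
  · exact zz_mem_Nn h d

lemma nR_nil : nR lam mu a b [] = 1 := rfl

lemma nR_cons (j : ι) (R : List ι) :
    nR lam mu a b (j :: R) = muJ lam mu a b j wn * nR lam mu a b R := by
  simp [nR]

end mem

include H

lemma zz_mem_Pp {i j : ι} (h : i ≠ j) (d : K) : zz lam mu a b h d ∈ Pp lam mu := by
  have e := H.s4 h d 1
  simp only [map_one, mul_one] at e
  have e2 : zz lam mu a b h d = (yy lam mu a b j 1)⁻¹ * (lam (TT h d) * yy lam mu a b j 1 * (lam (TT h d))⁻¹) *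
      (yy lam mu a b i (I.nm d))⁻¹ := by
    rw [e]
    group
  rw [e2]
  exact mul_mem (mul_mem (inv_mem (yy_mem_Pp _ _)) (mul_mem (mul_mem (lam_mem_Pp _) (yy_mem_Pp _ _))
    (inv_mem (lam_mem_Pp _)))) (inv_mem (yy_mem_Pp _ _))

lemma Qq_le_Pp : Qq lam mu a b ≤ Pp lam mu := by
  rw [Qq, Subgroup.closure_le]
  rintro _ (⟨k', d, rfl⟩ | ⟨i, j, h, d, rfl⟩)
  · exact yy_mem_Pp k' d
  · exact H.zz_mem_Pp h d

lemma Nn_le_Pp : Nn lam mu a b ≤ Pp lam mu := by
  rw [Nn, Subgroup.closure_le]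
  rintro _ ((⟨k', d, hk, rfl⟩ | ⟨i, j, h, d, rfl⟩) | ⟨k', h, d, rfl⟩)
  · exact yy_mem_Pp k' d
  · exact H.zz_mem_Pp h d
  · exact lam_mem_Pp _

/-- A transvection normalises `Qq`. -/
lemma conj_T_Qq {i j : ι} (hij : i ≠ j) (c : K) {q : Γ} (hq : q ∈ Qq lam mu a b) :
    lam (TT hij c) * q * (lam (TT hij c))⁻¹ ∈ Qq lam mu a b := by
  refine conj_closure_mem _ ?_ hq
  rintro _ (⟨k', d, rfl⟩ | ⟨k', l, hkl, d, rfl⟩)
  · by_cases hk : k' = j
    · subst hk
      rw [H.s4 hij c d]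
      exact mul_mem (mul_mem (yy_mem_Qq _ _) (zz_mem_Qq _ _)) (yy_mem_Qq _ _)
    · have hc : Commute (lam (TT hij c)) (yy lam mu a b k' d) := by
        by_cases hk2 : k' = i
        · subst hk2
          exact (H.comm_yj_Tji hij.symm d c).symm
        · exact H.comm_T_muJ hij (Ne.symm hk2) (Ne.symm hk) c _
      rw [hc.eq, mul_inv_cancel_right]
      exact yy_mem_Qq _ _
  · -- the short root elements
    have hcomm : ∀ {x : Γ}, Commute (lam (TT hij c)) x → x ∈ Qq lam mu a b →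
        lam (TT hij c) * x * (lam (TT hij c))⁻¹ ∈ Qq lam mu a b := by
      intro x hx hm
      rw [hx.eq, mul_inv_cancel_right]
      exact hm
    by_cases h1 : l = j
    · subst h1
      by_cases h2 : k' = i
      · subst h2
        rw [H.ss hkl c d]
        exact mul_mem (zz_mem_Qq _ _) (yy_mem_Qq _ _)
      · rw [H.zz_symm hkl, H.conj_T_zz_next hij hkl.symm (Ne.symm h2) c _]
        exact mul_mem (zz_mem_Qq _ _) (zz_mem_Qq _ _)
    by_cases h3 : k' = j
    · subst h3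
      by_cases h4 : l = i
      · subst h4
        rw [H.zz_symm hkl, H.ss hkl.symm c _]
        exact mul_mem (zz_mem_Qq _ _) (yy_mem_Qq _ _)
      · rw [H.conj_T_zz_next hij hkl (Ne.symm h4) c d]
        exact mul_mem (zz_mem_Qq _ _) (zz_mem_Qq _ _)
    by_cases h5 : k' = i
    · subst h5
      exact hcomm (H.comm_T_zz_row hij hkl (Ne.symm h1) c d) (zz_mem_Qq _ _)
    by_cases h6 : l = i
    · subst h6
      rw [H.zz_symm hkl]
      exact hcomm (H.comm_T_zz_row hij hkl.symm (Ne.symm h3) c _) (zz_mem_Qq _ _)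
    · exact hcomm (H.comm_T_zz_disj hij hkl (Ne.symm h5) (Ne.symm h6) (Ne.symm h3) (Ne.symm h1) c d)
        (zz_mem_Qq _ _)

omit H in
/-- The index type is non-trivial. -/
lemma nontriv (hab : a ≠ b) : Nontrivial ι := ⟨a, b, hab⟩

/-- `lam` normalises `Qq`. -/
lemma conj_lam_Qq (l : SpecialLinearGroup ι K) {q : Γ} (hq : q ∈ Qq lam mu a b) :
    lam l * q * (lam l)⁻¹ ∈ Qq lam mu a b := by
  haveI := nontriv hab
  revert q
  refine Cfsg.Agent.Lib.Classical.Transvections.transvection_induction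
    (fun l => ∀ {q : Γ}, q ∈ Qq lam mu a b → lam l * q * (lam l)⁻¹ ∈ Qq lam mu a b) l ?_ ?_
  · intro i j hij c q hq
    exact H.conj_T_Qq hij c hq
  · intro A B hA hB q hq
    have := hA (hB hq)
    rw [map_mul, conj_conj]
    exact this

/-- The torus normalises `Qq`. -/
lemma conj_H_Qq (u : kˣ) {q : Γ} (hq : q ∈ Qq lam mu a b) :
    mu (dd u) * q * (mu (dd u))⁻¹ ∈ Qq lam mu a b := by
  have hb : ∀ g, mu g = muJ lam mu a b b g := fun g => (muJ_b lam mu a b g).symm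
  refine conj_closure_mem _ ?_ hq
  rintro _ (⟨k', d, rfl⟩ | ⟨k', l, hkl, d, rfl⟩)
  · by_cases hk : k' = b
    · subst hk
      rw [yy, muJ_b, mu_dd_uu, ← muJ_b lam mu a k', ← yy]
      exact yy_mem_Qq _ _
    · have hc : Commute (mu (dd u)) (yy lam mu a b k' d) := by
        rw [hb]
        exact H.comm_muJ (Ne.symm hk) _ _
      rw [hc.eq, mul_inv_cancel_right]
      exact yy_mem_Qq _ _
  · by_cases h1 : l = b
    · subst h1
      rw [hb, H.hj_zz hkl u d]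
      exact zz_mem_Qq _ _
    by_cases h2 : k' = b
    · subst h2
      rw [H.zz_symm hkl, hb, H.hj_zz hkl.symm u _]
      exact zz_mem_Qq _ _
    · have hc : Commute (mu (dd u)) (zz lam mu a b hkl d) := by
        rw [hb]
        exact H.comm_muJ_zz hkl (Ne.symm h2) (Ne.symm h1) _ _
      rw [hc.eq, mul_inv_cancel_right]
      exact zz_mem_Qq _ _

/-- The torus normalises the image of `lam`. -/
lemma H_lam (u : kˣ) (l : SpecialLinearGroup ι K) : ∃ l', mu (dd u) * lam l * (mu (dd u))⁻¹ = lam l' := by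
  haveI := nontriv hab
  have hb : ∀ g, mu g = muJ lam mu a b b g := fun g => (muJ_b lam mu a b g).symm
  refine Cfsg.Agent.Lib.Classical.Transvections.transvection_induction
    (fun l => ∃ l', mu (dd u) * lam l * (mu (dd u))⁻¹ = lam l') l ?_ ?_
  · intro i j hij c
    by_cases h1 : j = b
    · subst h1
      rw [hb]
      exact ⟨_, H.hj_T hij u c⟩
    by_cases h2 : i = b
    · subst h2
      rw [hb]
      exact ⟨_, H.hj_T' hij.symm u c⟩
    · refine ⟨TT hij c, ?_⟩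
      have hc : Commute (mu (dd u)) (lam (TT hij c)) := by
        rw [hb]
        exact (H.comm_T_muJ hij h2 h1 c _).symm
      rw [hc.eq, mul_inv_cancel_right]
  · rintro A B ⟨A', hA⟩ ⟨B', hB⟩
    refine ⟨A' * B', ?_⟩
    rw [map_mul, map_mul, ← hA, ← hB]
    group

/-- The decomposition of the Siegel parabolic. -/
lemma dec_P {p : Γ} (hp : p ∈ Pp lam mu) :
    ∃ q ∈ Qq lam mu a b, ∃ (u : kˣ) (l : SpecialLinearGroup ι K), p = q * mu (dd u) * lam l := by
  have step : ∀ x ∈ (Set.range lam ∪ {g | ∃ d, g = mu (uu d)} ∪ {g | ∃ u, g = mu (dd u)} : Set Γ), ∀ y : Γ,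
      (∃ q ∈ Qq lam mu a b, ∃ (u : kˣ) (l : SpecialLinearGroup ι K), y = q * mu (dd u) * lam l) →
      ∃ q ∈ Qq lam mu a b, ∃ (u : kˣ) (l : SpecialLinearGroup ι K), x * y = q * mu (dd u) * lam l := by
    rintro x hx y ⟨q, hq, u, l, rfl⟩
    rcases hx with (⟨l₀, rfl⟩ | ⟨d, rfl⟩) | ⟨v, rfl⟩
    · obtain ⟨l', hl'⟩ := H.H_lam u⁻¹ l₀
      have e : lam l₀ * mu (dd u) = mu (dd u) * lam l' := by
        rw [← hl', dd_inv, map_inv]
        group
      refine ⟨lam l₀ * q * (lam l₀)⁻¹, H.conj_lam_Qq l₀ hq, u, l' * l, ?_⟩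
      rw [map_mul]
      calc lam l₀ * (q * mu (dd u) * lam l)
          = lam l₀ * q * (lam l₀)⁻¹ * (lam l₀ * mu (dd u)) * lam l := by group
        _ = _ := by rw [e]; group
    · refine ⟨mu (uu d) * q, mul_mem ?_ hq, u, l, by group⟩
      have := yy_mem_Qq (lam := lam) (mu := mu) (a := a) (b := b) b d
      rwa [yy, muJ_b] at this
    · refine ⟨mu (dd v) * q * (mu (dd v))⁻¹, H.conj_H_Qq v hq, v * u, l, ?_⟩
      rw [dd_mul, map_mul]
      group
  induction hp using Subgroup.closure_induction_left with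
  | one => exact ⟨1, one_mem _, 1, 1, by simp [dd_one]⟩
  | mul_left x hx y _ ih => exact step x hx y ih
  | inv_mul_cancel x hx y _ ih =>
    refine step x⁻¹ ?_ y ih
    rcases hx with (⟨l₀, rfl⟩ | ⟨d, rfl⟩) | ⟨v, rfl⟩
    · exact Or.inl (Or.inl ⟨l₀⁻¹, map_inv _ _⟩)
    · exact Or.inl (Or.inr ⟨-d, by rw [uu_neg, map_inv]⟩)
    · exact Or.inr ⟨v⁻¹, by rw [dd_inv, map_inv]⟩

/-- The decomposition of `Qq`. -/
lemma dec_Q {q : Γ} (hq : q ∈ Qq lam mu a b) : ∃ n ∈ Qr lam mu a b, ∃ d, q = n * mu (uu d) := by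
  have hcomm : ∀ (e : k), ∀ n ∈ Qr lam mu a b, Commute (mu (uu e)) n := by
    intro e n hn
    have hb : mu (uu e) = yy lam mu a b b e := (muJ_b lam mu a b _).symm
    rw [hb]
    induction hn using Subgroup.closure_induction with
    | mem n hn =>
      rcases hn with ⟨k', d, hk, rfl⟩ | ⟨i, j, h, d, rfl⟩
      · exact H.comm_yy _ _ _ _
      · exact H.comm_yy_zz _ _ _ _
    | one => exact Commute.one_right _
    | mul x y _ _ hx hy => exact hx.mul_right hy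
    | inv x _ hx => exact hx.inv_right
  have step : ∀ x ∈ ({g | ∃ k' d, g = yy lam mu a b k' d} ∪
      {g | ∃ (i j : ι) (h : i ≠ j) (d : K), g = zz lam mu a b h d} : Set Γ), ∀ y : Γ,
      (∃ n ∈ Qr lam mu a b, ∃ d, y = n * mu (uu d)) →
      ∃ n ∈ Qr lam mu a b, ∃ d, x * y = n * mu (uu d) := by
    rintro x hx y ⟨n, hn, d, rfl⟩
    rcases hx with ⟨k', e, rfl⟩ | ⟨i, j, h, e, rfl⟩
    · by_cases hk : k' = b
      · subst hk
        refine ⟨n, hn, e + d, ?_⟩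
        rw [yy, muJ_b, uu_add, map_mul, ← mul_assoc, (hcomm e n hn).eq, mul_assoc]
      · exact ⟨yy lam mu a b k' e * n, mul_mem (yy_mem_Qr hk e) hn, d, by group⟩
    · exact ⟨zz lam mu a b h e * n, mul_mem (zz_mem_Qr h e) hn, d, by group⟩
  induction hq using Subgroup.closure_induction_left with
  | one => exact ⟨1, one_mem _, 0, by simp [uu_zero]⟩
  | mul_left x hx y _ ih => exact step x hx y ih
  | inv_mul_cancel x hx y _ ih =>
    refine step x⁻¹ ?_ y ih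
    rcases hx with ⟨k', e, rfl⟩ | ⟨i, j, h, e, rfl⟩
    · exact Or.inl ⟨k', -e, (yy_neg k' e).symm⟩
    · exact Or.inr ⟨i, j, h, -e, (zz_neg h e).symm⟩

/-- `mu` normalises `Nn`. -/
lemma conj_mu_Nn (g : M2 k) : ∀ {n : Γ}, n ∈ Nn lam mu a b → mu g * n * (mu g)⁻¹ ∈ Nn lam mu a b := by
  have hb : ∀ g, mu g = muJ lam mu a b b g := fun g => (muJ_b lam mu a b g).symm
  have hU : ∀ (d : k) {n : Γ}, n ∈ Nn lam mu a b → mu (uu d) * n * (mu (uu d))⁻¹ ∈ Nn lam mu a b := by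
    intro d n hn
    refine conj_closure_mem _ ?_ hn
    have hyb : mu (uu d) = yy lam mu a b b d := hb _
    rw [hyb]
    rintro _ ((⟨k', e, hk, rfl⟩ | ⟨i, j, h, e, rfl⟩) | ⟨k', h, e, rfl⟩)
    · rw [(H.comm_yy b k' d e).eq, mul_inv_cancel_right]
      exact yy_mem_Nn hk e
    · rw [(H.comm_yy_zz b h d e).eq, mul_inv_cancel_right]
      exact zz_mem_Nn h e
    · rw [H.yy_conj_T h d e]
      exact mul_mem (mul_mem (zz_mem_Nn _ _) (yy_mem_Nn h _)) (T_mem_Nn h _)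
  have hL : ∀ (d : k) {n : Γ}, n ∈ Nn lam mu a b → mu (ll d) * n * (mu (ll d))⁻¹ ∈ Nn lam mu a b := by
    intro d n hn
    refine conj_closure_mem _ ?_ hn
    rw [hb]
    rintro _ ((⟨k', e, hk, rfl⟩ | ⟨i, j, h, e, rfl⟩) | ⟨k', h, e, rfl⟩)
    · have hc : Commute (muJ lam mu a b b (ll d)) (yy lam mu a b k' e) := H.comm_muJ (Ne.symm hk) _ _
      rw [hc.eq, mul_inv_cancel_right]
      exact yy_mem_Nn hk e
    · by_cases h1 : j = b
      · subst h1
        rw [H.yl_conj_zz h d e]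
        exact mul_mem (mul_mem (T_mem_Nn h _) (yy_mem_Nn h _)) (zz_mem_Nn h e)
      by_cases h2 : i = b
      · subst h2
        rw [H.zz_symm h, H.yl_conj_zz h.symm d _]
        exact mul_mem (mul_mem (T_mem_Nn h.symm _) (yy_mem_Nn h.symm _)) (zz_mem_Nn h.symm _)
      · have hc : Commute (muJ lam mu a b b (ll d)) (zz lam mu a b h e) :=
          H.comm_muJ_zz h (Ne.symm h2) (Ne.symm h1) _ _
        rw [hc.eq, mul_inv_cancel_right]
        exact zz_mem_Nn h e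
    · rw [(H.comm_ylj_Tij h d e).eq, mul_inv_cancel_right]
      exact T_mem_Nn h e
  have key : ∀ g : M2 k, ∀ n : Γ, n ∈ Nn lam mu a b → mu g * n * (mu g)⁻¹ ∈ Nn lam mu a b := by
    intro g
    refine m2_left (P := fun g => ∀ n : Γ, n ∈ Nn lam mu a b → mu g * n * (mu g)⁻¹ ∈ Nn lam mu a b)
      ?_ ?_ ?_ g
    · intro n hn
      simpa using hn
    · intro d g hg n hn
      rw [map_mul, conj_conj]
      exact hU d (hg n hn)
    · intro d g hg n hn
      rw [map_mul, conj_conj]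
      exact hL d (hg n hn)
  intro n hn
  exact key g n hn

/-- Moving `mu` across the Siegel parabolic. -/
lemma mu_P (g : M2 k) {p : Γ} (hp : p ∈ Pp lam mu) :
    ∃ p₁ ∈ Pp lam mu, ∃ (g' : M2 k) (l : SpecialLinearGroup ι K), mu g * p = p₁ * mu g' * lam l := by
  obtain ⟨q, hq, u, l, rfl⟩ := H.dec_P hp
  obtain ⟨n, hn, d, rfl⟩ := H.dec_Q hq
  refine ⟨mu g * n * (mu g)⁻¹, H.Nn_le_Pp (H.conj_mu_Nn g (Qr_le_Nn hn)), g * uu d * dd u, l, ?_⟩
  rw [map_mul, map_mul]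
  group

end UHyp

end Cfsg.Agent.Lib.PresU
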