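import Cfsg.Agent.Lib.PresSU3.Final

/-!
# The presentations of `SU₃(q)` for `q` prime

For `q` prime the unipotent group has a short presentation on two generators, which gives a
presentation of `SU₃(q)` on four generators, with no restriction on `q`.
-/

set_option autoImplicit false
set_option linter.unusedSectionVars false
set_option linter.style.haveILetI false

namespace Cfsg.Agent.Lib.PresU.P3

open Cfsg Cfsg.Agent.Lib.HermCount.Field Cfsg.Agent.Lib.PresSU3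

section nf

variable {Γ : Type*} [Group Γ] {x y z : Γ}

/-- The normal form in a group of class two. -/
lemma nf_closure (hc : x * y * x⁻¹ * y⁻¹ = z) (hx : Commute z x) (hy : Commute z y) {w : Γ}
    (hw : w ∈ Subgroup.closure ({x, y} : Set Γ)) : ∃ i j l : ℤ, w = x ^ i * y ^ j * z ^ l := by
  have e0 : x * y = z * y * x := by
    rw [← hc]
    group
  have e1 : y * x * y⁻¹ = z⁻¹ * x := by
    rw [← hc]
    group
  have e2 : y⁻¹ * x * y = z * x := by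
    calc y⁻¹ * x * y = y⁻¹ * (x * y) := by group
      _ = y⁻¹ * (y * z * x) := by rw [e0, hy.eq]
      _ = z * x := by group
  have cx : ∀ k i : ℤ, z ^ k * x ^ i = x ^ i * z ^ k := fun k i => (hx.zpow_zpow k i).eq
  have cy : ∀ k j : ℤ, z ^ k * y ^ j = y ^ j * z ^ k := fun k j => (hy.zpow_zpow k j).eq
  have cy1 : ∀ k : ℤ, z ^ k * y = y * z ^ k := fun k => (hy.zpow_left k).eq
  have cyi : ∀ k : ℤ, z ^ k * y⁻¹ = y⁻¹ * z ^ k := fun k => (hy.inv_right.zpow_left k).eq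
  have e3 : ∀ i : ℤ, y * x ^ i = x ^ i * y * z ^ (-i) := by
    intro i
    have h1 : (y * x * y⁻¹) ^ i = y * x ^ i * y⁻¹ := conj_zpow
    rw [e1, (hx.inv_left).mul_zpow, inv_zpow, ← zpow_neg] at h1
    calc y * x ^ i = y * x ^ i * y⁻¹ * y := by group
      _ = z ^ (-i) * x ^ i * y := by rw [← h1]
      _ = x ^ i * (z ^ (-i) * y) := by rw [cx]; group
      _ = x ^ i * y * z ^ (-i) := by rw [cy1]; group
  have e4 : ∀ i : ℤ, y⁻¹ * x ^ i = x ^ i * y⁻¹ * z ^ i := by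
    intro i
    have h1 : (y⁻¹ * x * y⁻¹⁻¹) ^ i = y⁻¹ * x ^ i * y⁻¹⁻¹ := conj_zpow
    rw [inv_inv, e2, hx.mul_zpow] at h1
    calc y⁻¹ * x ^ i = y⁻¹ * x ^ i * y * y⁻¹ := by group
      _ = z ^ i * x ^ i * y⁻¹ := by rw [← h1]
      _ = x ^ i * (z ^ i * y⁻¹) := by rw [cx]; group
      _ = x ^ i * y⁻¹ * z ^ i := by rw [cyi]; group
  induction hw using Subgroup.closure_induction_left with
  | one => exact ⟨0, 0, 0, by simp⟩
  | mul_left s hs w _ ih =>
    obtain ⟨i, j, l, rfl⟩ := ih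
    rcases hs with rfl | hs
    · refine ⟨i + 1, j, l, ?_⟩
      group
    · rw [Set.mem_singleton_iff] at hs
      subst hs
      refine ⟨i, j + 1, l - i, ?_⟩
      calc s * (x ^ i * s ^ j * z ^ l) = (s * x ^ i) * s ^ j * z ^ l := by group
        _ = x ^ i * s * z ^ (-i) * s ^ j * z ^ l := by rw [e3]
        _ = x ^ i * s * (z ^ (-i) * s ^ j) * z ^ l := by group
        _ = x ^ i * s * (s ^ j * z ^ (-i)) * z ^ l := by rw [cy]
        _ = _ := by group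
  | inv_mul_cancel s hs w _ ih =>
    obtain ⟨i, j, l, rfl⟩ := ih
    rcases hs with rfl | hs
    · refine ⟨i - 1, j, l, ?_⟩
      group
    · rw [Set.mem_singleton_iff] at hs
      subst hs
      refine ⟨i, j - 1, l + i, ?_⟩
      calc s⁻¹ * (x ^ i * s ^ j * z ^ l) = (s⁻¹ * x ^ i) * s ^ j * z ^ l := by group
        _ = x ^ i * s⁻¹ * z ^ i * s ^ j * z ^ l := by rw [e4]
        _ = x ^ i * s⁻¹ * (z ^ i * s ^ j) * z ^ l := by group
        _ = x ^ i * s⁻¹ * (s ^ j * z ^ i) * z ^ l := by rw [cy]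
        _ = _ := by group

end nf

section tgt

variable {F : Type*} [Field F] {σ : F →+* F} (hσ : ∀ x, σ (σ x) = x)
include hσ

lemma qq_zpow_first (a b : F) (h : b + σ b + a * σ a = 0) (m : ℤ) :
    ∃ b', ∃ h' : b' + σ b' + ((m : F) * a) * σ ((m : F) * a) = 0,
      qq hσ a b h ^ m = qq hσ ((m : F) * a) b' h' := by
  obtain ⟨n, rfl | rfl⟩ := Int.eq_nat_or_neg m
  · obtain ⟨b', h', e⟩ := qq_pow_first hσ a b h n
    have e2 : (((n : ℕ) : ℤ) : F) = (n : F) := by push_cast; rfl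
    rw [zpow_natCast, e, e2]
    exact ⟨b', h', rfl⟩
  · obtain ⟨b', h', e⟩ := qq_pow_first hσ a b h n
    have e2 : -(n : F) * a = ((-(n : ℤ) : ℤ) : F) * a := by push_cast; ring
    have e3 : -((n : F) * a) = ((-(n : ℤ) : ℤ) : F) * a := by push_cast; ring
    rw [zpow_neg, zpow_natCast, e, qq_inv, qq_congr hσ _ e3 rfl]
    exact ⟨_, _, rfl⟩

lemma qq_zpow_center (d : F) (h : d + σ d + 0 * σ 0 = 0) (m : ℤ) :
    ∃ h' : (m : F) * d + σ ((m : F) * d) + 0 * σ 0 = 0, qq hσ 0 d h ^ m = qq hσ 0 ((m : F) * d) h' := by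
  obtain ⟨n, rfl | rfl⟩ := Int.eq_nat_or_neg m
  · obtain ⟨h', e⟩ := qq_pow_center hσ d h n
    have e2 : (((n : ℕ) : ℤ) : F) = (n : F) := by push_cast; rfl
    rw [zpow_natCast, e, e2]
    exact ⟨h', rfl⟩
  · obtain ⟨h', e⟩ := qq_pow_center hσ d h n
    have e0 : σ ((n : F) * d) = -((n : F) * d) := by
      linear_combination h'
    have e3 : σ ((n : F) * d) = ((-(n : ℤ) : ℤ) : F) * d := by
      rw [e0]
      push_cast
      ring
    rw [zpow_neg, zpow_natCast, e, qq_inv, qq_congr hσ _ neg_zero e3]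
    exact ⟨_, rfl⟩

end tgt

section ctx

variable {F : Type*} [Field F] {σ : F →+* F} (hσ : ∀ x, σ (σ x) = x)
variable {Γ : Type*} [Group Γ]

include hσ in
lemma ind_theta {θ : F} (hθ : σ θ ≠ θ) {i j : F} (hi : σ i = i) (hj : σ j = j) (h : i + j * θ = 0) :
    i = 0 ∧ j = 0 := by
  have h1 : σ (i + j * θ) = 0 := by rw [h, map_zero]
  rw [map_add, map_mul, hi, hj] at h1
  have h2 : j * (θ - σ θ) = 0 := by linear_combination h - h1
  have h3 : j = 0 := by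
    rcases mul_eq_zero.1 h2 with h3 | h3
    · exact h3
    · exact absurd (sub_eq_zero.1 h3).symm hθ
  subst h3
  exact ⟨by simpa using h, rfl⟩

/-- The structure from the relators. -/
theorem ctx_of_rels {ζ : Fˣ} (φ : Γ →* GG σ) {x y z H W : Γ} {k₀ : ℤ} {N p e₁ e₂ : ℕ} {θ b₁ b₂ D : F}
    {h₁ : b₁ + σ b₁ + 1 * σ 1 = 0} {h₂ : b₂ + σ b₂ + θ * σ θ = 0} {hD : D + σ D + 0 * σ 0 = 0}
    (hφx : φ x = qq hσ 1 b₁ h₁) (hφy : φ y = qq hσ θ b₂ h₂) (hφz : φ z = qq hσ 0 D hD)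
    (hφH : φ H = tt hσ ζ) (hφW : φ W = ww σ)
    (hc : x * y * x⁻¹ * y⁻¹ = z) (hzx : Commute z x) (hzy : Commute z y)
    (hpx : x ^ p = z ^ e₁) (hpy : y ^ p = z ^ e₂) (hpz : z ^ p = 1)
    (hHx : H * x * H⁻¹ ∈ Subgroup.closure ({x, y} : Set Γ)) (hHy : H * y * H⁻¹ ∈ Subgroup.closure ({x, y} : Set Γ))
    (hHN : H ^ N = 1) (hN : orderOf ζ = N) (hN0 : 0 < N)
    (hW2 : W * W = 1) (hWH : W * H * W⁻¹ = H ^ k₀)
    (hlift : ∀ a b, ∀ h : b + σ b + a * σ a = 0, ∃ w ∈ Subgroup.closure ({x, y} : Set Γ), φ w = qq hσ a b h)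
    (hp0 : ∀ n : ℤ, (n : F) = 0 → (p : ℤ) ∣ n) (hθ : σ θ ≠ θ) (hD0 : D ≠ 0) :
    Ctx hσ ζ φ (Subgroup.closure ({x, y} : Set Γ)) H W k₀ := by
  have HQ : ∀ w ∈ Subgroup.closure ({x, y} : Set Γ), H * w * H⁻¹ ∈ Subgroup.closure ({x, y} : Set Γ) := by
    intro w hw
    induction hw using Subgroup.closure_induction with
    | mem w hw =>
      rcases hw with rfl | hw
      · exact hHx
      · rw [Set.mem_singleton_iff] at hw
        subst hw
        exact hHy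
    | one => simp [one_mem]
    | mul a b _ _ iha ihb =>
      have e : H * (a * b) * H⁻¹ = (H * a * H⁻¹) * (H * b * H⁻¹) := by group
      rw [e]
      exact mul_mem iha ihb
    | inv a _ iha =>
      have e : H * a⁻¹ * H⁻¹ = (H * a * H⁻¹)⁻¹ := by group
      rw [e]
      exact inv_mem iha
  have HQn : ∀ n : ℕ, ∀ w ∈ Subgroup.closure ({x, y} : Set Γ),
      H ^ n * w * (H ^ n)⁻¹ ∈ Subgroup.closure ({x, y} : Set Γ) := by
    intro n
    induction n with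
    | zero => intro w hw; simpa using hw
    | succ n ih =>
      intro w hw
      have := HQ _ (ih w hw)
      convert this using 1
      rw [pow_succ']
      group
  refine ⟨?_, ?_, hlift, HQ, ?_, hφH, hφW, ?_, hW2, hWH⟩
  · intro w hw
    induction hw using Subgroup.closure_induction with
    | mem w hw =>
      rcases hw with rfl | hw
      · exact ⟨_, _, _, hφx⟩
      · rw [Set.mem_singleton_iff] at hw
        subst hw
        exact ⟨_, _, _, hφy⟩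
    | one => exact ⟨0, 0, cstr_zero, by rw [map_one, qq_zero]⟩
    | mul a b _ _ iha ihb =>
      obtain ⟨a₁, b₁', c₁, e₁⟩ := iha
      obtain ⟨a₂, b₂', c₂, e₂⟩ := ihb
      exact ⟨_, _, _, by rw [map_mul, e₁, e₂, qq_mul]⟩
    | inv a _ iha =>
      obtain ⟨a₁, b₁', c₁, e₁⟩ := iha
      exact ⟨_, _, _, by rw [map_inv, e₁, qq_inv]⟩
  · intro w hw h1
    obtain ⟨i, j, l, rfl⟩ := nf_closure hc hzx hzy hw
    have h1' := h1
    rw [map_mul, map_mul, map_zpow, map_zpow, map_zpow, hφx, hφy, hφz] at h1'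
    obtain ⟨b', h', e'⟩ := qq_zpow_first hσ 1 b₁ h₁ i
    obtain ⟨b'', h'', e''⟩ := qq_zpow_first hσ θ b₂ h₂ j
    obtain ⟨h3, e3⟩ := qq_zpow_center hσ D hD l
    rw [e', e'', e3, qq_mul, qq_mul, ← qq_zero hσ] at h1'
    obtain ⟨h4, -⟩ := qq_inj hσ h1'
    have h5 : (i : F) + (j : F) * θ = 0 := by linear_combination h4
    obtain ⟨h6, h7⟩ := ind_theta hσ hθ (by simp) (by simp) h5
    obtain ⟨i', rfl⟩ := hp0 i h6
    obtain ⟨j', rfl⟩ := hp0 j h7
    have e4 : x ^ ((p : ℤ) * i') = z ^ ((e₁ : ℤ) * i') := by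
      rw [zpow_mul, zpow_mul, zpow_natCast, zpow_natCast, hpx]
    have e5 : y ^ ((p : ℤ) * j') = z ^ ((e₂ : ℤ) * j') := by
      rw [zpow_mul, zpow_mul, zpow_natCast, zpow_natCast, hpy]
    rw [e4, e5, ← zpow_add, ← zpow_add] at h1 ⊢
    set m : ℤ := (e₁ : ℤ) * i' + (e₂ : ℤ) * j' + l with hm
    rw [map_zpow, hφz] at h1
    obtain ⟨h9, e9⟩ := qq_zpow_center hσ D hD m
    rw [e9, ← qq_zero hσ] at h1
    obtain ⟨-, h10⟩ := qq_inj hσ h1
    have h11 : (m : F) = 0 := (mul_eq_zero.1 h10).resolve_right hD0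
    obtain ⟨m', hm'⟩ := hp0 m h11
    rw [hm', zpow_mul, zpow_natCast, hpz, one_zpow]
  · intro w hw
    have := HQn (N - 1) w hw
    have e : H ^ (N - 1) = H⁻¹ := by
      apply eq_inv_of_mul_eq_one_left
      rw [← pow_succ, Nat.sub_add_cancel hN0, hHN]
    rw [e] at this
    simpa using this
  · intro j hj
    obtain ⟨l, rfl⟩ := (orderOf_dvd_iff_zpow_eq_one.2 hj : ((orderOf ζ : ℕ) : ℤ) ∣ j)
    rw [zpow_mul, hN, zpow_natCast, hHN, one_zpow]

end ctx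

section words

variable {F : Type*} [Field F] {σ : F →+* F} (hσ : ∀ x, σ (σ x) = x)

/-- The free group on four letters. -/
abbrev YY := FreeGroup (Fin 4)

/-- The first letter. -/
def ya : YY := FreeGroup.of 0
/-- The second letter. -/
def yb : YY := FreeGroup.of 1
/-- The third letter. -/
def yh : YY := FreeGroup.of 2
/-- The fourth letter. -/
def yw : YY := FreeGroup.of 3
/-- The commutator. -/
def zw : YY := ya * yb * ya⁻¹ * yb⁻¹

/-- The target map. -/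
noncomputable def lty (ζ : Fˣ) {θ b₁ b₂ : F} (h₁ : b₁ + σ b₁ + 1 * σ 1 = 0) (h₂ : b₂ + σ b₂ + θ * σ θ = 0) :
    YY →* GG σ :=
  FreeGroup.lift ![qq hσ 1 b₁ h₁, qq hσ θ b₂ h₂, tt hσ ζ, ww σ]

variable (ζ : Fˣ) {θ b₁ b₂ : F} (h₁ : b₁ + σ b₁ + 1 * σ 1 = 0) (h₂ : b₂ + σ b₂ + θ * σ θ = 0)

@[simp] lemma lty_a : lty hσ ζ h₁ h₂ ya = qq hσ 1 b₁ h₁ := by simp [lty, ya]
@[simp] lemma lty_b : lty hσ ζ h₁ h₂ yb = qq hσ θ b₂ h₂ := by simp [lty, yb]
@[simp] lemma lty_h : lty hσ ζ h₁ h₂ yh = tt hσ ζ := by simp [lty, yh]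
@[simp] lemma lty_w : lty hσ ζ h₁ h₂ yw = ww σ := by simp [lty, yw]

include hσ in
lemma cstr_D {θ : F} : (θ - σ θ) + σ (θ - σ θ) + 0 * σ 0 = 0 := by
  simp only [map_sub, hσ]
  ring

lemma lty_z : lty hσ ζ h₁ h₂ zw = qq hσ 0 (θ - σ θ) (cstr_D hσ) := by
  simp only [zw, map_mul, map_inv, lty_a, lty_b]
  rw [qq_inv, qq_inv, qq_mul, qq_mul, qq_mul]
  refine qq_congr hσ _ (by ring) ?_
  simp only [map_neg, map_one] at h₁ ⊢
  linear_combination h₁ + h₂

/-- The subgroup generated by the first two letters. -/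
abbrev QY : Subgroup YY := Subgroup.closure ({ya, yb} : Set YY)

lemma map_QY {Γ : Type*} [Group Γ] (π : YY →* Γ) {x : YY} (hx : x ∈ QY) :
    π x ∈ Subgroup.closure ({π ya, π yb} : Set Γ) := by
  induction hx using Subgroup.closure_induction with
  | mem x hx =>
    rcases hx with rfl | hx
    · exact Subgroup.subset_closure (by simp)
    · rw [Set.mem_singleton_iff] at hx
      subst hx
      exact Subgroup.subset_closure (by simp)
  | one => rw [map_one]; exact one_mem _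
  | mul x y _ _ ihx ihy => rw [map_mul]; exact mul_mem ihx ihy
  | inv x _ ih => rw [map_inv]; exact inv_mem ih

/-- The relator of an arrow. -/
lemma exists_arrow_p (hlift : ∀ a b, ∀ h : b + σ b + a * σ a = 0, ∃ x ∈ QY, lty hσ ζ h₁ h₂ x = qq hσ a b h)
    (hζ : ∀ u : Fˣ, ∃ k : ℤ, ζ ^ k = u) (a b : F) (h : b + σ b + a * σ a = 0) (hb : b ≠ 0) :
    ∃ r : YY, lty hσ ζ h₁ h₂ r = 1 ∧ ∀ (Γ : Type) [Group Γ] (π : YY →* Γ) (φ : Γ →* GG σ)
      (_ : ∀ x, φ (π x) = lty hσ ζ h₁ h₂ x) (k₀ : ℤ)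
      (_ : Ctx hσ ζ φ (Subgroup.closure ({π ya, π yb} : Set Γ)) (π yh) (π yw) k₀), π r = 1 →
      Arw hσ φ (Subgroup.closure ({π ya, π yb} : Set Γ)) (π yh) (π yw) a b := by
  obtain ⟨x, hx, ex⟩ := hlift a b h
  obtain ⟨q₁, hq₁, e₁⟩ := hlift _ _ (cstr_rho2 hσ hb h)
  obtain ⟨q₂, hq₂, e₂⟩ := hlift _ _ (cstr_rho1 hσ hb h)
  obtain ⟨j, hj⟩ := hζ (Units.mk0 b hb)
  refine ⟨yw * x * yw⁻¹ * (q₁ * yw * yh ^ j * q₂)⁻¹, ?_, ?_⟩
  · simp only [map_mul, map_inv, map_zpow, lty_w, lty_h, ex, e₁, e₂]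
    rw [moufang hσ hb h, tt_zpow, hj, mul_inv_cancel]
  · intro Γ _ π φ hφ k₀ C hr h' x' hx' ex'
    have e : x' = π x := by
      refine C.Qeq hx' (map_QY π hx) ?_
      rw [ex', hφ, ex]
    rw [e]
    have e2 : π yw * π x * (π yw)⁻¹ = π q₁ * π yw * (π yh) ^ j * π q₂ := by
      have := hr
      simp only [map_mul, map_inv, map_zpow] at this
      exact mul_inv_eq_one.1 this
    rw [e2]
    exact ⟨π q₁, map_QY π hq₁, j, π q₂, map_QY π hq₂, rfl⟩

/-- The generation of the group. -/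
lemma gen_of_surj_p {Γ : Type*} [Group Γ] (π : YY →* Γ) (hπ : Function.Surjective π) :
    Subgroup.closure (((Subgroup.closure ({π ya, π yb} : Set Γ) : Subgroup Γ) : Set Γ) ∪ {π yh, π yw}) = ⊤ := by
  rw [eq_top_iff]
  rintro g -
  obtain ⟨x, rfl⟩ := hπ g
  have hx : x ∈ Subgroup.closure (Set.range (FreeGroup.of : Fin 4 → YY)) := by
    rw [FreeGroup.closure_range_of]
    trivial
  induction hx using Subgroup.closure_induction with
  | mem x hx =>
    obtain ⟨i, rfl⟩ := hx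
    apply Subgroup.subset_closure
    fin_cases i
    · left
      exact Subgroup.subset_closure (by simp [ya])
    · left
      exact Subgroup.subset_closure (by simp [yb])
    · right
      left
      rfl
    · right
      right
      rfl
  | one => rw [map_one]; exact one_mem _
  | mul x y _ _ ihx ihy => rw [map_mul]; exact mul_mem ihx ihy
  | inv x _ ih => rw [map_inv]; exact inv_mem ih

end words

section fieldp

variable {F : Type*} [Field F] {σ : F →+* F} (hσ : ∀ x, σ (σ x) = x)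
include hσ

lemma basis_fix (hfix : ∀ x, σ x = x → ∃ n : ℕ, (n : F) = x) {θ : F} (hθ : σ θ ≠ θ) (a : F) :
    ∃ i j : ℕ, (i : F) * 1 + (j : F) * θ = a := by
  have hD : θ - σ θ ≠ 0 := sub_ne_zero.2 hθ.symm
  have hD' : σ θ - θ ≠ 0 := sub_ne_zero.2 hθ
  have e1 : σ ((a - σ a) / (θ - σ θ)) = (a - σ a) / (θ - σ θ) := by
    rw [map_div₀, map_sub, map_sub, hσ, hσ]
    field_simp
    ring
  obtain ⟨j, hj⟩ := hfix _ e1
  have e2 : σ (a - (j : F) * θ) = a - (j : F) * θ := by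
    have e3 : (j : F) * (θ - σ θ) = a - σ a := by
      rw [hj]
      field_simp
    simp only [map_sub, map_mul, map_natCast]
    linear_combination e3
  obtain ⟨i, hi⟩ := hfix _ e2
  refine ⟨i, j, ?_⟩
  rw [hi]
  ring

lemma line_fix (hfix : ∀ x, σ x = x → ∃ n : ℕ, (n : F) = x) {D : F} (hD : D ≠ 0) (hsD : σ D = -D) (c : F)
    (hc : σ c = -c) : ∃ l : ℕ, (l : F) * D = c := by
  have e1 : σ (c / D) = c / D := by
    rw [map_div₀, hc, hsD, neg_div_neg_eq]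
  obtain ⟨l, hl⟩ := hfix _ e1
  refine ⟨l, ?_⟩
  rw [hl]
  field_simp

/-- Every element of the unipotent group is in normal form. -/
lemma tgt_nf (hfix : ∀ x, σ x = x → ∃ n : ℕ, (n : F) = x) {θ b₁ b₂ : F} (hθ : σ θ ≠ θ)
    (h₁ : b₁ + σ b₁ + 1 * σ 1 = 0) (h₂ : b₂ + σ b₂ + θ * σ θ = 0) (a b : F) (h : b + σ b + a * σ a = 0) :
    ∃ i j l : ℕ, qq hσ 1 b₁ h₁ ^ i * qq hσ θ b₂ h₂ ^ j * qq hσ 0 (θ - σ θ) (cstr_D hσ) ^ l = qq hσ a b h := by
  obtain ⟨i, j, rfl⟩ := basis_fix hσ hfix hθ a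
  obtain ⟨b', h', e'⟩ := qq_pow_first hσ 1 b₁ h₁ i
  obtain ⟨b'', h'', e''⟩ := qq_pow_first hσ θ b₂ h₂ j
  have hD : θ - σ θ ≠ 0 := sub_ne_zero.2 hθ.symm
  have hc := cstr_mul hσ h' h''
  set B := b' + b'' - (i : F) * 1 * σ ((j : F) * θ) with hB
  have hsD : σ (θ - σ θ) = -(θ - σ θ) := by
    simp only [map_sub, hσ]
    ring
  have h0 : σ (b - B) = -(b - B) := by
    rw [map_sub]
    linear_combination h - hc
  obtain ⟨l, hl⟩ := line_fix hσ hfix hD hsD _ h0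
  obtain ⟨h3, e3⟩ := qq_pow_center hσ (θ - σ θ) (cstr_D hσ) l
  refine ⟨i, j, l, ?_⟩
  rw [e', e'', e3, qq_mul, qq_mul]
  refine qq_congr hσ _ (by ring) ?_
  rw [hl, map_zero, mul_zero, sub_zero, hB]
  ring

end fieldp

section main

variable {F : Type*} [Field F] [Fintype F] {q : ℕ} (hF : Fintype.card F = q ^ 2)

include hF

lemma charP_prime (hq : q.Prime) : CharP F q := by
  obtain ⟨p, hp⟩ := CharP.exists F
  have hpp : p.Prime := CharP.char_is_prime F p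
  obtain ⟨n, -, hn⟩ := FiniteField.card F p
  have h1 : p ∣ q ^ 2 := by
    rw [← hF, hn]
    exact dvd_pow_self p n.ne_zero
  have h2 : p = q := (Nat.prime_dvd_prime_iff_eq hpp hq).1 (hpp.dvd_of_dvd_pow h1)
  rwa [h2] at hp

lemma fix_nat (hq : q.Prime) (x : F) (hx : frobHom hF x = x) : ∃ n : ℕ, (n : F) = x := by
  classical
  haveI := charP_prime hF hq
  haveI : Fact q.Prime := ⟨hq⟩
  have hq1 : 1 < q := hq.one_lt
  set P : Polynomial F := Polynomial.X ^ q - Polynomial.X with hP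
  have hP0 : P ≠ 0 := FiniteField.X_pow_card_sub_X_ne_zero F hq1
  have hdeg : P.natDegree = q := FiniteField.X_pow_card_sub_X_natDegree_eq F hq1
  let A : Finset F := (Finset.range q).image (fun n : ℕ => (n : F))
  have hA : A.card = q := by
    rw [Finset.card_image_of_injOn, Finset.card_range]
    intro a ha b hb hab
    have hab' : (a : F) = (b : F) := hab
    rw [CharP.natCast_eq_natCast F q] at hab'
    have ha' : a < q := by simpa using ha
    have hb' : b < q := by simpa using hb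
    exact Nat.ModEq.eq_of_lt_of_lt hab' ha' hb'
  have hsub : A ⊆ P.roots.toFinset := by
    intro y hy
    obtain ⟨n, -, rfl⟩ := Finset.mem_image.1 hy
    rw [Multiset.mem_toFinset, Polynomial.mem_roots hP0, Polynomial.IsRoot.def]
    simp only [hP, Polynomial.eval_sub, Polynomial.eval_pow, Polynomial.eval_X]
    have : ((n : F)) ^ q = n := by
      have := map_natCast (frobenius F q) n
      rwa [frobenius_def] at this
    rw [this, sub_self]
  have heq : A = P.roots.toFinset := by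
    refine Finset.eq_of_subset_of_card_le hsub ?_
    rw [hA]
    calc P.roots.toFinset.card ≤ Multiset.card P.roots := Multiset.toFinset_card_le _
      _ ≤ P.natDegree := Polynomial.card_roots' P
      _ = q := hdeg
  have hxr : x ∈ P.roots.toFinset := by
    rw [Multiset.mem_toFinset, Polynomial.mem_roots hP0, Polynomial.IsRoot.def]
    simp only [hP, Polynomial.eval_sub, Polynomial.eval_pow, Polynomial.eval_X]
    have h2 : x ^ q = x := hx
    rw [h2, sub_self]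
  rw [← heq] at hxr
  obtain ⟨n, -, rfl⟩ := Finset.mem_image.1 hxr
  exact ⟨n, rfl⟩

/-- The relators. -/
theorem su3p_rels (hq : q.Prime) :
    ∃ (ζ : Fˣ) (θ b₁ b₂ : F) (h₁ : b₁ + frobHom hF b₁ + 1 * frobHom hF 1 = 0)
      (h₂ : b₂ + frobHom hF b₂ + θ * frobHom hF θ = 0) (L : List YY), L.length ≤ 14 ∧
      (∀ r ∈ L, lty (hσ_frob hF) ζ h₁ h₂ r = 1) ∧
      ∀ (Γ : Type) [Group Γ] (π : YY →* Γ) (_ : Function.Surjective π) (φ : Γ →* GG (frobHom hF))
        (_ : ∀ x, φ (π x) = lty (hσ_frob hF) ζ h₁ h₂ x), (∀ r ∈ L, π r = 1) → Function.Bijective φ := by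
  classical
  haveI := charP_prime hF hq
  have hq2 := two_le hF
  set σ := frobHom hF with hσdef
  have hσ : ∀ x, σ (σ x) = x := hσ_frob hF
  obtain ⟨ζ, hgen, hord⟩ := exists_gen_units hF
  have hζ : ∀ u : Fˣ, ∃ k : ℤ, ζ ^ k = u := by
    intro u
    obtain ⟨j, hj⟩ := hgen u
    exact ⟨j, by rw [zpow_natCast, hj]⟩
  have hk₀ : (Units.map (σ : F →* F) ζ)⁻¹ = ζ ^ (-(q : ℤ)) := by
    rw [unit_sig hF, zpow_neg, zpow_natCast]
  have hnorm : ∀ x : F, σ x = x → x ≠ 0 → ∃ t : Fˣ, nrm σ (t : F) = x := exists_nrm hF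
  set c₀ : F := ((ζ ^ (q - 1) : Fˣ) : F) with hc₀def
  have hc₀ : c₀ * σ c₀ = 1 := c0_norm hF hord ζ hq2
  have hc₀1 : c₀ ≠ 1 := by
    intro h
    apply c0_ne hF hord hq2
    apply Units.ext
    exact h
  have hgenC : ∀ c, c * σ c = 1 → ∃ k : ℕ, c₀ ^ k = c := gen_C hF hgen hord hq2
  have hfix : ∀ x, σ x = x → ∃ n : ℕ, (n : F) = x := fix_nat hF hq
  obtain ⟨θ, hθ'⟩ := exists_frob_ne hF
  have hθ : σ θ ≠ θ := hθ'
  obtain ⟨b₁, hb₁⟩ := exists_trace hF (-1) (by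
    have : σ (-1 : F) = -1 := by simp
    exact this)
  obtain ⟨b₂, hb₂⟩ := exists_trace hF (-(θ * σ θ)) (by
    have : σ (-(θ * σ θ)) = -(θ * σ θ) := by
      rw [map_neg, map_mul, hσ, mul_comm]
    exact this)
  have h₁ : b₁ + σ b₁ + 1 * σ 1 = 0 := by
    have : b₁ + σ b₁ = -1 := hb₁
    rw [this, map_one]
    ring
  have h₂ : b₂ + σ b₂ + θ * σ θ = 0 := by
    have : b₂ + σ b₂ = -(θ * σ θ) := hb₂
    rw [this]
    ring
  have hNpos : 0 < q ^ 2 - 1 := by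
    have : 4 ≤ q ^ 2 := by nlinarith
    omega
  have hD0 : θ - σ θ ≠ 0 := sub_ne_zero.2 hθ.symm
  have hsD : σ (θ - σ θ) = -(θ - σ θ) := by
    simp only [map_sub, hσ]
    ring
  have hp0 : ∀ n : ℤ, (n : F) = 0 → (q : ℤ) ∣ n := fun n hn => (CharP.intCast_eq_zero_iff F q n).1 hn
  have hq0 : (q : F) = 0 := CharP.cast_eq_zero F q
  refine ⟨ζ, θ, b₁, b₂, h₁, h₂, ?_⟩
  set L0 := lty hσ ζ h₁ h₂ with hL0
  have hz : L0 zw = qq hσ 0 (θ - σ θ) (cstr_D hσ) := lty_z hσ ζ h₁ h₂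
  have hlift : ∀ a b, ∀ h : b + σ b + a * σ a = 0, ∃ x ∈ QY, L0 x = qq hσ a b h := by
    intro a b h
    obtain ⟨i, j, l, e⟩ := tgt_nf hσ hfix hθ h₁ h₂ a b h
    refine ⟨ya ^ i * yb ^ j * zw ^ l, ?_, ?_⟩
    · refine mul_mem (mul_mem (pow_mem (Subgroup.subset_closure (by simp)) _)
        (pow_mem (Subgroup.subset_closure (by simp)) _)) (pow_mem ?_ _)
      have ha : ya ∈ QY := Subgroup.subset_closure (by simp)
      have hb : yb ∈ QY := Subgroup.subset_closure (by simp)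
      exact mul_mem (mul_mem (mul_mem ha hb) (inv_mem ha)) (inv_mem hb)
    · rw [map_mul, map_mul, map_pow, map_pow, map_pow, hz, hL0, lty_a, lty_b, e]
  -- central powers
  have hcen : ∀ c, ∀ h : c + σ c + 0 * σ 0 = 0, ∃ e : ℕ, qq hσ 0 (θ - σ θ) (cstr_D hσ) ^ e = qq hσ 0 c h := by
    intro c h
    have h0 : σ c = -c := by linear_combination h
    obtain ⟨l, hl⟩ := line_fix hσ hfix hD0 hsD c h0
    obtain ⟨h3, e3⟩ := qq_pow_center hσ (θ - σ θ) (cstr_D hσ) l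
    refine ⟨l, ?_⟩
    rw [e3]
    exact qq_congr hσ _ rfl hl
  -- the powers of the generators
  obtain ⟨e₁, he₁⟩ : ∃ e : ℕ, L0 (ya ^ q) = L0 (zw ^ e) := by
    obtain ⟨b', h', e⟩ := qq_pow_first hσ 1 b₁ h₁ q
    have e0 : (q : F) * 1 = 0 := by rw [hq0, zero_mul]
    rw [qq_congr hσ h' e0 rfl] at e
    obtain ⟨l, hl⟩ := hcen b' (e0 ▸ h')
    exact ⟨l, by rw [map_pow, map_pow, hz, hL0, lty_a, e, hl]⟩
  obtain ⟨e₂, he₂⟩ : ∃ e : ℕ, L0 (yb ^ q) = L0 (zw ^ e) := by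
    obtain ⟨b', h', e⟩ := qq_pow_first hσ θ b₂ h₂ q
    have e0 : (q : F) * θ = 0 := by rw [hq0, zero_mul]
    rw [qq_congr hσ h' e0 rfl] at e
    obtain ⟨l, hl⟩ := hcen b' (e0 ▸ h')
    exact ⟨l, by rw [map_pow, map_pow, hz, hL0, lty_b, e, hl]⟩
  have rz : L0 (zw ^ q) = 1 := by
    rw [map_pow, hz]
    obtain ⟨h', e⟩ := qq_pow_center hσ (θ - σ θ) (cstr_D hσ) q
    rw [e, ← qq_zero hσ]
    exact qq_congr hσ _ rfl (by rw [hq0, zero_mul])
  have ccen : ∀ g : GG σ, ∀ a b, ∀ h : b + σ b + a * σ a = 0, g = qq hσ a b h →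
      qq hσ 0 (θ - σ θ) (cstr_D hσ) * g * (qq hσ 0 (θ - σ θ) (cstr_D hσ))⁻¹ * g⁻¹ = 1 := by
    intro g a b h e
    subst e
    have : qq hσ 0 (θ - σ θ) (cstr_D hσ) * qq hσ a b h = qq hσ a b h * qq hσ 0 (θ - σ θ) (cstr_D hσ) := by
      rw [qq_mul, qq_mul]
      exact qq_congr hσ _ (by ring) (by simp; ring)
    rw [this]
    group
  -- the torus action
  obtain ⟨w₁, hw₁, ew₁⟩ : ∃ w ∈ QY, L0 w = L0 (yh * ya * yh⁻¹) := by
    have e : L0 (yh * ya * yh⁻¹) = qq hσ _ _ (cstr_tt hσ ζ.ne_zero h₁) := by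
      rw [map_mul, map_mul, map_inv, hL0, lty_h, lty_a, tt_qq]
    rw [e]
    exact hlift _ _ _
  obtain ⟨w₂, hw₂, ew₂⟩ : ∃ w ∈ QY, L0 w = L0 (yh * yb * yh⁻¹) := by
    have e : L0 (yh * yb * yh⁻¹) = qq hσ _ _ (cstr_tt hσ ζ.ne_zero h₂) := by
      rw [map_mul, map_mul, map_inv, hL0, lty_h, lty_b, tt_qq]
    rw [e]
    exact hlift _ _ _
  -- the arrows
  have hD' : (θ - σ θ) + σ (θ - σ θ) + 0 * σ 0 = 0 := cstr_D hσ
  obtain ⟨a0, la0, Ha0⟩ := exists_arrow_p hσ ζ h₁ h₂ hlift hζ 0 (θ - σ θ) hD' hD0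
  have hA : ∀ i : ℕ, ∃ r : YY, L0 r = 1 ∧ ∀ (Γ : Type) [Group Γ] (π : YY →* Γ) (φ : Γ →* GG σ)
      (_ : ∀ x, φ (π x) = L0 x) (k₀ : ℤ)
      (_ : Ctx hσ ζ φ (Subgroup.closure ({π ya, π yb} : Set Γ)) (π yh) (π yw) k₀), π r = 1 →
      Arw hσ φ (Subgroup.closure ({π ya, π yb} : Set Γ)) (π yh) (π yw) ((ζ ^ i : Fˣ) : F)
        (bb σ ((ζ ^ i : Fˣ) : F) c₀) := fun i =>
    exists_arrow_p hσ ζ h₁ h₂ hlift hζ _ _ (cstr_bb hσ _ hc₀ hc₀1) (bb_ne hσ _ (ζ ^ i).ne_zero hc₀1)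
  obtain ⟨a1, la1, Ha1⟩ := hA 0
  obtain ⟨a2, la2, Ha2⟩ := hA 1
  obtain ⟨a3, la3, Ha3⟩ := hA 2
  set N := q ^ 2 - 1 with hN
  refine ⟨[zw * ya * zw⁻¹ * ya⁻¹, zw * yb * zw⁻¹ * yb⁻¹, ya ^ q * (zw ^ e₁)⁻¹, yb ^ q * (zw ^ e₂)⁻¹, zw ^ q,
    yh * ya * yh⁻¹ * w₁⁻¹, yh * yb * yh⁻¹ * w₂⁻¹, yh ^ N, yw * yw, yw * yh * yw⁻¹ * (yh ^ (-(q : ℤ)))⁻¹,
    a0, a1, a2, a3], by simp, ?_, ?_⟩
  · intro r hr
    simp only [List.mem_cons, List.not_mem_nil, or_false] at hr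
    rcases hr with rfl | rfl | rfl | rfl | rfl | rfl | rfl | rfl | rfl | rfl | rfl | rfl | rfl | rfl
    · simp only [map_mul, map_inv, hz]
      exact ccen _ _ _ _ (lty_a hσ ζ h₁ h₂)
    · simp only [map_mul, map_inv, hz]
      exact ccen _ _ _ _ (lty_b hσ ζ h₁ h₂)
    · rw [map_mul, map_inv, he₁, mul_inv_cancel]
    · rw [map_mul, map_inv, he₂, mul_inv_cancel]
    · exact rz
    · rw [map_mul, map_inv, ew₁, mul_inv_cancel]
    · rw [map_mul, map_inv, ew₂, mul_inv_cancel]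
    · rw [map_pow, hL0, lty_h, tt_pow, ← hord, pow_orderOf_eq_one, tt_one]
    · rw [map_mul, hL0, lty_w, ww_sq hσ]
    · simp only [map_mul, map_inv, map_zpow, hL0, lty_w, lty_h]
      rw [ww_tt hσ, hk₀, tt_zpow, mul_inv_cancel]
    · exact la0
    · exact la1
    · exact la2
    · exact la3
  · intro Γ _ π hπ φ hφ hL
    have hR1 := hL (zw * ya * zw⁻¹ * ya⁻¹) (by simp)
    have hR2 := hL (zw * yb * zw⁻¹ * yb⁻¹) (by simp)
    have hR3 := hL (ya ^ q * (zw ^ e₁)⁻¹) (by simp)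
    have hR4 := hL (yb ^ q * (zw ^ e₂)⁻¹) (by simp)
    have hR5 := hL (zw ^ q) (by simp)
    have hR6 := hL (yh * ya * yh⁻¹ * w₁⁻¹) (by simp)
    have hR7 := hL (yh * yb * yh⁻¹ * w₂⁻¹) (by simp)
    have hR8 := hL (yh ^ N) (by simp)
    have hR9 := hL (yw * yw) (by simp)
    have hR10 := hL (yw * yh * yw⁻¹ * (yh ^ (-(q : ℤ)))⁻¹) (by simp)
    have hRa0 := hL a0 (by simp)
    have hRa1 := hL a1 (by simp)
    have hRa2 := hL a2 (by simp)
    have hRa3 := hL a3 (by simp)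
    have hcomm : ∀ u v : Γ, u * v * u⁻¹ * v⁻¹ = 1 → Commute u v := by
      intro u v h
      have e2 : u * v * u⁻¹ = v := mul_inv_eq_one.1 h
      exact (mul_inv_eq_iff_eq_mul.1 e2)
    have hCtx : Ctx hσ ζ φ (Subgroup.closure ({π ya, π yb} : Set Γ)) (π yh) (π yw) (-(q : ℤ)) := by
      refine ctx_of_rels hσ φ (z := π zw) (N := N) (p := q) (e₁ := e₁) (e₂ := e₂) (θ := θ) (b₁ := b₁) (b₂ := b₂)
        (D := θ - σ θ) (h₁ := h₁) (h₂ := h₂) (hD := cstr_D hσ) ?_ ?_ ?_ ?_ ?_ ?_ ?_ ?_ ?_ ?_ ?_ ?_ ?_ ?_ hord hNpos ?_ ?_ ?_ hp0 hθ hD0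
      · rw [hφ, hL0, lty_a]
      · rw [hφ, hL0, lty_b]
      · rw [hφ, hz]
      · rw [hφ, hL0, lty_h]
      · rw [hφ, hL0, lty_w]
      · simp only [zw, map_mul, map_inv]
      · simp only [map_mul, map_inv] at hR1
        exact hcomm _ _ hR1
      · simp only [map_mul, map_inv] at hR2
        exact hcomm _ _ hR2
      · simp only [map_mul, map_inv, map_pow] at hR3
        exact mul_inv_eq_one.1 hR3
      · simp only [map_mul, map_inv, map_pow] at hR4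
        exact mul_inv_eq_one.1 hR4
      · rwa [map_pow] at hR5
      · simp only [map_mul, map_inv] at hR6
        rw [mul_inv_eq_one.1 hR6]
        exact map_QY π hw₁
      · simp only [map_mul, map_inv] at hR7
        rw [mul_inv_eq_one.1 hR7]
        exact map_QY π hw₂
      · rwa [map_pow] at hR8
      · rwa [map_mul] at hR9
      · have := hR10
        simp only [map_mul, map_inv, map_zpow] at this
        exact mul_inv_eq_one.1 this
      · intro a b h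
        obtain ⟨x, hx, ex⟩ := hlift a b h
        exact ⟨π x, map_QY π hx, by rw [hφ, ex]⟩
    have hZ := Ha0 Γ π φ hφ _ hCtx hRa0
    have hAr : ∀ i : ℕ, i < 3 → Arw hσ φ (Subgroup.closure ({π ya, π yb} : Set Γ)) (π yh) (π yw) ((ζ ^ i : Fˣ) : F)
        (bb σ ((ζ ^ i : Fˣ) : F) c₀) := by
      intro i hi
      interval_cases i
      · exact Ha1 Γ π φ hφ _ hCtx hRa1
      · exact Ha2 Γ π φ hφ _ hCtx hRa2
      · exact Ha3 Γ π φ hφ _ hCtx hRa3
    have hbig : ∀ x ∈ Subgroup.closure ({π ya, π yb} : Set Γ), x ≠ 1 →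
        π yw * x * (π yw)⁻¹ ∈ BW (Subgroup.closure ({π ya, π yb} : Set Γ)) (π yh) (π yw) :=
      fun x hx hx1 => hCtx.all_arrows hζ hnorm hc₀ hc₀1 hgenC hD0 hsD hZ hAr hx hx1
    exact ⟨hCtx.phi_inj (gen_of_surj_p π hπ) hbig, hCtx.phi_surj hζ⟩

/-- The presentation of the group with the form with a Witt basis, for `q` prime. -/
theorem su3p_pres (hq : q.Prime) :
    ∃ R : Finset YY, R.card ≤ 14 ∧ Nonempty (PresentedGroup (↑R : Set YY) ≃* GG (frobHom hF)) := by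
  classical
  obtain ⟨ζ, θ, b₁, b₂, h₁, h₂, L, hL, hLt, hLΓ⟩ := su3p_rels hF hq
  refine ⟨L.toFinset, (List.toFinset_card_le L).trans hL, ?_⟩
  have hR : ∀ r ∈ (↑L.toFinset : Set YY), lty (hσ_frob hF) ζ h₁ h₂ r = 1 := by
    intro r hr
    exact hLt r (by simpa using hr)
  let φ : PresentedGroup (↑L.toFinset : Set YY) →* GG (frobHom hF) := PresentedGroup.toGroup hR
  have hbij := hLΓ _ (PresentedGroup.mk (↑L.toFinset : Set YY)) (PresentedGroup.mk_surjective _) φ (fun x => rfl)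
    (fun r hr => PresentedGroup.one_of_mem (by simpa using hr))
  exact ⟨MulEquiv.ofBijective φ hbij⟩

end main

end Cfsg.Agent.Lib.PresU.P3
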