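import Cfsg.Agent.Lib.PresU.OWords
import Cfsg.Agent.Lib.PresU.SU3p
import Cfsg.Agent.Lib.Classical.HermOrders
import Cfsg.Agent.Lib.PresSLn.ShortF
import Cfsg.Agent.Lib.PresSLn.Quot
import Cfsg.Agent.Lib.PresSp.Theta
import Cfsg.Agent.Lib.PSUTwo.Final
import Cfsg.Agent.Lib.PresAlt.Tietze
import Cfsg.Agent.S2286

/-!
# The concrete data for the unitary groups over a finite field
-/

set_option autoImplicit false
set_option linter.unusedSectionVars false
set_option linter.unusedSimpArgs false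
set_option linter.style.haveILetI false

namespace Cfsg.Agent.Lib.PresU

open Matrix Cfsg Cfsg.Agent.Lib.HermCount.Field

section gram

variable {F : Type*} [Field F] [Fintype F] {q : ℕ} (hF : Fintype.card F = q ^ 2)
variable {Ι : Type*} [Fintype Ι] [DecidableEq Ι] {n : ℕ}

include hF in
/-- The change of basis attached to a factorisation of the Gram matrix. -/
theorem gram_bridge (e : Fin n ≃ Ι) {J Q : Matrix Ι Ι F} (hQ : Qᵀ * Q.map (frobHom hF) = J) (hJ : J * J = 1)
    (hσJ : J.map (frobHom hF) = J) :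
    ∃ (P : Matrix (Fin n) Ι F) (P' : Matrix Ι (Fin n) F), P * P' = 1 ∧ P' * P = 1 ∧
      ∀ x y, Cfsg.hermForm n F q (P *ᵥ x) (P *ᵥ y) = fJ (frobHom hF) J x y := by
  have hσ : ∀ x, frobHom hF (frobHom hF x) = x := Cfsg.Agent.Lib.PresSU3.hσ_frob hF
  have h1 : (Q.map (frobHom hF))ᵀ * Q = J := by
    have h2 : (Qᵀ * Q.map (frobHom hF)).map (frobHom hF) = J := by rw [hQ, hσJ]
    rw [Matrix.map_mul] at h2
    have h3 : (Q.map (frobHom hF)).map (frobHom hF) = Q := by
      ext i j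
      simp only [map_apply]
      exact hσ _
    rw [h3] at h2
    exact h2
  set Q' := J * (Q.map (frobHom hF))ᵀ with hQ'
  have h4 : Q' * Q = 1 := by
    rw [hQ', Matrix.mul_assoc, h1, hJ]
  have h5 : Q * Q' = 1 := mul_eq_one_comm.1 h4
  refine ⟨Q.submatrix e id, Q'.submatrix id e, ?_, ?_, ?_⟩
  · ext i j
    simp only [mul_apply, submatrix_apply, id]
    have := congrFun (congrFun h5 (e i)) (e j)
    rw [mul_apply] at this
    rw [this]
    simp [one_apply, e.injective.eq_iff]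
  · ext i j
    simp only [mul_apply, submatrix_apply, id]
    have := congrFun (congrFun h4 i) j
    rw [mul_apply] at this
    rw [← this]
    exact e.sum_comp (fun s => Q' i s * Q s j)
  · intro x y
    have e1 : ∀ (v : Ι → F) (i : Fin n), (Q.submatrix e id *ᵥ v) i = (Q *ᵥ v) (e i) := fun _ _ => rfl
    simp only [Cfsg.hermForm, e1]
    have e2 := e.sum_comp (fun s => (Q *ᵥ x) s * ((Q *ᵥ y) s) ^ q)
    rw [e2, ← hQ]
    have e3 := fJ_mul (σ := frobHom hF) (1 : Matrix Ι Ι F) Q x y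
    rw [Matrix.mul_one] at e3
    rw [← e3]
    simp [fJ, dotProduct, frobHom_apply]

end gram

section blocks

variable {ι : Type*} [Fintype ι] [DecidableEq ι] {F : Type*} [Field F]

/-- The change of basis for the hyperbolic form. -/
def QE (ι : Type*) [Fintype ι] [DecidableEq ι] (α l e : F) : Matrix (ι ⊕ ι) (ι ⊕ ι) F :=
  fromBlocks 1 (α • 1) (l • 1) ((α * e * l) • 1)

lemma map_smul_one (σ : F →+* F) (a : F) : ((a • 1 : Matrix ι ι F)).map σ = σ a • 1 := by
  ext i j
  by_cases h : i = j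
  · subst h
    simp
  · simp [one_apply, h]

lemma QE_gram {σ : F →+* F} {α l e : F} (hN : l * σ l = -1) (he : e * σ e = 1) (h1 : α * (1 - e) = 1)
    (h2 : σ α * (1 - σ e) = 1) : (QE ι α l e)ᵀ * (QE ι α l e).map σ = JE ι F := by
  have key : ∀ (a b c d a' b' c' d' : F), fromBlocks (a • (1 : Matrix ι ι F)) (b • (1 : Matrix ι ι F))
      (c • (1 : Matrix ι ι F)) (d • (1 : Matrix ι ι F)) *
      fromBlocks (a' • (1 : Matrix ι ι F)) (b' • (1 : Matrix ι ι F)) (c' • (1 : Matrix ι ι F)) (d' • (1 : Matrix ι ι F)) =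
      fromBlocks ((a * a' + b * c') • (1 : Matrix ι ι F)) ((a * b' + b * d') • (1 : Matrix ι ι F))
        ((c * a' + d * c') • (1 : Matrix ι ι F)) ((c * b' + d * d') • (1 : Matrix ι ι F)) := by
    intro a b c d a' b' c' d'
    rw [fromBlocks_multiply]
    simp only [smul_mul_assoc, mul_smul_comm, Matrix.one_mul, smul_smul, add_smul, mul_comm a', mul_comm b',
      mul_comm c', mul_comm d']
  have e0 : QE ι α l e = fromBlocks ((1 : F) • (1 : Matrix ι ι F)) (α • (1 : Matrix ι ι F)) (l • (1 : Matrix ι ι F))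
      ((α * e * l) • (1 : Matrix ι ι F)) := by
    rw [QE, one_smul]
  rw [e0, fromBlocks_transpose, fromBlocks_map, map_smul_one, map_smul_one, map_smul_one, map_smul_one,
    transpose_smul, transpose_smul, transpose_smul, transpose_smul, transpose_one, key, JE]
  simp only [map_mul, map_one]
  have e1 : 1 * 1 + l * σ l = 0 := by rw [hN]; ring
  have e2 : 1 * σ α + l * (σ α * σ e * σ l) = 1 := by linear_combination h2 + σ α * σ e * hN
  have e3 : α * 1 + α * e * l * σ l = 1 := by linear_combination h1 + α * e * hN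
  have e4 : α * σ α + α * e * l * (σ α * σ e * σ l) = 0 := by
    linear_combination α * σ α * he * (l * σ l) + α * σ α * hN
  rw [e1, e2, e3, e4]
  simp

lemma JE_sq : JE ι F * JE ι F = 1 := by
  rw [JE, fromBlocks_multiply]
  simp

lemma JE_map (σ : F →+* F) : (JE ι F).map σ = JE ι F := by
  rw [JE, fromBlocks_map]
  simp [Matrix.map_one _ (map_zero σ) (map_one σ)]

/-- The change of basis in odd degree. -/
def QO (ι : Type*) [Fintype ι] [DecidableEq ι] (α l e : F) : Matrix (Io ι) (Io ι) F :=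
  fromBlocks (QE ι α l e) 0 0 1

lemma QO_gram {σ : F →+* F} {α l e : F} (hN : l * σ l = -1) (he : e * σ e = 1) (h1 : α * (1 - e) = 1)
    (h2 : σ α * (1 - σ e) = 1) : (QO ι α l e)ᵀ * (QO ι α l e).map σ = J1 ι F := by
  have m1 : (1 : Matrix Unit Unit F).map σ = 1 := Matrix.map_one _ (map_zero σ) (map_one σ)
  rw [QO, J1, fromBlocks_transpose, fromBlocks_map, fromBlocks_multiply, QE_gram hN he h1 h2, m1]
  simp

lemma J1_sq : J1 ι F * J1 ι F = 1 := by
  rw [J1, fromBlocks_multiply, JE_sq]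
  simp

lemma J1_map (σ : F →+* F) : (J1 ι F).map σ = J1 ι F := by
  rw [J1, fromBlocks_map, JE_map]
  simp [Matrix.map_one _ (map_zero σ) (map_one σ)]

end blocks

section field

variable {F : Type*} [Field F] [Fintype F] {q : ℕ} (hF : Fintype.card F = q ^ 2)

include hF

/-- The scalars for the change of basis. -/
lemma exists_QE_data : ∃ α l e : F, l * frobHom hF l = -1 ∧ e * frobHom hF e = 1 ∧ α * (1 - e) = 1 ∧
    frobHom hF α * (1 - frobHom hF e) = 1 := by
  have hq := two_le hF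
  obtain ⟨ζ, hgen, hord⟩ := Cfsg.Agent.Lib.PresSU3.exists_gen_units hF
  obtain ⟨t, ht⟩ := Cfsg.Agent.Lib.PresSU3.exists_nrm hF (-1) (by simp [map_neg]) (by
    simp only [ne_eq, neg_eq_zero, one_ne_zero, not_false_eq_true])
  set l : F := (t : F) with hl
  have hN : l * frobHom hF l = -1 := ht
  set e : F := ((ζ ^ (q - 1) : Fˣ) : F) with he
  have hnorm : e * frobHom hF e = 1 := Cfsg.Agent.Lib.PresSU3.c0_norm hF hord ζ hq
  have he1 : e ≠ 1 := by
    intro h
    apply Cfsg.Agent.Lib.PresSU3.c0_ne hF hord hq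
    apply Units.ext
    exact h
  have hse1 : 1 - frobHom hF e ≠ 0 := by
    intro h
    apply he1
    apply (frobHom hF).injective
    rw [map_one]
    linear_combination -h
  refine ⟨(1 - e)⁻¹, l, e, hN, hnorm, inv_mul_cancel₀ (sub_ne_zero.2 he1.symm), ?_⟩
  rw [map_inv₀, map_sub, map_one]
  exact inv_mul_cancel₀ hse1

/-- The Gram change in even degree. -/
theorem gram_even (ι : Type*) [Fintype ι] [DecidableEq ι] {n : ℕ} (hn : Fintype.card ι + Fintype.card ι = n) :
    ∃ (P : Matrix (Fin n) (ι ⊕ ι) F) (P' : Matrix (ι ⊕ ι) (Fin n) F), P * P' = 1 ∧ P' * P = 1 ∧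
      ∀ x y, Cfsg.hermForm n F q (P *ᵥ x) (P *ᵥ y) = fJ (frobHom hF) (JE ι F) x y := by
  obtain ⟨α, l, e, h1, h2, h3, h4⟩ := exists_QE_data hF
  exact gram_bridge hF (Fintype.equivFinOfCardEq (by rw [Fintype.card_sum, hn])).symm (QE_gram h1 h2 h3 h4) JE_sq
    (JE_map _)

/-- The Gram change in odd degree. -/
theorem gram_odd (ι : Type*) [Fintype ι] [DecidableEq ι] {n : ℕ} (hn : Fintype.card ι + Fintype.card ι + 1 = n) :
    ∃ (P : Matrix (Fin n) (Io ι) F) (P' : Matrix (Io ι) (Fin n) F), P * P' = 1 ∧ P' * P = 1 ∧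
      ∀ x y, Cfsg.hermForm n F q (P *ᵥ x) (P *ᵥ y) = fJ (frobHom hF) (J1 ι F) x y := by
  obtain ⟨α, l, e, h1, h2, h3, h4⟩ := exists_QE_data hF
  exact gram_bridge hF (Fintype.equivFinOfCardEq (by
    rw [Fintype.card_sum, Fintype.card_sum, ← hn]
    simp)).symm (QO_gram h1 h2 h3 h4) J1_sq (J1_map _)

/-- The fixed subfield. -/
abbrev kF : Subfield F := RingHom.eqLocusField (frobHom hF) (RingHom.id F)

/-- The involution data. -/
lemma inv_F : Inv (frobHom hF) ((kF hF).subtype) where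
  invol := Cfsg.Agent.Lib.PresSU3.hσ_frob hF
  fix := fun x => x.2
  surj := fun x hx => ⟨⟨x, hx⟩, rfl⟩
  ne := exists_frob_ne hF

/-- The norm of a generator generates. -/
lemma gen_kF {ζ : Fˣ} (hgen : ∀ u : Fˣ, ∃ n : ℕ, ζ ^ n = u) (u : (kF hF)ˣ) :
    ∃ n : ℕ, (inv_F hF).nU ζ ^ n = u := by
  have hu : (((u : kF hF) : F)) ≠ 0 := by
    intro h
    exact u.ne_zero (Subtype.ext h)
  obtain ⟨t, ht⟩ := Cfsg.Agent.Lib.PresSU3.exists_nrm hF ((u : kF hF) : F) (u : kF hF).2 hu
  obtain ⟨n, rfl⟩ := hgen t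
  refine ⟨n, ?_⟩
  rw [← map_pow]
  apply Units.ext
  apply Subtype.ext
  have := (inv_F hF).j_nU (ζ ^ n)
  exact this.trans ht

end field

section center

variable {F : Type*} [Field F] [Fintype F] {q : ℕ} (hF : Fintype.card F = q ^ 2)

include hF

/-- The centre of the special unitary group is cyclic. -/
theorem center_zpowers (n : ℕ) (hn : 2 ≤ n) :
    ∃ c : ↥(Cfsg.SU n F q), Subgroup.center (Cfsg.SU n F q) = Subgroup.zpowers c := by
  classical
  have hsc : ∀ z : Subgroup.center (Cfsg.SU n F q), ∃ a : F, z.1.1.1 = a • 1 := by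
    rintro ⟨z, hz⟩
    have hz' : Cfsg.Agent.Lib.Classical.HermBridge.suEquiv n q z ∈
        Subgroup.center (Cfsg.Agent.Lib.Classical.HermBasic.suGroup (Cfsg.hermForm n F q)) := by
      rw [← Cfsg.Agent.Lib.Classical.SympSimple.map_center_mulEquiv (Cfsg.Agent.Lib.Classical.HermBridge.suEquiv n q)]
      exact ⟨z, hz, rfl⟩
    obtain ⟨a, ha⟩ := Cfsg.Agent.Lib.Classical.HermSimple.scalar_of_mem_center
      (Cfsg.Agent.Lib.Classical.HermBridge.hform hF n) (Cfsg.Agent.Lib.Classical.HermBridge.invol_frob hF)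
      (by rw [Module.finrank_fin_fun]; exact hn) hz'
    refine ⟨a, ?_⟩
    ext i j
    have h1 := congrFun (ha (Pi.single j 1)) i
    rw [Cfsg.Agent.Lib.Classical.HermBridge.suEquiv_apply, mulVec_single_one] at h1
    simpa [one_apply, Pi.single_apply] using h1
  let i0 : Fin n := ⟨0, by omega⟩
  have hval : ∀ (z : Subgroup.center (Cfsg.SU n F q)) (a : F), z.1.1.1 = a • 1 → z.1.1.1 i0 i0 = a := by
    intro z a h
    rw [h]
    simp
  let f : Subgroup.center (Cfsg.SU n F q) →* F :=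
    { toFun := fun z => z.1.1.1 i0 i0
      map_one' := by
        simp
      map_mul' := by
        intro x y
        obtain ⟨a, ha⟩ := hsc x
        obtain ⟨b, hb⟩ := hsc y
        have e1 : (x * y).1.1.1 = x.1.1.1 * y.1.1.1 := rfl
        change (x * y).1.1.1 i0 i0 = x.1.1.1 i0 i0 * y.1.1.1 i0 i0
        rw [e1, ha, hb]
        simp [Matrix.smul_apply, Matrix.mul_apply, one_apply] }
  have hf : Function.Injective f := by
    intro x y hxy
    obtain ⟨a, ha⟩ := hsc x
    obtain ⟨b, hb⟩ := hsc y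
    have h1 : a = b := by
      rw [← hval x a ha, ← hval y b hb]
      exact hxy
    apply Subtype.ext
    apply Subtype.ext
    apply Subtype.ext
    rw [ha, hb, h1]
  haveI : IsCyclic (Subgroup.center (Cfsg.SU n F q)) := isCyclic_of_injective_ringHom f hf
  obtain ⟨g, hg⟩ := IsCyclic.exists_generator (α := Subgroup.center (Cfsg.SU n F q))
  refine ⟨(g : ↥(Cfsg.SU n F q)), ?_⟩
  ext x
  constructor
  · intro hx
    obtain ⟨k, hk⟩ := Subgroup.mem_zpowers_iff.1 (hg ⟨x, hx⟩)
    exact Subgroup.mem_zpowers_iff.2 ⟨k, by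
      have := congrArg Subtype.val hk
      simpa using this⟩
  · intro hx
    obtain ⟨k, rfl⟩ := Subgroup.mem_zpowers_iff.1 hx
    exact zpow_mem g.2 k

/-- From `SU` to `PSU`, on two generators. -/
theorem psu_of_su {k : ℕ} (n : ℕ) (hn : 3 ≤ n) (h32 : ¬ (n = 3 ∧ q = 2)) (R : Finset (FreeGroup (Fin k)))
    (E : PresentedGroup (↑R : Set (FreeGroup (Fin k))) ≃* ↥(Cfsg.SU n F q)) :
    ∃ rels : Finset (FreeGroup (Fin 2)), rels.card ≤ R.card + 3 ∧
      Nonempty (PresentedGroup (↑rels : Set (FreeGroup (Fin 2))) ≃* Cfsg.PSU n F q) := by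
  classical
  obtain ⟨c, hc⟩ := center_zpowers hF n (by omega)
  obtain ⟨R', hR', ⟨E'⟩⟩ := Cfsg.Agent.Lib.PresSLn.Quot.pres_quot R E (Subgroup.center (Cfsg.SU n F q)) c hc
  obtain ⟨a, b, hab⟩ := Cfsg.Agent.Lib.PSUTwo.Final.psu_two_gen hF n hn (fun h h' => h32 ⟨h, h'⟩)
  obtain ⟨R'', hR'', e'', -, -⟩ := Cfsg.Agent.Lib.PresAlt.Tietze.pair R' E' a b hab
  exact ⟨R'', by omega, ⟨e''⟩⟩

end center

end Cfsg.Agent.Lib.PresU
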