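import Cfsg.Agent.Lib.PresU.Clo

/-!
# The decomposition of the group into double cosets of the Siegel parabolic, part two
-/

set_option autoImplicit false

namespace Cfsg.Agent.Lib.PresU

open Matrix Cfsg.Agent.Lib.PresSp.M2 Cfsg.Agent.Lib.PresSp.Mono Cfsg.Agent.Lib.PresSLn.TwoGen
open Cfsg.Agent.Lib.PresSp.Abs (conj_conj)
open UHyp0

variable {ι : Type*} [Fintype ι] [DecidableEq ι] {K : Type*} [Field K] {k : Type*} [Field k]
  {Γ : Type*} [Group Γ]
variable {a b : ι}

namespace UHyp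

variable [Finite K] [Finite k] {σ : K →+* K} {j : k →+* K} {I : Inv σ j}
  {lam : SpecialLinearGroup ι K →* Γ} {mu : M2 k →* Γ} {hab : a ≠ b} {ζ : Kˣ}
  (H : UHyp I lam mu hab ζ)

omit [Finite K] [Finite k] in
lemma nR_comm_of {x : Γ} {R : List ι} (h : ∀ i ∈ R, Commute x (muJ lam mu a b i wn)) :
    Commute x (nR lam mu a b R) := by
  induction R with
  | nil => exact Commute.one_right _
  | cons i R ih =>
    rw [nR_cons]
    exact (h i (by simp)).mul_right (ih fun j hj => h j (by simp [hj]))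

include H

lemma nR_erase {j : ι} {R : List ι} (hj : j ∈ R) :
    nR lam mu a b R = muJ lam mu a b j wn * nR lam mu a b (R.erase j) := by
  induction R with
  | nil => simp at hj
  | cons i R ih =>
    by_cases h : i = j
    · subst h
      rw [List.erase_cons_head, nR_cons]
    · have hj' : j ∈ R := by
        rcases List.mem_cons.1 hj with h' | h'
        · exact absurd h'.symm h
        · exact h'
      rw [List.erase_cons_tail (by simpa using h), nR_cons, nR_cons, ih hj', ← mul_assoc, ← mul_assoc,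
        (H.comm_muJ h _ _).eq]

/-- A transvection is moved by a product of Weyl elements into the Siegel parabolic. -/
lemma conj_nR {j k' : ι} (hjk : j ≠ k') {R : List ι} (hR : R.Nodup) (h : j ∉ R ∨ k' ∈ R) (c : K) :
    (nR lam mu a b R)⁻¹ * lam (TT hjk c) * nR lam mu a b R ∈ Pp lam mu := by
  have hT : ∀ {i l : ι} (hil : i ≠ l) (d : K) {S : List ι}, i ∉ S → l ∉ S →
      Commute (lam (TT hil d)) (nR lam mu a b S) := by
    intro i l hil d S hi hl
    refine nR_comm_of fun m hm => H.comm_T_muJ hil ?_ ?_ d wn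
    · rintro rfl
      exact hi hm
    · rintro rfl
      exact hl hm
  by_cases hk : k' ∈ R
  · by_cases hj : j ∈ R
    · -- both in `R`
      have h1 : k' ∈ R.erase j := (List.mem_erase_of_ne (Ne.symm hjk)).2 hk
      have hd : (R.erase j).Nodup := hR.erase j
      have hj2 : j ∉ (R.erase j).erase k' := fun hh => hR.not_mem_erase (List.mem_of_mem_erase hh)
      have hk2 : k' ∉ (R.erase j).erase k' := hd.not_mem_erase
      have e0 : nR lam mu a b R = muJ lam mu a b k' wn * muJ lam mu a b j wn *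
          nR lam mu a b ((R.erase j).erase k') := by
        rw [H.nR_erase hj, H.nR_erase h1, ← mul_assoc, (H.comm_muJ hjk _ _).eq]
      set N := nR lam mu a b ((R.erase j).erase k') with hN
      set wj := muJ lam mu a b j wn with hwj
      set wk := muJ lam mu a b k' wn with hwk
      have e1 : wk⁻¹ * lam (TT hjk c) * wk = zz lam mu a b hjk.symm (σ (-c)) := by
        rw [hwk, H.w_inv_T, H.zz_symm]
      have e2 : wj⁻¹ * zz lam mu a b hjk.symm (σ (-c)) * wj = lam (TT hjk.symm (σ (-c))) := by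
        simp only [zz]
        rw [← hwj]
        group
      have e3 : N⁻¹ * lam (TT hjk.symm (σ (-c))) * N = lam (TT hjk.symm (σ (-c))) := by
        rw [(hT hjk.symm (σ (-c)) hk2 hj2).symm.inv_left.eq, inv_mul_cancel_right]
      have e4 : (wk * wj * N)⁻¹ * lam (TT hjk c) * (wk * wj * N) =
          N⁻¹ * (wj⁻¹ * (wk⁻¹ * lam (TT hjk c) * wk) * wj) * N := by group
      rw [e0, e4, e1, e2, e3]
      exact lam_mem_Pp _
    · -- only `k'` in `R`
      have hj2 : j ∉ R.erase k' := fun hh => hj (List.mem_of_mem_erase hh)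
      have hk2 : k' ∉ R.erase k' := hR.not_mem_erase
      have e0 := H.nR_erase (lam := lam) (mu := mu) hk
      set N := nR lam mu a b (R.erase k') with hN
      set wk := muJ lam mu a b k' wn with hwk
      have e1 : wk⁻¹ * lam (TT hjk c) * wk = zz lam mu a b hjk (-c) := by
        rw [hwk, H.w_inv_T]
      have e3 : Commute (zz lam mu a b hjk (-c)) N := by
        refine nR_comm_of fun m hm => (H.comm_muJ_zz hjk ?_ ?_ wn _).symm
        · rintro rfl
          exact hj2 hm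
        · rintro rfl
          exact hk2 hm
      have e4 : (wk * N)⁻¹ * lam (TT hjk c) * (wk * N) = N⁻¹ * (wk⁻¹ * lam (TT hjk c) * wk) * N := by
        group
      rw [e0, e4, e1, e3.symm.inv_left.eq, inv_mul_cancel_right]
      exact H.zz_mem_Pp _ _
  · have hj : j ∉ R := by
      rcases h with h | h
      · exact h
      · exact absurd h hk
    rw [(hT hjk c hj hk).symm.inv_left.eq, inv_mul_cancel_right]
    exact lam_mem_Pp _

omit H in
/-- The stabiliser of the parabolic under conjugation by a product of Weyl elements. -/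
def PR (lam : SpecialLinearGroup ι K →* Γ) (mu : M2 k →* Γ) (a b : ι) (R : List ι) :
    Subgroup (SpecialLinearGroup ι K) where
  carrier := {l | (nR lam mu a b R)⁻¹ * lam l * nR lam mu a b R ∈ Pp lam mu}
  mul_mem' := by
    intro x y hx hy
    have e : (nR lam mu a b R)⁻¹ * lam (x * y) * nR lam mu a b R =
        ((nR lam mu a b R)⁻¹ * lam x * nR lam mu a b R) * ((nR lam mu a b R)⁻¹ * lam y * nR lam mu a b R) := by
      rw [map_mul]
      group
    show (nR lam mu a b R)⁻¹ * lam (x * y) * nR lam mu a b R ∈ Pp lam mu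
    rw [e]
    exact mul_mem hx hy
  one_mem' := by
    show (nR lam mu a b R)⁻¹ * lam 1 * nR lam mu a b R ∈ Pp lam mu
    simp [one_mem]
  inv_mem' := by
    intro x hx
    have e : (nR lam mu a b R)⁻¹ * lam x⁻¹ * nR lam mu a b R =
        ((nR lam mu a b R)⁻¹ * lam x * nR lam mu a b R)⁻¹ := by
      rw [map_inv]
      group
    show (nR lam mu a b R)⁻¹ * lam x⁻¹ * nR lam mu a b R ∈ Pp lam mu
    rw [e]
    exact inv_mem hx

/-- The Bruhat decomposition for a long root `SL₂` and a product of Weyl elements. -/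
lemma muJ_nR (j : ι) (g : M2 k) {R : List ι} (hR : R.Nodup) :
    ∃ R' : List ι, R'.Nodup ∧ ∃ p₁ ∈ Pp lam mu, ∃ p₂ ∈ Pp lam mu,
      muJ lam mu a b j g * nR lam mu a b R = p₁ * nR lam mu a b R' * p₂ := by
  have key : ∀ (g : M2 k) {R : List ι}, R.Nodup → j ∉ R →
      ∃ R' : List ι, R'.Nodup ∧ ∃ p₁ ∈ Pp lam mu, ∃ p₂ ∈ Pp lam mu,
      muJ lam mu a b j g * nR lam mu a b R = p₁ * nR lam mu a b R' * p₂ := by
    intro g R hR hj
    have hc : ∀ g', Commute (muJ lam mu a b j g') (nR lam mu a b R) := by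
      intro g'
      refine nR_comm_of fun m hm => H.comm_muJ ?_ _ _
      rintro rfl
      exact hj hm
    rcases bruhat g with ⟨x, y, u, rfl⟩ | ⟨x, y, u, rfl⟩
    · refine ⟨R, hR, muJ lam mu a b j (uu x * dd u * uu y), ?_, 1, one_mem _, by rw [mul_one]⟩
      rw [map_mul, map_mul]
      exact mul_mem (mul_mem (yy_mem_Pp j x) (muJ_dd_mem_Pp j u)) (yy_mem_Pp j y)
    · refine ⟨j :: R, List.nodup_cons.2 ⟨hj, hR⟩, muJ lam mu a b j (uu x * dd u),
        ?_, muJ lam mu a b j (uu y), yy_mem_Pp j y, ?_⟩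
      · rw [map_mul]
        exact mul_mem (yy_mem_Pp j x) (muJ_dd_mem_Pp j u)
      · rw [nR_cons, map_mul, map_mul, mul_assoc (muJ lam mu a b j (uu x * dd u) * muJ lam mu a b j wn),
          (hc _).eq]
        simp only [map_mul]
        group
  by_cases hj : j ∈ R
  · have := key (g * wn) (hR.erase j) hR.not_mem_erase
    rwa [map_mul, mul_assoc, ← H.nR_erase hj] at this
  · exact key g hR hj

/-- The key step of the decomposition. -/
lemma mu_lam_nR (g : M2 k) (l : SpecialLinearGroup ι K) {R : List ι} (hR : R.Nodup) :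
    ∃ R' : List ι, R'.Nodup ∧ ∃ p₁ ∈ Pp lam mu, ∃ p₂ ∈ Pp lam mu,
      mu g * lam l * nR lam mu a b R = p₁ * nR lam mu a b R' * p₂ := by
  -- the row
  set r : ι → K := Pi.single b 1 ᵥ* l.1 with hr
  have hr0 : r ≠ 0 := by
    intro h0
    have h1 : r ᵥ* (l⁻¹).1 = Pi.single b 1 := by
      rw [hr, vecMul_vecMul, mul_inv_coe, vecMul_one]
    rw [h0, zero_vecMul] at h1
    have := congrFun h1 b
    simp at this
  obtain ⟨j, hj0, hjR⟩ : ∃ j, r j ≠ 0 ∧ ∀ k', r k' ≠ 0 → j ∉ R ∨ k' ∈ R := by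
    by_cases hh : ∃ j, j ∉ R ∧ r j ≠ 0
    · obtain ⟨j, h1, h2⟩ := hh
      exact ⟨j, h2, fun k' _ => Or.inl h1⟩
    · obtain ⟨j, hj⟩ := Function.ne_iff.1 hr0
      refine ⟨j, hj, fun k' hk => Or.inr ?_⟩
      by_contra hkR
      exact hh ⟨k', hkR, hk⟩
  set c : Kˣ := Units.mk0 (r j) hj0 with hc
  have hcv : (c : K) = r j := rfl
  set r' : ι → K := (r j)⁻¹ • r with hr'
  have hr'j : r' j = 1 := by
    simp only [hr', Pi.smul_apply, smul_eq_mul]
    exact inv_mul_cancel₀ hj0
  obtain ⟨l', hl'P, hl'⟩ := exists_row (j := j) r' hr'j (PR lam mu a b R) (by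
    intro k' hk
    by_cases hrk : r k' = 0
    · have : r' k' = 0 := by simp [hr', hrk]
      rw [this]
      have e1 : SpecialLinearGroup.transvection hk (0 : K) = 1 := TT_zero hk
      rw [e1]
      exact one_mem _
    · exact H.conj_nR hk hR (hjR k' hrk) _)
  -- the row of `l l'⁻¹`
  have row1 : Pi.single b 1 ᵥ* (l * l'⁻¹).1 = (r j) • Pi.single j 1 := by
    have e1 : r = (r j) • (Pi.single j 1 ᵥ* l'.1) := by
      rw [hl', hr', smul_smul, mul_inv_cancel₀ hj0, one_smul]
    rw [coeM, ← vecMul_vecMul, ← hr]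
    calc r ᵥ* (l'⁻¹).1 = ((r j) • (Pi.single j 1 ᵥ* l'.1)) ᵥ* (l'⁻¹).1 := by rw [← e1]
      _ = _ := by rw [smul_vecMul, vecMul_vecMul, mul_inv_coe, vecMul_one]
  have hpj := mv_pj (F := K) hab j
  have row2 : Pi.single b 1 ᵥ* (l * l'⁻¹ * pj a b j).1 = (r j) • Pi.single b 1 := by
    rw [coeM, ← vecMul_vecMul, row1, smul_vecMul, hpj.row]
  have row3 : Pi.single b 1 ᵥ* (l * l'⁻¹ * pj a b j * tt hab c).1 = Pi.single b 1 := by
    rw [coeM, ← vecMul_vecMul, row2, smul_vecMul, coe_tt]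
    ext m
    rw [Pi.smul_apply, smul_eq_mul, single_one_vecMul]
    by_cases hm : m = b
    · subst hm
      simp [td, hab.symm, ← hcv]
    · simp [hm, Ne.symm hm, diagonal_apply_ne]
  set a₂ := l * l'⁻¹ * pj a b j * tt hab c with ha₂
  set cc : ι → K := a₂.1 *ᵥ Pi.single b 1 with hcc
  have hccb : cc b = 1 := by
    have h1 : cc b = a₂.1 b b := by
      rw [hcc, mulVec_single_one]
      rfl
    have h2 := congrFun row3 b
    rw [single_one_vecMul] at h2
    simpa [h1] using h2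
  let P₂ : Subgroup (SpecialLinearGroup ι K) := (Nn lam mu a b).comap lam
  obtain ⟨v, hvP, hv1, hv2⟩ := exists_col (b := b) cc hccb P₂ (fun k' hk => T_mem_Nn hk _)
  set θ := v⁻¹ * a₂ with hθ
  have hθ1 : θ.1 *ᵥ Pi.single b 1 = Pi.single b 1 := by
    rw [hθ, coeM, ← mulVec_mulVec, ← hcc, ← hv1, mulVec_mulVec, inv_mul_coe, one_mulVec]
  have hv3 : Pi.single b 1 ᵥ* (v⁻¹).1 = Pi.single b 1 := by
    nth_rewrite 1 [← hv2]
    rw [vecMul_vecMul, mul_inv_coe, vecMul_one]
  have hθ2 : Pi.single b 1 ᵥ* θ.1 = Pi.single b 1 := by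
    rw [hθ, coeM, ← vecMul_vecMul, hv3, row3]
  have hl : l = v * θ * (tt hab c)⁻¹ * (pj a b j)⁻¹ * l' := by
    rw [hθ, ha₂]
    group
  -- moving `mu g` to the right
  have hth := H.theta θ hθ1 hθ2
  have hnv : mu g * lam v * (mu g)⁻¹ ∈ Pp lam mu := H.Nn_le_Pp (H.conj_mu_Nn g hvP)
  obtain ⟨g', hg'⟩ := H.exists_tt_mu (hab := hab) c g
  have hS1 : mu g * lam (tt hab c)⁻¹ = lam (tt hab c)⁻¹ * mu g' := by
    rw [← hg', map_inv]
    group
  have hS2 : mu g' * lam (pj a b j)⁻¹ = lam (pj a b j)⁻¹ * muJ lam mu a b j g' := by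
    rw [muJ_apply, map_inv]
    group
  obtain ⟨R', hR', p₁, hp₁, p₂, hp₂, e⟩ := H.muJ_nR j g' hR
  have hl'2 : (nR lam mu a b R)⁻¹ * lam l' * nR lam mu a b R ∈ Pp lam mu := hl'P
  have hr2 : lam l' * nR lam mu a b R = nR lam mu a b R * ((nR lam mu a b R)⁻¹ * lam l' * nR lam mu a b R) := by
    group
  refine ⟨R', hR', (mu g * lam v * (mu g)⁻¹) * lam θ * lam (tt hab c)⁻¹ * lam (pj a b j)⁻¹ * p₁, ?_,
    p₂ * ((nR lam mu a b R)⁻¹ * lam l' * nR lam mu a b R), mul_mem hp₂ hl'2, ?_⟩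
  · exact mul_mem (mul_mem (mul_mem (mul_mem hnv (lam_mem_Pp _)) (lam_mem_Pp _)) (lam_mem_Pp _)) hp₁
  · set nn := nR lam mu a b R with hnn
    set M := mu g * lam v * (mu g)⁻¹ with hM
    set C := nn⁻¹ * lam l' * nn with hC
    calc mu g * lam l * nn
        = M * (mu g * lam θ) * lam (tt hab c)⁻¹ * lam (pj a b j)⁻¹ * lam l' * nn := by
          nth_rewrite 1 [hl]
          simp only [hM, map_mul]
          group
      _ = M * lam θ * (mu g * lam (tt hab c)⁻¹) * lam (pj a b j)⁻¹ * lam l' * nn := by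
          rw [(hth g).symm.eq]
          group
      _ = M * lam θ * lam (tt hab c)⁻¹ * (mu g' * lam (pj a b j)⁻¹) * lam l' * nn := by
          rw [hS1]
          group
      _ = M * lam θ * lam (tt hab c)⁻¹ * lam (pj a b j)⁻¹ * (muJ lam mu a b j g' * (lam l' * nn)) := by
          rw [hS2]
          group
      _ = M * lam θ * lam (tt hab c)⁻¹ * lam (pj a b j)⁻¹ * (muJ lam mu a b j g' * nn * C) := by
          rw [hr2, mul_assoc (muJ lam mu a b j g')]
      _ = M * lam θ * lam (tt hab c)⁻¹ * lam (pj a b j)⁻¹ * (p₁ * nR lam mu a b R' * p₂ * C) := by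
          rw [e]
      _ = _ := by group

/-- The decomposition into double cosets of the Siegel parabolic. -/
theorem decomp (hgen : Subgroup.closure (Set.range lam ∪ Set.range mu) = ⊤) (x : Γ) :
    ∃ R : List ι, R.Nodup ∧ ∃ p₁ ∈ Pp lam mu, ∃ p₂ ∈ Pp lam mu, x = p₁ * nR lam mu a b R * p₂ := by
  have step : ∀ x ∈ (Set.range lam ∪ Set.range mu : Set Γ), ∀ y : Γ,
      (∃ R : List ι, R.Nodup ∧ ∃ p₁ ∈ Pp lam mu, ∃ p₂ ∈ Pp lam mu, y = p₁ * nR lam mu a b R * p₂) →
      ∃ R : List ι, R.Nodup ∧ ∃ p₁ ∈ Pp lam mu, ∃ p₂ ∈ Pp lam mu, x * y = p₁ * nR lam mu a b R * p₂ := by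
    rintro x hx y ⟨R, hR, p₁, hp₁, p₂, hp₂, rfl⟩
    rcases hx with ⟨l, rfl⟩ | ⟨g, rfl⟩
    · exact ⟨R, hR, lam l * p₁, mul_mem (lam_mem_Pp l) hp₁, p₂, hp₂, by group⟩
    · obtain ⟨p, hp, g', l, e1⟩ := H.mu_P g hp₁
      obtain ⟨R', hR', p', hp', p'', hp'', e2⟩ := H.mu_lam_nR g' l hR
      refine ⟨R', hR', p * p', mul_mem hp hp', p'' * p₂, mul_mem hp'' hp₂, ?_⟩
      calc mu g * (p₁ * nR lam mu a b R * p₂) = (mu g * p₁) * nR lam mu a b R * p₂ := by group
        _ = p * (mu g' * lam l * nR lam mu a b R) * p₂ := by rw [e1]; group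
        _ = _ := by rw [e2]; group
  have hx : x ∈ Subgroup.closure (Set.range lam ∪ Set.range mu : Set Γ) := by
    rw [hgen]
    trivial
  induction hx using Subgroup.closure_induction_left with
  | one => exact ⟨[], List.nodup_nil, 1, one_mem _, 1, one_mem _, by simp [nR_nil]⟩
  | mul_left x hx y _ ih => exact step x hx y ih
  | inv_mul_cancel x hx y _ ih =>
    refine step x⁻¹ ?_ y ih
    rcases hx with ⟨l, rfl⟩ | ⟨g, rfl⟩
    · exact Or.inl ⟨l⁻¹, map_inv _ _⟩
    · exact Or.inr ⟨g⁻¹, map_inv _ _⟩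

end UHyp

end Cfsg.Agent.Lib.PresU
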