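import Cfsg.Agent.Lib.PresSp.Abs

/-!
# A field with an involution and its fixed field
-/

set_option autoImplicit false

namespace Cfsg.Agent.Lib.PresU

variable {K : Type*} [Field K] {k : Type*} [Field k]

/-- The involution `σ` of `K` with fixed field the image of `j`. -/
structure Inv (σ : K →+* K) (j : k →+* K) : Prop where
  invol : ∀ x, σ (σ x) = x
  fix : ∀ x, σ (j x) = j x
  surj : ∀ x, σ x = x → ∃ y, j y = x
  ne : ∃ x, σ x ≠ x

/-- The map on units. -/
abbrev jU (j : k →+* K) : kˣ →* Kˣ := Units.map (j : k →* K)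

@[simp] lemma jU_val (j : k →+* K) (u : kˣ) : ((jU j u : Kˣ) : K) = j u := rfl

namespace Inv

variable {σ : K →+* K} {j : k →+* K} (I : Inv σ j)
include I

lemma nm_fix (x : K) : σ (x * σ x) = x * σ x := by
  rw [map_mul, I.invol, mul_comm]

lemma tr_fix (x : K) : σ (x + σ x) = x + σ x := by
  rw [map_add, I.invol, add_comm]

/-- The norm. -/
noncomputable def nm (x : K) : k := Classical.choose (I.surj _ (I.nm_fix x))

/-- The trace. -/
noncomputable def tr (x : K) : k := Classical.choose (I.surj _ (I.tr_fix x))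

lemma j_nm (x : K) : j (I.nm x) = x * σ x := Classical.choose_spec (I.surj _ (I.nm_fix x))

lemma j_tr (x : K) : j (I.tr x) = x + σ x := Classical.choose_spec (I.surj _ (I.tr_fix x))

lemma nm_mul (x y : K) : I.nm (x * y) = I.nm x * I.nm y := by
  apply j.injective
  rw [map_mul, j_nm, j_nm, j_nm, map_mul]
  ring

lemma nm_one : I.nm 1 = 1 := by
  apply j.injective
  rw [j_nm, map_one, map_one, mul_one]

lemma nm_zero : I.nm 0 = 0 := by
  apply j.injective
  rw [j_nm, map_zero, map_zero, mul_zero]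

lemma nm_j (u : k) : I.nm (j u) = u * u := by
  apply j.injective
  rw [j_nm, map_mul, I.fix]

lemma nm_neg (x : K) : I.nm (-x) = I.nm x := by
  apply j.injective
  rw [j_nm, j_nm, map_neg]
  ring

lemma nm_ne {x : K} (h : x ≠ 0) : I.nm x ≠ 0 := by
  intro h0
  have := I.j_nm x
  rw [h0, map_zero] at this
  exact mul_ne_zero h ((map_ne_zero σ).2 h) this.symm

lemma nm_add (x y : K) : I.nm (x + y) = I.nm x + (I.tr (x * σ y) + I.nm y) := by
  apply j.injective
  simp only [map_add, j_nm, j_tr, map_mul, I.invol]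
  ring

lemma tr_add (x y : K) : I.tr (x + y) = I.tr x + I.tr y := by
  apply j.injective
  simp only [map_add, j_tr]
  ring

/-- The norm on units. -/
noncomputable def nU : Kˣ →* kˣ where
  toFun v := Units.mk0 (I.nm v) (I.nm_ne v.ne_zero)
  map_one' := by
    apply Units.ext
    simp [nm_one]
  map_mul' x y := by
    apply Units.ext
    simp [nm_mul]

@[simp] lemma nU_val (v : Kˣ) : ((I.nU v : kˣ) : k) = I.nm v := rfl

lemma j_nU (v : Kˣ) : j ((I.nU v : kˣ) : k) = (v : K) * σ v := I.j_nm v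

lemma j_nU_inv (v : Kˣ) : j (((I.nU v)⁻¹ : kˣ) : k) = ((v : K) * σ v)⁻¹ := by
  rw [Units.val_inv_eq_inv_val, map_inv₀, j_nU]

lemma nU_jU (u : kˣ) : I.nU (jU j u) = u * u := by
  apply Units.ext
  simp [nm_j]

end Inv

/-- There is an element whose square is not fixed. -/
lemma exists_sq_ne [Finite K] {σ : K →+* K} (hne : ∃ x, σ x ≠ x) : ∃ v : Kˣ, σ ((v : K) ^ 2) ≠ (v : K) ^ 2 := by
  by_contra h
  push Not at h
  obtain ⟨x, hx⟩ := hne
  apply hx
  refine Cfsg.Agent.Lib.PresSp.Abs.sq_ind (P := fun x => σ x = x) ?_ ?_ ?_ x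
  · simp
  · intro x y hx hy
    rw [map_add, hx, hy]
  · exact h

lemma Inv.nm_eta {σ : K →+* K} {j : k →+* K} (I : Inv σ j) {η : K} (h : η * η = 1) (c : K) :
    I.nm (η * c) = I.nm c := by
  have e : (η - 1) * (η + 1) = 0 := by linear_combination h
  rcases mul_eq_zero.1 e with h1 | h1
  · have : η = 1 := sub_eq_zero.1 h1
    rw [this, one_mul]
  · have : η = -1 := eq_neg_of_add_eq_zero_left h1
    rw [this, neg_one_mul, I.nm_neg]

lemma Inv.sig_eta {σ : K →+* K} {η : K} (h : η * η = 1) : σ η = η := by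
  have e : (η - 1) * (η + 1) = 0 := by linear_combination h
  rcases mul_eq_zero.1 e with h1 | h1
  · have : η = 1 := sub_eq_zero.1 h1
    rw [this, map_one]
  · have : η = -1 := eq_neg_of_add_eq_zero_left h1
    rw [this, map_neg, map_one]

/-- Any element is a combination of `1` and a non-fixed element. -/
lemma Inv.span2 {σ : K →+* K} {j : k →+* K} (I : Inv σ j) {β : K} (hβ : σ β ≠ β) (x : K) :
    ∃ u v : k, x = j u + j v * β := by
  have h0 : β - σ β ≠ 0 := sub_ne_zero.2 (Ne.symm hβ)
  have hs : σ (β - σ β) = -(β - σ β) := by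
    rw [map_sub, I.invol]
    ring
  obtain ⟨v, hv⟩ := I.surj ((x - σ x) / (β - σ β)) (by
    rw [map_div₀, map_sub, I.invol, hs]
    field_simp
    ring)
  obtain ⟨u, hu⟩ := I.surj (x - j v * β) (by
    rw [map_sub, map_mul, I.fix, hv]
    field_simp
    ring)
  refine ⟨u, v, ?_⟩
  rw [hu]
  ring

end Cfsg.Agent.Lib.PresU
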