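import Cfsg.Agent.Lib.PresU.Tgt
import Cfsg.Agent.Lib.PresSp.Inj

/-!
# Injectivity of the map to the unitary group
-/

set_option autoImplicit false
set_option linter.unusedSectionVars false
set_option linter.unusedSimpArgs false
set_option linter.style.haveILetI false

namespace Cfsg.Agent.Lib.PresU

open Matrix Cfsg.Agent.Lib.PresSp.M2 Cfsg.Agent.Lib.PresSp.Mono Cfsg.Agent.Lib.PresSLn.TwoGen
open Cfsg.Agent.Lib.PresSp.Tgt (sj sj_mul sj_add sj_zero sj_tr sj_ne sj_sub one_sj_mul one_sj_mul_sj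
  sj_mul_one_sj upM upM_mul upM_zero)
open Cfsg.Agent.Lib.PresSp.Inj (ne_of_ord mid_eq det_D)

variable {ι : Type*} [Fintype ι] [DecidableEq ι] {K : Type*} [Field K] {k : Type*} [Field k]
  {Γ : Type*} [Group Γ]
variable {σ : K →+* K} {j : k →+* K} {a b : ι}

/-- Having a zero lower left block. -/
def PB (M : Matrix (ι ⊕ ι) (ι ⊕ ι) K) : Prop := M.toBlocks₂₁ = 0

lemma PB.mul {M N : Matrix (ι ⊕ ι) (ι ⊕ ι) K} (hM : PB M) (hN : PB N) : PB (M * N) := by
  unfold PB at *
  rw [← fromBlocks_toBlocks M, ← fromBlocks_toBlocks N, fromBlocks_multiply, hM, hN]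
  simp [toBlocks_fromBlocks₂₁]

lemma PB.one : PB (1 : Matrix (ι ⊕ ι) (ι ⊕ ι) K) := by
  rw [PB, ← fromBlocks_one, toBlocks_fromBlocks₂₁]

/-- The subgroup of elements mapped to matrices in the parabolic, with their inverses. -/
def PBs (φ : Γ →* Matrix (ι ⊕ ι) (ι ⊕ ι) K) : Subgroup Γ where
  carrier := {x | PB (φ x) ∧ PB (φ x⁻¹)}
  mul_mem' := by
    rintro x y ⟨h1, h2⟩ ⟨h3, h4⟩
    refine ⟨by rw [map_mul]; exact h1.mul h3, ?_⟩
    rw [_root_.mul_inv_rev, map_mul]
    exact h4.mul h2
  one_mem' := by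
    refine ⟨?_, ?_⟩
    · rw [map_one]
      exact PB.one
    · rw [inv_one, map_one]
      exact PB.one
  inv_mem' := by
    rintro x ⟨h1, h2⟩
    refine ⟨h2, ?_⟩
    rwa [inv_inv]

/-- Reading off the image of a conjugate under a homomorphism to matrices. -/
lemma phi_conj (φ : Γ →* Matrix (ι ⊕ ι) (ι ⊕ ι) K) {x y : Γ} {z : Matrix (ι ⊕ ι) (ι ⊕ ι) K}
    (h : φ x * φ y = z * φ x) : φ (x * y * x⁻¹) = z := by
  have h1 : φ x * φ x⁻¹ = 1 := by
    rw [← map_mul, mul_inv_cancel, map_one]
  rw [map_mul, map_mul, h, mul_assoc, h1, mul_one]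

/-- The Weyl elements. -/
def nM (j : k →+* K) (s : K) (R : List ι) : Matrix (ι ⊕ ι) (ι ⊕ ι) K := (R.map (fun i => lgM j s i wn)).prod

lemma lgM_wn_inl (s : K) (i : ι) :
    lgM j s i (wn : M2 k) *ᵥ Pi.single (Sum.inl i) 1 = Pi.single (Sum.inr i) s⁻¹ := by
  rw [mulVec_single_one, lgM_wn]
  ext (r | r)
  · by_cases h : r = i
    · subst h
      simp [sj, single_apply, one_apply]
    · simp [sj, single_apply, one_apply, h, Ne.symm h]
  · by_cases h : r = i
    · subst h
      simp [sj, single_apply]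
    · simp [sj, single_apply, h, Ne.symm h]

lemma lgM_wn_inl_ne (s : K) {i k' : ι} (h : k' ≠ i) :
    lgM j s i (wn : M2 k) *ᵥ Pi.single (Sum.inl k') 1 = Pi.single (Sum.inl k') 1 := by
  rw [mulVec_single_one, lgM_wn]
  ext (r | r)
  · by_cases h2 : r = k'
    · subst h2
      simp [sj, single_apply, one_apply, h, Ne.symm h]
    · simp [sj, single_apply, one_apply, h, Ne.symm h, h2, Ne.symm h2]
  · simp [sj, single_apply, h, Ne.symm h]

lemma lgM_wn_inr_ne (s : K) {i k' : ι} (h : k' ≠ i) (x : K) :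
    lgM j s i (wn : M2 k) *ᵥ Pi.single (Sum.inr k') x = Pi.single (Sum.inr k') x := by
  have e : lgM j s i (wn : M2 k) *ᵥ Pi.single (Sum.inr k') 1 = Pi.single (Sum.inr k') 1 := by
    rw [mulVec_single_one, lgM_wn]
    ext (r | r)
    · simp [sj, single_apply, h, Ne.symm h]
    · by_cases h2 : r = k'
      · subst h2
        simp [sj, single_apply, one_apply, h, Ne.symm h]
      · simp [sj, single_apply, one_apply, h, Ne.symm h, h2, Ne.symm h2]
  have e2 : (Pi.single (Sum.inr k') x : ι ⊕ ι → K) = x • Pi.single (Sum.inr k') 1 := by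
    ext r
    by_cases h : r = Sum.inr k'
    · subst h
      simp
    · simp [Pi.single_apply, h]
  rw [e2, mulVec_smul, e]

lemma nM_inl_notin (s : K) {R : List ι} {k' : ι} (h : k' ∉ R) :
    nM j s R *ᵥ Pi.single (Sum.inl k') 1 = Pi.single (Sum.inl k') 1 := by
  induction R with
  | nil =>
    change (List.prod []) *ᵥ _ = _
    rw [List.prod_nil, one_mulVec]
  | cons i R ih =>
    rw [List.mem_cons, not_or] at h
    have e : nM j s (i :: R) = lgM j s i wn * nM j s R := by simp [nM]
    rw [e, ← mulVec_mulVec, ih h.2, lgM_wn_inl_ne s h.1]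

lemma nM_inl_mem (s : K) {R : List ι} (hR : R.Nodup) {k' : ι} (h : k' ∈ R) :
    nM j s R *ᵥ Pi.single (Sum.inl k') 1 = Pi.single (Sum.inr k') s⁻¹ := by
  induction R with
  | nil => simp at h
  | cons i R ih =>
    have e : nM j s (i :: R) = lgM j s i wn * nM j s R := by simp [nM]
    rw [e, ← mulVec_mulVec]
    rw [List.nodup_cons] at hR
    by_cases hk : k' = i
    · subst hk
      rw [nM_inl_notin s hR.1, lgM_wn_inl]
    · have hk2 : k' ∈ R := (List.mem_cons.1 h).resolve_left hk
      rw [ih hR.2 hk2, lgM_wn_inr_ne s hk]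

/-- A non-empty product of Weyl elements is not in the parabolic. -/
lemma nM_not_mem {s : K} (hs : s ≠ 0) {R : List ι} (hR : R.Nodup) (h : PB (nM j s R)) : R = [] := by
  by_contra hne
  obtain ⟨k', hk⟩ := List.exists_mem_of_ne_nil R hne
  have h1 := congrFun (nM_inl_mem (j := j) s hR hk) (Sum.inr k')
  rw [mulVec_single_one] at h1
  have h2 : nM j s R (Sum.inr k') (Sum.inl k') = 0 := by
    have := congrFun (congrFun h k') k'
    simpa [toBlocks₂₁] using this
  have h3 : nM j s R (Sum.inr k') (Sum.inl k') = s⁻¹ := by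
    simpa using h1
  rw [h2] at h3
  exact inv_ne_zero hs h3.symm

section normal

variable (ι k K) in
/-- The index set for the short root groups. -/
abbrev KP (ord : ι → ℕ) : Type _ := {p : ι × ι // ord p.1 < ord p.2}

/-- The long root groups. -/
def yyH (lam : SpecialLinearGroup ι K →* Γ) (mu : M2 k →* Γ) (a b i : ι) : Multiplicative k →* Γ :=
  MonoidHom.mk' (fun d => yy lam mu a b i (Multiplicative.toAdd d)) (fun _ _ => yy_add i _ _)

/-- The short root groups. -/
def zzH (lam : SpecialLinearGroup ι K →* Γ) (mu : M2 k →* Γ) (a b : ι) {ord : ι → ℕ} (p : KP ι ord) :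
    Multiplicative K →* Γ :=
  MonoidHom.mk' (fun d => zz lam mu a b (ne_of_ord p) (Multiplicative.toAdd d)) (fun _ _ => zz_add _ _ _)

lemma yyH_apply (lam : SpecialLinearGroup ι K →* Γ) (mu : M2 k →* Γ) (a b i : ι) (d : Multiplicative k) :
    yyH lam mu a b i d = yy lam mu a b i (Multiplicative.toAdd d) := rfl

lemma zzH_apply (lam : SpecialLinearGroup ι K →* Γ) (mu : M2 k →* Γ) (a b : ι) {ord : ι → ℕ} (p : KP ι ord)
    (d : Multiplicative K) : zzH lam mu a b p d = zz lam mu a b (ne_of_ord p) (Multiplicative.toAdd d) := rfl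

/-- The matrix of an element of the normal form. -/
def SS1 (j : k →+* K) (s : K) (d : ι → Multiplicative k) : Matrix ι ι K :=
  ∑ i, sj i (j (Multiplicative.toAdd (d i)) * s)

/-- The matrix of an element of the normal form. -/
def SS2 (σ : K →+* K) (s : K) {ord : ι → ℕ} (d : KP ι ord → Multiplicative K) : Matrix ι ι K :=
  ∑ p : KP ι ord, (single p.1.1 p.1.2 (Multiplicative.toAdd (d p) * s) +
    single p.1.2 p.1.1 (σ (Multiplicative.toAdd (d p)) * s))

lemma SS1_mul (s : K) (d d' : ι → Multiplicative k) : SS1 j s (d * d') = SS1 j s d + SS1 j s d' := by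
  simp only [SS1, ← Finset.sum_add_distrib, Pi.mul_apply, toAdd_mul, map_add, add_mul, sj_add]

lemma SS1_one (s : K) : SS1 j s (1 : ι → Multiplicative k) = 0 := by
  simp [SS1, sj_zero]

lemma SS1_single (s : K) (i : ι) (e : Multiplicative k) :
    SS1 j s (Pi.mulSingle i e) = sj i (j (Multiplicative.toAdd e) * s) := by
  classical
  rw [SS1, Finset.sum_eq_single i]
  · simp
  · intro y _ hy
    rw [Pi.mulSingle_eq_of_ne hy]
    simp [sj_zero]
  · simp

lemma SS2_mul (s : K) {ord : ι → ℕ} (d d' : KP ι ord → Multiplicative K) :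
    SS2 σ s (d * d') = SS2 σ s d + SS2 σ s d' := by
  simp only [SS2, ← Finset.sum_add_distrib, Pi.mul_apply, toAdd_mul, map_add, add_mul, single_add]
  refine Finset.sum_congr rfl fun _ _ => ?_
  abel

lemma SS2_one (s : K) {ord : ι → ℕ} : SS2 σ s (1 : KP ι ord → Multiplicative K) = 0 := by
  simp [SS2]

lemma SS2_single (s : K) {ord : ι → ℕ} (p : KP ι ord) (e : Multiplicative K) :
    SS2 σ s (Pi.mulSingle p e) = single p.1.1 p.1.2 (Multiplicative.toAdd e * s) +
      single p.1.2 p.1.1 (σ (Multiplicative.toAdd e) * s) := by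
  classical
  rw [SS2, Finset.sum_eq_single p]
  · simp
  · intro y _ hy
    rw [Pi.mulSingle_eq_of_ne hy]
    simp
  · simp

/-- The normal form homomorphism to matrices. -/
def upH1 (j : k →+* K) (s : K) : (ι → Multiplicative k) →* Matrix (ι ⊕ ι) (ι ⊕ ι) K where
  toFun d := upM (SS1 j s d)
  map_one' := by rw [SS1_one, upM_zero]
  map_mul' d d' := by rw [SS1_mul, upM_mul]

/-- The normal form homomorphism to matrices. -/
def upH2 (σ : K →+* K) (s : K) (ord : ι → ℕ) : (KP ι ord → Multiplicative K) →* Matrix (ι ⊕ ι) (ι ⊕ ι) K where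
  toFun d := upM (SS2 σ s d)
  map_one' := by rw [SS2_one, upM_zero]
  map_mul' d d' := by rw [SS2_mul, upM_mul]

/-- The coordinates determine the element. -/
lemma SS_inj {s : K} (hs : s ≠ 0) {ord : ι → ℕ} (d : ι → Multiplicative k) (e : KP ι ord → Multiplicative K)
    (h : SS1 j s d + SS2 σ s e = 0) : d = 1 ∧ e = 1 := by
  classical
  constructor
  · funext x
    have h1 := congrFun (congrFun h x) x
    have h2 : SS2 σ s e x x = 0 := by
      rw [SS2, Matrix.sum_apply]
      refine Finset.sum_eq_zero fun p _ => ?_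
      have h3 := ne_of_ord p
      have h4 : ¬(p.1.1 = x ∧ p.1.2 = x) := fun e => h3 (e.1.trans e.2.symm)
      have h5 : ¬(p.1.2 = x ∧ p.1.1 = x) := fun e => h3 (e.2.trans e.1.symm)
      simp [single_apply, h4, h5]
    have h6 : SS1 j s d x x = j (Multiplicative.toAdd (d x)) * s := by
      rw [SS1, Matrix.sum_apply, Finset.sum_eq_single x]
      · simp [sj]
      · intro y _ hy
        simp [sj, single_apply, hy]
      · simp
    rw [Matrix.add_apply, h2, h6, add_zero] at h1
    have h7 : j (Multiplicative.toAdd (d x)) = 0 := by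
      rcases mul_eq_zero.1 h1 with h | h
      · exact h
      · exact absurd h hs
    have h8 : Multiplicative.toAdd (d x) = 0 := (map_eq_zero j).1 h7
    exact h8
  · funext p
    have hne := ne_of_ord p
    have h1 := congrFun (congrFun h p.1.1) p.1.2
    have h2 : SS1 j s d p.1.1 p.1.2 = 0 := by
      rw [SS1, Matrix.sum_apply]
      refine Finset.sum_eq_zero fun x _ => ?_
      have h3 : ¬(x = p.1.1 ∧ x = p.1.2) := fun e => hne (e.1.symm.trans e.2)
      simp [sj, single_apply, h3]
    have h6 : SS2 σ s e p.1.1 p.1.2 = Multiplicative.toAdd (e p) * s := by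
      rw [SS2, Matrix.sum_apply, Finset.sum_eq_single p]
      · have h3 : ¬(p.1.2 = p.1.1 ∧ p.1.1 = p.1.2) := fun e => hne e.2
        simp [single_apply, h3]
      · intro p' _ hn
        have h3 : ¬(p'.1.1 = p.1.1 ∧ p'.1.2 = p.1.2) := by
          rintro ⟨e1, e2⟩
          exact hn (Subtype.ext (Prod.ext e1 e2))
        have h4 : ¬(p'.1.2 = p.1.1 ∧ p'.1.1 = p.1.2) := by
          rintro ⟨e1, e2⟩
          have h5 := p'.2
          have h6 := p.2
          rw [e1, e2] at h5
          exact lt_asymm h5 h6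
        simp [single_apply, h3, h4]
      · simp
    rw [Matrix.add_apply, h2, h6, zero_add] at h1
    have h7 : Multiplicative.toAdd (e p) = 0 := by
      rcases mul_eq_zero.1 h1 with h | h
      · exact h
      · exact absurd h hs
    exact h7

end normal

namespace UHyp

variable [Finite K] [Finite k] {I : Inv σ j}
  {lam : SpecialLinearGroup ι K →* Γ} {mu : M2 k →* Γ} {hab : a ≠ b} {ζ : Kˣ}
  (H : UHyp I lam mu hab ζ)

/-- The normal form of the long root groups. -/
noncomputable def psi1 (H : UHyp I lam mu hab ζ) : (ι → Multiplicative k) →* Γ :=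
  MonoidHom.noncommPiCoprod (fun i => yyH lam mu a b i) (fun i i' _ _ _ => H.comm_yy i i' _ _)

/-- The normal form of the short root groups. -/
noncomputable def psi2 (H : UHyp I lam mu hab ζ) (ord : ι → ℕ) : (KP ι ord → Multiplicative K) →* Γ :=
  MonoidHom.noncommPiCoprod (fun p => zzH lam mu a b p) (fun _ _ _ _ _ => H.comm_zz _ _ _ _)

lemma psi1_single (i : ι) (e : Multiplicative k) :
    psi1 H (Pi.mulSingle i e) = yy lam mu a b i (Multiplicative.toAdd e) := by
  classical
  exact MonoidHom.noncommPiCoprod_mulSingle _ _ _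

lemma psi2_single (ord : ι → ℕ) (p : KP ι ord) (e : Multiplicative K) :
    psi2 H ord (Pi.mulSingle p e) = zz lam mu a b (ne_of_ord p) (Multiplicative.toAdd e) := by
  classical
  exact MonoidHom.noncommPiCoprod_mulSingle _ _ _

lemma psi_comm (ord : ι → ℕ) (d : ι → Multiplicative k) (e : KP ι ord → Multiplicative K) :
    Commute (psi1 H d) (psi2 H ord e) := by
  classical
  have h1 : ∀ (i : ι) (x : Multiplicative k) (e : KP ι ord → Multiplicative K),
      Commute (psi1 H (Pi.mulSingle i x)) (psi2 H ord e) := by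
    intro i x e
    have : (MulAut.conj (psi1 H (Pi.mulSingle i x))).toMonoidHom.comp (psi2 H ord) = psi2 H ord := by
      apply MonoidHom.pi_ext
      intro p y
      simp only [MonoidHom.comp_apply, MulEquiv.coe_toMonoidHom, MulAut.conj_apply]
      rw [psi1_single H, psi2_single H]
      rw [(H.comm_yy_zz _ (ne_of_ord p) _ _).eq]
      group
    have h2 := DFunLike.congr_fun this e
    simp only [MonoidHom.comp_apply, MulEquiv.coe_toMonoidHom, MulAut.conj_apply] at h2
    rw [Commute, SemiconjBy]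
    nth_rewrite 2 [← h2]
    group
  have : (MulAut.conj (psi2 H ord e)).toMonoidHom.comp (psi1 H) = psi1 H := by
    apply MonoidHom.pi_ext
    intro i x
    simp only [MonoidHom.comp_apply, MulEquiv.coe_toMonoidHom, MulAut.conj_apply]
    rw [← (h1 i x e).eq]
    group
  have h2 := DFunLike.congr_fun this d
  simp only [MonoidHom.comp_apply, MulEquiv.coe_toMonoidHom, MulAut.conj_apply] at h2
  rw [Commute, SemiconjBy]
  nth_rewrite 1 [← h2]
  group

/-- The normal form. -/
noncomputable def psi (H : UHyp I lam mu hab ζ) (ord : ι → ℕ) :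
    (ι → Multiplicative k) × (KP ι ord → Multiplicative K) →* Γ :=
  MonoidHom.noncommCoprod (psi1 H) (psi2 H ord) (psi_comm H ord)

lemma psi_apply (ord : ι → ℕ) (d : ι → Multiplicative k) (e : KP ι ord → Multiplicative K) :
    psi H ord (d, e) = psi1 H d * psi2 H ord e := rfl

/-- Every element of the unipotent radical is in normal form. -/
lemma Qq_le_range {ord : ι → ℕ} (hord : Function.Injective ord) : Qq lam mu a b ≤ (psi H ord).range := by
  classical
  rw [Qq, Subgroup.closure_le]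
  rintro _ (⟨i, d, rfl⟩ | ⟨i, i', h, d, rfl⟩)
  · refine ⟨(Pi.mulSingle i (Multiplicative.ofAdd d), 1), ?_⟩
    rw [psi_apply, map_one, mul_one, psi1_single H]
    rfl
  · have hne : ord i ≠ ord i' := fun e => h (hord e)
    rcases lt_or_gt_of_ne hne with hlt | hlt
    · refine ⟨(1, Pi.mulSingle ⟨(i, i'), hlt⟩ (Multiplicative.ofAdd d)), ?_⟩
      rw [psi_apply, map_one, one_mul, psi2_single H]
      rfl
    · refine ⟨(1, Pi.mulSingle ⟨(i', i), hlt⟩ (Multiplicative.ofAdd (σ d))), ?_⟩
      rw [psi_apply, map_one, one_mul, psi2_single H, H.zz_symm h]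
      rfl

section phi

variable {s : K} (hs : s ≠ 0) (φ : Γ →* Matrix (ι ⊕ ι) (ι ⊕ ι) K)
  (h1 : ∀ l, φ (lam l) = levM σ l) (h2 : ∀ g, φ (mu g) = lgM j s b g)
include H hs h1 h2

lemma phi_muJ (i : ι) (g : M2 k) : φ (muJ lam mu a b i g) = lgM j s i g := by
  rw [muJ_apply]
  apply phi_conj
  rw [h1, h2]
  exact lg_conj (mv_pj hab i) s g

lemma phi_yy (i : ι) (d : k) : φ (yy lam mu a b i d) = upM (sj i (j d * s)) := by
  rw [yy, phi_muJ H hs φ h1 h2]
  exact lgM_uu s i d

lemma phi_zz {i i' : ι} (h : i ≠ i') (c : K) :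
    φ (zz lam mu a b h c) = upM (single i i' (c * s) + single i' i (σ c * s)) := by
  rw [zz]
  apply phi_conj
  rw [phi_muJ H hs φ h1 h2, h1]
  exact lg_wn_T hs h c

lemma phi_nR (R : List ι) : φ (nR lam mu a b R) = nM j s R := by
  induction R with
  | nil => simp [nR, nM]
  | cons i R ih =>
    rw [nR_cons, map_mul, ih, phi_muJ H hs φ h1 h2]
    simp [nM]

lemma Pp_le : Pp lam mu ≤ PBs φ := by
  rw [Pp, Subgroup.closure_le]
  rintro _ ((⟨l, rfl⟩ | ⟨d, rfl⟩) | ⟨u, rfl⟩)
  · refine ⟨?_, ?_⟩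
    · rw [h1, PB, levM, toBlocks_fromBlocks₂₁]
    · rw [← map_inv, h1, PB, levM, toBlocks_fromBlocks₂₁]
  · refine ⟨?_, ?_⟩
    · rw [h2, PB, lgM_uu, upM, toBlocks_fromBlocks₂₁]
    · rw [← map_inv, ← uu_neg, h2, PB, lgM_uu, upM, toBlocks_fromBlocks₂₁]
  · refine ⟨?_, ?_⟩
    · rw [h2, PB, lgM_dd, toBlocks_fromBlocks₂₁]
    · rw [← map_inv, ← dd_inv, h2, PB, lgM_dd, toBlocks_fromBlocks₂₁]

lemma psi1_coe : φ.comp (psi1 H) = upH1 j s := by
  classical
  apply MonoidHom.pi_ext
  intro i e
  simp only [MonoidHom.comp_apply]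
  rw [psi1_single H, phi_yy H hs φ h1 h2]
  change _ = upM (SS1 j s _)
  rw [SS1_single]

lemma psi2_coe (ord : ι → ℕ) : φ.comp (psi2 H ord) = upH2 σ s ord := by
  classical
  apply MonoidHom.pi_ext
  intro i e
  simp only [MonoidHom.comp_apply]
  rw [psi2_single H, phi_zz H hs φ h1 h2]
  change _ = upM (SS2 σ s _)
  rw [SS2_single]

/-- The map to matrices is injective. -/
theorem injective (hgen : Subgroup.closure (Set.range lam ∪ Set.range mu) = ⊤) : Function.Injective φ := by
  classical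
  have hP := Pp_le H hs φ h1 h2
  have hinj : ∀ x, φ x = 1 → x = 1 := by
    intro x hx
    obtain ⟨R, hR, p₁, hp₁, p₂, hp₂, rfl⟩ := H.decomp hgen x
    have hn : PB (nM j s R) := by
      rw [← phi_nR H hs φ h1 h2]
      have e : nR lam mu a b R = p₁⁻¹ * (p₁ * nR lam mu a b R * p₂) * p₂⁻¹ := by group
      rw [e, map_mul, map_mul, hx, mul_one]
      exact (hP hp₁).2.mul (hP hp₂).2
    have hR0 := nM_not_mem hs hR hn
    subst hR0
    rw [nR_nil, mul_one] at hx ⊢
    obtain ⟨q, hq, u, l, e⟩ := H.dec_P (a := a) (b := b) (mul_mem hp₁ hp₂)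
    let ord : ι → ℕ := fun i => (Fintype.equivFin ι i).1
    have hord : Function.Injective ord := fun i j h =>
      (Fintype.equivFin ι).injective (Fin.ext h)
    obtain ⟨⟨d, d'⟩, rfl⟩ := Qq_le_range H hord hq
    have hcoe1 : φ (psi1 H d) = upM (SS1 j s d) :=
      DFunLike.congr_fun (psi1_coe H hs φ h1 h2) d
    have hcoe2 : φ (psi2 H ord d') = upM (SS2 σ s d') :=
      DFunLike.congr_fun (psi2_coe H hs φ h1 h2 ord) d'
    rw [e, map_mul, map_mul, h1, h2, psi_apply, map_mul, hcoe1, hcoe2, upM_mul, lgM_dd, levM, upM,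
      fromBlocks_multiply, fromBlocks_multiply, ← fromBlocks_one] at hx
    simp only [zero_mul, mul_zero, add_zero, zero_add, mul_one, one_mul] at hx
    obtain ⟨e1, e2, -, e4⟩ := fromBlocks_inj.1 hx
    have hS : SS1 j s d + SS2 σ s d' = 0 := by
      have : (SS1 j s d + SS2 σ s d') * ((1 + sj b (j ((u⁻¹ : kˣ) : k) - 1)) * hh σ (l⁻¹).1) = 0 := by
        rw [← mul_assoc]
        exact e2
      rwa [e4, mul_one] at this
    obtain ⟨hd, hd'⟩ := SS_inj hs d d' hS
    have hu : j (u : k) = 1 := by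
      have h3 := congrArg det e1
      rw [det_mul, det_one, det_D, l.2, mul_one] at h3
      linear_combination h3
    have hu1 : (u : k) = 1 := by
      apply j.injective
      rw [hu, map_one]
    have hu' : u = 1 := Units.ext hu1
    have hl : l = 1 := by
      subst hu'
      apply Subtype.ext
      simpa [sj_zero] using e1
    rw [e, hd, hd', hu', hl, psi_apply]
    simp [dd_one]
  rw [injective_iff_map_eq_one]
  exact hinj

end phi

end UHyp

end Cfsg.Agent.Lib.PresU
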