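import Cfsg.Agent.Lib.PresU.OGg

/-!
# The relations for `SU_{2n+1}`: the hypotheses and the relations of the even case
-/

set_option autoImplicit false
set_option linter.unusedSectionVars false
set_option linter.unusedSimpArgs false
set_option linter.style.haveILetI false

namespace Cfsg.Agent.Lib.PresU

open Matrix Cfsg.Agent.Lib.PresSp.M2 Cfsg.Agent.Lib.PresSp.Mono Cfsg.Agent.Lib.PresSLn.TwoGen
open Cfsg.Agent.Lib.PresSp.Abs (sq_ind conj_comm conj_conj conj_one comm_conj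
  comm_of_conj A_zero A_neg act_of_sq act_pow comm_ext)
open Cfsg.Agent.Lib.PresSU3 (GG SUw fw qq ww GG_ext coe_qq coe_ww uM wM tM cstr_mul cstr_inv cstr_zero qq_mul qq_zero
  qq_inv qq_congr ww_sq ww_inv mem_SUw)

variable {ι : Type*} [Fintype ι] [DecidableEq ι] {K : Type*} [Field K] {k : Type*} [Field k]
  {Γ : Type*} [Group Γ]
variable {a b : ι}

local notation "ttG" => Cfsg.Agent.Lib.PresSU3.tt

/-- The rank one group at the index `i`. -/
def MJ {σ : K →+* K} (lam : SpecialLinearGroup ι K →* Γ) (M : GG σ →* Γ) (a b i : ι) : GG σ →* Γ :=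
  (MulAut.conj (lam (pj a b i))).toMonoidHom.comp M

lemma MJ_apply {σ : K →+* K} (lam : SpecialLinearGroup ι K →* Γ) (M : GG σ →* Γ) (a b i : ι) (g : GG σ) :
    MJ lam M a b i g = lam (pj a b i) * M g * (lam (pj a b i))⁻¹ := rfl

lemma MJ_b {σ : K →+* K} (lam : SpecialLinearGroup ι K →* Γ) (M : GG σ →* Γ) (a b : ι) (g : GG σ) :
    MJ lam M a b b g = M g := by
  rw [MJ_apply, pj_self]
  simp

/-- The ratio of a unit and its conjugate. -/
def rU (σ : K →+* K) (u : Kˣ) : Kˣ := u * (Units.map (σ : K →* K) u)⁻¹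

lemma rU_val (σ : K →+* K) (u : Kˣ) : ((rU σ u : Kˣ) : K) = u * (σ u)⁻¹ := by
  simp [rU]

lemma rU_pow (σ : K →+* K) (u : Kˣ) (n : ℕ) : rU σ (u ^ n) = rU σ u ^ n := by
  simp only [rU, map_pow, mul_pow, inv_pow]

/-- The hypotheses. -/
structure OHyp0 [Finite K] [Finite k] {σ : K →+* K} {j : k →+* K} (I : Inv σ j) {s : K} (hs : s ≠ 0)
    (hss : σ s = -s) (lam : SpecialLinearGroup ι K →* Γ) (M : GG σ →* Γ) (hab : a ≠ b) (ζ : Kˣ)
    {θ b₁ b₂ : K} (h₁ : b₁ + σ b₁ + 1 * σ 1 = 0) (h₂ : b₂ + σ b₂ + θ * σ θ = 0) : Prop where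
  gen : ∀ u : Kˣ, ∃ n : ℕ, ζ ^ n = u
  genk : ∀ u : kˣ, ∃ n : ℕ, I.nU ζ ^ n = u
  hθ : σ θ ≠ θ
  theta : ∀ l : SpecialLinearGroup ι K, l.1 *ᵥ Pi.single b 1 = Pi.single b 1 →
    Pi.single b 1 ᵥ* l.1 = Pi.single b 1 → ∀ g, Commute (lam l) (M g)
  tw : ∀ g, lam (tt hab ζ) * M g * (lam (tt hab ζ))⁻¹ = M (del I.invol ζ⁻¹ g)
  f6 : ∀ g, M (ttG I.invol ζ) * MJ lam M a b a g * (M (ttG I.invol ζ))⁻¹ = MJ lam M a b a (del I.invol (rU σ ζ) g)
  wa : ∀ g, Commute (MJ lam M a b a (Inc I hs hss wn)) (M g)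
  r2 : M (ttG I.invol ζ) * lam (TT hab 1) * (M (ttG I.invol ζ))⁻¹ = lam (TT hab ((ζ⁻¹ : Kˣ) : K))
  r4 : MJ lam M a b a (ttG I.invol ζ) = lam (tt hab ζ) * M (ttG I.invol ζ)
  r8 : Commute (M (Inc I hs hss (uu 1))) (MJ lam M a b a (Inc I hs hss (uu 1)))
  r11 : M (Inc I hs hss wn) * lam (TT hab 1) * (M (Inc I hs hss wn))⁻¹ =
    MJ lam M a b a (Inc I hs hss wn) * lam (TT hab.symm 1) * (MJ lam M a b a (Inc I hs hss wn))⁻¹
  f5₁ : Commute (lam (TT hab.symm 1)) (M (qq I.invol 1 b₁ h₁))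
  f5₂ : Commute (lam (TT hab.symm 1)) (M (qq I.invol θ b₂ h₂))
  f2₁ : MJ lam M a b a (qq I.invol 1 b₁ h₁) * M (qq I.invol 1 b₁ h₁) =
    M (qq I.invol 1 b₁ h₁) * MJ lam M a b a (qq I.invol 1 b₁ h₁) *
      (M (Inc I hs hss wn) * lam (TT hab (-(1 * σ 1) / s)) * (M (Inc I hs hss wn))⁻¹)
  f2₂ : MJ lam M a b a (qq I.invol 1 b₁ h₁) * M (qq I.invol θ b₂ h₂) =
    M (qq I.invol θ b₂ h₂) * MJ lam M a b a (qq I.invol 1 b₁ h₁) *
      (M (Inc I hs hss wn) * lam (TT hab (-(1 * σ θ) / s)) * (M (Inc I hs hss wn))⁻¹)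
  f1₁ : lam (TT hab 1) * M (qq I.invol 1 b₁ h₁) * (lam (TT hab 1))⁻¹ =
    MJ lam M a b a (qq I.invol 1 b₁ h₁) * M (qq I.invol 1 b₁ h₁) *
      (M (Inc I hs hss wn) * lam (TT hab ((b₁ + 1 * σ 1) / s)) * (M (Inc I hs hss wn))⁻¹)
  f1₂ : lam (TT hab 1) * M (qq I.invol θ b₂ h₂) * (lam (TT hab 1))⁻¹ =
    MJ lam M a b a (qq I.invol θ b₂ h₂) * M (qq I.invol θ b₂ h₂) *
      (M (Inc I hs hss wn) * lam (TT hab ((b₂ + θ * σ θ) / s)) * (M (Inc I hs hss wn))⁻¹)
  ssA : lam (TT hab 1) * (M (Inc I hs hss wn) * lam (TT hab 1) * (M (Inc I hs hss wn))⁻¹) * (lam (TT hab 1))⁻¹ =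
    (M (Inc I hs hss wn) * lam (TT hab 1) * (M (Inc I hs hss wn))⁻¹) *
      MJ lam M a b a (Inc I hs hss (uu (I.tr (σ 1))))
  ssB : lam (TT hab 1) * (M (Inc I hs hss wn) * lam (TT hab θ) * (M (Inc I hs hss wn))⁻¹) * (lam (TT hab 1))⁻¹ =
    (M (Inc I hs hss wn) * lam (TT hab θ) * (M (Inc I hs hss wn))⁻¹) *
      MJ lam M a b a (Inc I hs hss (uu (I.tr (σ θ))))

section general

variable {σ : K →+* K}

/-- The powers of an element acting by a twist. -/
lemma act_pow_del (hσ : ∀ x, σ (σ x) = x) {F : GG σ →* Γ} {S : Γ} {u : Kˣ}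
    (h : ∀ g, S * F g * S⁻¹ = F (del hσ u g)) (n : ℕ) (g : GG σ) :
    S ^ n * F g * (S ^ n)⁻¹ = F (del hσ (u ^ n) g) := by
  induction n generalizing g with
  | zero => simp [del_one]
  | succ n ih =>
    rw [pow_succ', conj_conj, ih, h, ← del_mul, pow_succ']

/-- The twist by an element of the fixed field is inner. -/
lemma del_jU {j : k →+* K} (I : Inv σ j) (r : kˣ) (g : GG σ) :
    del I.invol (jU j r) g = ttG I.invol (jU j r) * g * (ttG I.invol (jU j r))⁻¹ := by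
  have h0 : j (r : k) ≠ 0 := (map_ne_zero j).2 r.ne_zero
  apply GG_ext
  rw [coe_del, Cfsg.Agent.Lib.PresSU3.tt_inv, Cfsg.Agent.Lib.PresSU3.coe_mul, Cfsg.Agent.Lib.PresSU3.coe_mul,
    Cfsg.Agent.Lib.PresSU3.coe_tt, Cfsg.Agent.Lib.PresSU3.coe_tt]
  have e1 : ∀ v : kˣ, Dm σ (jU j v) = tM σ (jU j v : K) := by
    intro v
    have h1 : j (v : k) ≠ 0 := (map_ne_zero j).2 v.ne_zero
    ext x y
    fin_cases x <;> fin_cases y <;> simp [Dm, tM, I.fix, h1]
  rw [e1, ← map_inv, e1]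

lemma mv_s (a b : ι) : ∃ ε : K, Mv (pj a b a : SpecialLinearGroup ι K) a b ε := by
  have h := mv_mono (F := K) (Equiv.swap b a) a a
  rw [Equiv.swap_apply_right] at h
  exact ⟨_, h⟩

/-- The unit of a sign. -/
lemma exists_unit_sign {ε : K} (h : ε * ε = 1) : ∃ u : Kˣ, (u : K) = ε ∧ (u : K) * u = 1 := by
  have h0 : ε ≠ 0 := by
    rintro rfl
    simp at h
  exact ⟨Units.mk0 ε h0, rfl, h⟩

lemma sign_nm {ε : K} (h : ε * ε = 1) : ε * σ ε = 1 := by
  rw [Inv.sig_eta h, h]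

lemma T_hom' (lam : SpecialLinearGroup ι K →* Γ) {i j' : ι} (h : i ≠ j') (x y : K) :
    lam (TT h (x + y)) = lam (TT h x) * lam (TT h y) := by rw [TT_add, map_mul]

lemma lam_tt_ab' (lam : SpecialLinearGroup ι K →* Γ) (hab : a ≠ b) (u : Kˣ) (c : K) :
    lam (tt hab u) * lam (TT hab c) * (lam (tt hab u))⁻¹ = lam (TT hab ((u : K) ^ 2 * c)) := by
  rw [← map_inv, ← map_mul, ← map_mul, tt_conj_ab]

lemma lam_tt_ba' (lam : SpecialLinearGroup ι K →* Γ) (hab : a ≠ b) (u : Kˣ) (c : K) :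
    lam (tt hab u) * lam (TT hab.symm c) * (lam (tt hab u))⁻¹ =
      lam (TT hab.symm (((u⁻¹ : Kˣ) : K) ^ 2 * c)) := by
  rw [← map_inv, ← map_mul, ← map_mul, tt_conj_ba]

end general

namespace OHyp0

variable [Finite K] [Finite k] {σ : K →+* K} {j : k →+* K} {I : Inv σ j} {s : K} {hs : s ≠ 0} {hss : σ s = -s}
  {lam : SpecialLinearGroup ι K →* Γ} {M : GG σ →* Γ} {hab : a ≠ b} {ζ : Kˣ} {θ b₁ b₂ : K}
  {h₁ : b₁ + σ b₁ + 1 * σ 1 = 0} {h₂ : b₂ + σ b₂ + θ * σ θ = 0}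
  (H : OHyp0 I hs hss lam M hab ζ h₁ h₂)
include H

lemma tw_all (v : Kˣ) (g : GG σ) :
    lam (tt hab v) * M g * (lam (tt hab v))⁻¹ = M (del I.invol v⁻¹ g) := by
  obtain ⟨n, rfl⟩ := H.gen v
  rw [tt_pow, map_pow, act_pow_del I.invol H.tw n g, inv_pow]

lemma comm_tt_tt (v u : Kˣ) : Commute (lam (tt hab v)) (M (ttG I.invol u)) := by
  have h := H.tw_all v (ttG I.invol u)
  rw [del_tt, mul_inv_eq_iff_eq_mul] at h
  exact h

lemma H_ab (u : Kˣ) (c : K) :
    M (ttG I.invol u) * lam (TT hab c) * (M (ttG I.invol u))⁻¹ = lam (TT hab (((u⁻¹ : Kˣ) : K) * c)) := by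
  obtain ⟨n, rfl⟩ := H.gen u
  have h1 : ∀ c, M (ttG I.invol ζ) * lam (TT hab c) * (M (ttG I.invol ζ))⁻¹ =
      lam (TT hab (((ζ⁻¹ : Kˣ) : K) * c)) := by
    intro c
    refine act_of_sq (A := fun c => lam (TT hab c)) (T_hom' lam hab) ?_ H.r2 c
    intro v
    exact ⟨lam (tt hab v), H.comm_tt_tt v ζ, fun c => lam_tt_ab' lam hab v c⟩
  have h2 : M (ttG I.invol ζ) ^ n * lam (TT hab c) * (M (ttG I.invol ζ) ^ n)⁻¹ = _ :=
    act_pow (A := fun c => lam (TT hab c)) h1 n c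
  rw [← Cfsg.Agent.Lib.PresSU3.tt_pow, map_pow, h2]
  congr 3

lemma s_tt (u : Kˣ) : MJ lam M a b a (ttG I.invol u) = lam (tt hab u) * M (ttG I.invol u) := by
  obtain ⟨n, rfl⟩ := H.gen u
  rw [← Cfsg.Agent.Lib.PresSU3.tt_pow, map_pow, map_pow, H.r4, tt_pow, map_pow,
    (H.comm_tt_tt ζ ζ).mul_pow]

omit H in
lemma exists_s_T (hab : a ≠ b) (lam : SpecialLinearGroup ι K →* Γ) : ∃ η : K, η * η = 1 ∧ (∀ c,
    lam (pj a b a) * lam (TT hab c) * (lam (pj a b a))⁻¹ = lam (TT hab.symm (η * c))) ∧ (∀ c,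
    lam (pj a b a) * lam (TT hab.symm c) * (lam (pj a b a))⁻¹ = lam (TT hab (η * c))) := by
  obtain ⟨ε, hs⟩ := mv_s (K := K) a b
  have hs2 := mv_pj (F := K) hab a
  refine ⟨ε * 1, by simpa using hs.sq, fun c => ?_, fun c => ?_⟩
  · rw [← map_inv, ← map_mul, ← map_mul]
    exact congrArg lam (hs.conj_T hs2 hab hab.symm c)
  · rw [← map_inv, ← map_mul, ← map_mul]
    have := hs2.conj_T hs hab.symm hab c
    rw [mul_comm 1 ε] at this
    exact congrArg lam this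

lemma tau_ba (u : Kˣ) (c : K) :
    (lam (tt hab u) * M (ttG I.invol u)) * lam (TT hab.symm c) * (lam (tt hab u) * M (ttG I.invol u))⁻¹ =
      lam (TT hab.symm (((u⁻¹ : Kˣ) : K) * c)) := by
  obtain ⟨η, hη, hs, -⟩ := exists_s_T hab lam
  have h1 := H.H_ab u (η * c)
  have h2 := congrArg (fun x => lam (pj a b a) * x * (lam (pj a b a))⁻¹) h1
  rw [hs] at h2
  have h3 : lam (pj a b a) * (M (ttG I.invol u) * lam (TT hab (η * c)) * (M (ttG I.invol u))⁻¹) * (lam (pj a b a))⁻¹ =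
      (lam (pj a b a) * M (ttG I.invol u) * (lam (pj a b a))⁻¹) *
        (lam (pj a b a) * lam (TT hab (η * c)) * (lam (pj a b a))⁻¹) *
        (lam (pj a b a) * M (ttG I.invol u) * (lam (pj a b a))⁻¹)⁻¹ := by group
  rw [h3, hs, ← MJ_apply, H.s_tt] at h2
  have e1 : η * (η * c) = c := by rw [← mul_assoc, hη, one_mul]
  have e2 : η * (((u⁻¹ : Kˣ) : K) * (η * c)) = ((u⁻¹ : Kˣ) : K) * c := by
    calc η * (((u⁻¹ : Kˣ) : K) * (η * c)) = (η * η) * (((u⁻¹ : Kˣ) : K) * c) := by ring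
      _ = _ := by rw [hη, one_mul]
  rwa [e1, e2] at h2

lemma H_ba (u : Kˣ) (c : K) :
    M (ttG I.invol u) * lam (TT hab.symm c) * (M (ttG I.invol u))⁻¹ = lam (TT hab.symm ((u : K) * c)) := by
  have h1 := H.tau_ba u c
  rw [conj_conj] at h1
  have h2 := congrArg (fun x => lam (tt hab u⁻¹) * x * (lam (tt hab u⁻¹))⁻¹) h1
  rw [lam_tt_ba'] at h2
  have e : lam (tt hab u⁻¹) * (lam (tt hab u) * (M (ttG I.invol u) * lam (TT hab.symm c) * (M (ttG I.invol u))⁻¹) *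
      (lam (tt hab u))⁻¹) * (lam (tt hab u⁻¹))⁻¹ = M (ttG I.invol u) * lam (TT hab.symm c) * (M (ttG I.invol u))⁻¹ := by
    rw [tt_inv, map_inv]
    group
  rw [e] at h2
  rw [h2]
  congr 2
  simp only [Units.val_inv_eq_inv_val, inv_inv]
  have := u.ne_zero
  field_simp

/-- The element `lam(t(w)) M(t(w))` for `w` in the fixed field commutes with `M`. -/
lemma comm_tau (r : kˣ) (g : GG σ) :
    Commute (lam (tt hab (jU j r)) * M (ttG I.invol (jU j r))) (M g) := by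
  change _ = _
  have h : (lam (tt hab (jU j r)) * M (ttG I.invol (jU j r))) * M g *
      (lam (tt hab (jU j r)) * M (ttG I.invol (jU j r)))⁻¹ = M g := by
    rw [conj_conj, ← map_inv, ← map_mul, ← map_mul, H.tw_all, ← map_inv (jU j), del_jU I, map_inv,
      ← Cfsg.Agent.Lib.PresSU3.tt_inv, inv_inv]
    congr 1
    group
  rw [mul_inv_eq_iff_eq_mul] at h
  exact h

/-- The scaling element. -/
lemma scale_M (r : kˣ) (g : GG σ) :
    (M (ttG I.invol (jU j r)) * (lam (tt hab (jU j r)) * M (ttG I.invol (jU j r)))) * M g *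
      (M (ttG I.invol (jU j r)) * (lam (tt hab (jU j r)) * M (ttG I.invol (jU j r))))⁻¹ = M (del I.invol (jU j r) g) := by
  rw [conj_conj, (H.comm_tau r g).eq, mul_inv_cancel_right, del_jU I, map_mul, map_mul, map_inv]

lemma scale_T (r : kˣ) (c : K) :
    (M (ttG I.invol (jU j r)) * (lam (tt hab (jU j r)) * M (ttG I.invol (jU j r)))) * lam (TT hab c) *
      (M (ttG I.invol (jU j r)) * (lam (tt hab (jU j r)) * M (ttG I.invol (jU j r))))⁻¹ = lam (TT hab c) := by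
  have h0 : j (r : k) ≠ 0 := (map_ne_zero j).2 r.ne_zero
  rw [conj_conj, conj_conj, H.H_ab, lam_tt_ab', H.H_ab]
  congr 2
  simp only [Units.val_inv_eq_inv_val, jU_val]
  field_simp

lemma scale_T' (r : kˣ) (c : K) :
    (M (ttG I.invol (jU j r)) * (lam (tt hab (jU j r)) * M (ttG I.invol (jU j r)))) * lam (TT hab.symm c) *
      (M (ttG I.invol (jU j r)) * (lam (tt hab (jU j r)) * M (ttG I.invol (jU j r))))⁻¹ = lam (TT hab.symm c) := by
  have h0 : j (r : k) ≠ 0 := (map_ne_zero j).2 r.ne_zero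
  rw [conj_conj, conj_conj, H.H_ba, lam_tt_ba', H.H_ba]
  congr 2
  simp only [Units.val_inv_eq_inv_val, jU_val]
  field_simp

/-- `F5` for all unipotent elements. -/
lemma f5_one (α β : K) (h : β + σ β + α * σ α = 0) :
    Commute (lam (TT hab.symm 1)) (M (qq I.invol α β h)) := by
  refine Qgen I H.hθ h₁ h₂ (P := fun x => Commute (lam (TT hab.symm 1)) (M x)) ?_ ?_ H.f5₁ H.f5₂ α β h
  · intro x y hx hy
    rw [map_mul]
    exact hx.mul_right hy
  · intro u x hx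
    have := comm_conj (M (ttG I.invol (jU j u)) * (lam (tt hab (jU j u)) * M (ttG I.invol (jU j u)))) hx
    rwa [H.scale_T', H.scale_M] at this

/-- `F5` in general. -/
lemma f5_gen (c α β : K) (h : β + σ β + α * σ α = 0) :
    Commute (lam (TT hab.symm c)) (M (qq I.invol α β h)) := by
  refine sq_ind (P := fun c => ∀ α β, ∀ h : β + σ β + α * σ α = 0,
    Commute (lam (TT hab.symm c)) (M (qq I.invol α β h))) ?_ ?_ ?_ c α β h
  · intro α β h
    rw [TT_zero, map_one]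
    exact Commute.one_left _
  · intro x y hx hy α β h
    rw [T_hom']
    exact (hx α β h).mul_left (hy α β h)
  · intro v α β h
    have hc := cstr_del I.invol ((v⁻¹ : Kˣ) : K) h
    have h1 := comm_conj (lam (tt hab v⁻¹)) (H.f5_one _ _ hc)
    have h0 := v.ne_zero
    have h00 := (map_ne_zero σ).2 h0
    have e3 : del I.invol v⁻¹⁻¹ (qq I.invol _ _ hc) = qq I.invol α β h :=
      del_qq I.invol _ hc h (by simp) (by
        simp only [Units.val_inv_eq_inv_val, inv_inv, map_inv₀]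
        field_simp)
    rw [lam_tt_ba', H.tw_all, e3] at h1
    have e : ((v⁻¹⁻¹ : Kˣ) : K) ^ 2 * 1 = (v : K) ^ 2 := by simp
    rwa [e] at h1

/-- The elements of `SL` preserving `e_b` up to a sign act on `M` by a twist. -/
lemma conj_Mvb {m : SpecialLinearGroup ι K} {ε : K} (h : Mv m b b ε) {u : Kˣ} (hu : (u : K) = ε) (g : GG σ) :
    lam m * M g * (lam m)⁻¹ = M (del I.invol u g) := by
  rcases eps_cases h.sq with rfl | rfl
  · have hu1 : u = 1 := Units.ext (by simpa using hu)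
    rw [hu1, del_one, (H.theta m h.col h.row g).eq, mul_inv_cancel_right]
  · have hu1 : u = -1 := Units.ext (by simpa using hu)
    subst hu1
    have h1 := (mv_tt_neg_b (F := K) hab).mul h
    have e : (-1 : K) * -1 = 1 := by ring
    rw [e] at h1
    have h2 := H.theta _ h1.col h1.row (del I.invol (-1 : Kˣ) g)
    rw [map_mul] at h2
    have h3 := H.tw_all (-1 : Kˣ) (del I.invol (-1 : Kˣ) g)
    have e2 : del I.invol (-1 : Kˣ)⁻¹ (del I.invol (-1 : Kˣ) g) = g := del_inv_del _ _ _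
    rw [e2] at h3
    have e3 : lam m * M g * (lam m)⁻¹ =
        (lam m * lam (tt hab (-1 : Kˣ))) * M (del I.invol (-1 : Kˣ) g) * (lam m * lam (tt hab (-1 : Kˣ)))⁻¹ := by
      rw [← h3]
      group
    rw [e3, h2.eq, mul_inv_cancel_right]

/-- Conjugating the rank one groups by monomial elements. -/
lemma conj_MJ {l : SpecialLinearGroup ι K} {i i' : ι} {ε : K} (h : Mv l i i' ε) {u : Kˣ} (hu : (u : K) = ε)
    (g : GG σ) : lam l * MJ lam M a b i g * (lam l)⁻¹ = MJ lam M a b i' (del I.invol u g) := by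
  have h1 := ((mv_pj (F := K) hab i).mul h).mul (mv_pj (F := K) hab i').inv
  have hu' : (u : K) = 1 * (ε * 1) := by
    rw [hu]
    ring
  have h2 := H.conj_Mvb h1 hu' g
  rw [map_mul, map_mul, map_inv] at h2
  rw [MJ_apply, MJ_apply, ← h2]
  group

/-- The Weyl element at `b` commutes with the rank one group at `a`. -/
lemma comm_w_MJa (g : GG σ) : Commute (M (Inc I hs hss wn)) (MJ lam M a b a g) := by
  obtain ⟨ε, hε⟩ := mv_s (K := K) a b
  obtain ⟨u, hu, hu2⟩ := exists_unit_sign hε.sq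
  have h1 := comm_conj (lam (pj a b a)) (H.wa g)
  rw [H.conj_MJ hε hu, MJ_b, del_Inc_of_nm I hs hss (by rw [hu]; exact sign_nm hε.sq)] at h1
  exact h1

/-- `F7`. -/
lemma comm_Zba_M (c α β : K) (h : β + σ β + α * σ α = 0) :
    Commute (MJ lam M a b a (Inc I hs hss wn) * lam (TT hab.symm c) * (MJ lam M a b a (Inc I hs hss wn))⁻¹)
      (M (qq I.invol α β h)) :=
  ((H.wa _).mul_left (H.f5_gen c α β h)).mul_left (H.wa _).inv_left

/-- The Weyl element as a product with its inverse. -/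
lemma comm_T_wM (α β : K) (h : β + σ β + α * σ α = 0) :
    Commute (lam (TT hab 1)) ((M (Inc I hs hss wn))⁻¹ * M (qq I.invol α β h) * M (Inc I hs hss wn)) := by
  have h1 := H.comm_Zba_M 1 α β h
  rw [← H.r11] at h1
  have h2 := comm_conj (M (Inc I hs hss wn))⁻¹ h1
  have e : (M (Inc I hs hss wn))⁻¹ * (M (Inc I hs hss wn) * lam (TT hab 1) * (M (Inc I hs hss wn))⁻¹) *
      (M (Inc I hs hss wn))⁻¹⁻¹ = lam (TT hab 1) := by group
  rw [e, inv_inv] at h2
  exact h2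

omit H [Fintype ι] [DecidableEq ι] in
lemma ll_one_eq : ll (1 : k) = wn⁻¹ * uu (-1) * wn := by
  have e := uu_wn (F := k) (-1)
  rw [neg_neg] at e
  rw [mul_assoc, e, inv_mul_cancel_left]

/-- The relations of the even case. -/
theorem toU0 : UHyp0 I lam (M.comp (Inc I hs hss)) hab ζ := by
  have hdd : ∀ u : kˣ, M (Inc I hs hss (dd u)) = M (ttG I.invol (jU j u)) := fun u => by rw [Inc_dd]
  have hll : ∀ (x : GG σ), x = Inc I hs hss (ll 1) → ∃ α β, ∃ h : β + σ β + α * σ α = 0,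
      x = (Inc I hs hss wn)⁻¹ * qq I.invol α β h * Inc I hs hss wn := by
    intro x hx
    refine ⟨0, j (-1) * s, cstr_uu I hss (-1), ?_⟩
    rw [hx, ← Inc_uu I hs hss, ← map_inv, ← map_mul, ← map_mul, ← ll_one_eq]
  have r9 : Commute (M (Inc I hs hss (ll 1))) (MJ lam M a b a (Inc I hs hss (uu 1))) := by
    rw [ll_one_eq, map_mul, map_mul, map_mul, map_mul, map_inv, map_inv, uu_neg, map_inv, map_inv]
    exact (((H.comm_w_MJa _).inv_left).mul_left (H.r8.inv_left)).mul_left (H.comm_w_MJa _)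
  refine ⟨H.gen, H.genk, fun l h1 h2 g => H.theta l h1 h2 _, ?_, ?_, ?_, ?_, ?_, ?_, ?_, ?_, ?_, ?_, ?_⟩
  · -- r1
    change Commute (M (Inc I hs hss (dd _))) _
    rw [hdd]
    exact (H.comm_tt_tt _ _).symm
  · -- r2
    change M (Inc I hs hss (dd _)) * _ * (M (Inc I hs hss (dd _)))⁻¹ = _
    rw [hdd, H.H_ab]
    congr 2
    simp
  · -- r3
    change _ * M (Inc I hs hss (uu 1)) * _ = M (Inc I hs hss (uu _))
    rw [H.tw_all, del_Inc, tw_uu, map_inv, mul_one]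
  · -- r4
    change lam _ * M (Inc I hs hss (dd _)) * _ = lam _ * M (Inc I hs hss (dd _))
    rw [hdd]
    exact H.s_tt _
  · -- r5
    change M (Inc I hs hss wn) * _ * (M (Inc I hs hss wn))⁻¹ = _ * M (Inc I hs hss (dd _))
    have h1 := H.tw_all ζ (Inc I hs hss (dd (I.nU ζ) * wn))
    rw [del_Inc, map_inv, tw_dd_wn, map_mul, map_mul] at h1
    rw [mul_inv_eq_iff_eq_mul] at h1
    have h2 : M (Inc I hs hss wn) * lam (tt hab ζ) = lam (tt hab ζ) * M (Inc I hs hss (dd (I.nU ζ))) * M (Inc I hs hss wn) := by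
      rw [mul_assoc]
      exact h1.symm
    rw [h2, mul_inv_cancel_right]
  · -- r6
    change Commute (M (Inc I hs hss (uu 1))) _
    rw [Inc_uu]
    exact (H.f5_gen _ _ _ _).symm
  · -- r7
    change Commute (M (Inc I hs hss (ll 1))) _
    obtain ⟨α, β, h, e⟩ := hll _ rfl
    rw [e, map_mul, map_mul, map_inv]
    exact (H.comm_T_wM α β h).symm
  · -- r8
    exact H.r8
  · -- r9
    exact r9
  · -- r10
    change Commute (M (Inc I hs hss (ll 1))) (MJ lam M a b a (Inc I hs hss (ll 1)))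
    have e4 : MJ lam M a b a (Inc I hs hss (ll 1)) = (MJ lam M a b a (Inc I hs hss wn))⁻¹ *
        (MJ lam M a b a (Inc I hs hss (uu 1)))⁻¹ * MJ lam M a b a (Inc I hs hss wn) := by
      rw [ll_one_eq, uu_neg]
      simp only [map_mul, map_inv]
    rw [e4]
    have h3 := (H.wa (Inc I hs hss (ll 1))).symm
    exact ((h3.inv_right).mul_right r9.inv_right).mul_right h3
  · -- r11
    exact H.r11

end OHyp0

end Cfsg.Agent.Lib.PresU
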