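import Cfsg.Agent.Lib.PresU.OAbs

/-!
# The relations for `SU_{2n+1}`: the commutator relations among the root groups
-/

set_option autoImplicit false
set_option linter.unusedSectionVars false
set_option linter.unusedSimpArgs false
set_option linter.style.haveILetI false

namespace Cfsg.Agent.Lib.PresU

open Matrix Cfsg.Agent.Lib.PresSp.M2 Cfsg.Agent.Lib.PresSp.Mono Cfsg.Agent.Lib.PresSLn.TwoGen
open Cfsg.Agent.Lib.PresSp.Abs (sq_ind conj_comm conj_conj conj_one comm_conj
  comm_of_conj A_zero A_neg act_of_sq act_pow comm_ext)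
open Cfsg.Agent.Lib.PresSU3 (GG SUw fw qq ww GG_ext coe_qq coe_ww uM wM tM cstr_mul cstr_inv cstr_zero qq_mul qq_zero
  qq_inv qq_congr qq_inj ww_sq ww_inv mem_SUw)

variable {ι : Type*} [Fintype ι] [DecidableEq ι] {K : Type*} [Field K] {k : Type*} [Field k]
  {Γ : Type*} [Group Γ]
variable {a b : ι}

local notation "ttG" => Cfsg.Agent.Lib.PresSU3.tt

section grp

variable {G : Type*} [Group G]

lemma step_right {A B₁ B₂ Z₁ Z₂ : G} (h1 : A * B₁ = B₁ * A * Z₁) (h2 : A * B₂ = B₂ * A * Z₂)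
    (hc : Commute Z₁ B₂) : A * (B₁ * B₂) = (B₁ * B₂) * A * (Z₂ * Z₁) := by
  calc A * (B₁ * B₂) = (A * B₁) * B₂ := by group
    _ = B₁ * A * (Z₁ * B₂) := by rw [h1]; group
    _ = B₁ * (A * B₂) * Z₁ := by rw [hc.eq]; group
    _ = _ := by rw [h2]; group

lemma step_left {A₁ A₂ B Z₁ Z₂ : G} (h1 : A₁ * B = B * A₁ * Z₁) (h2 : A₂ * B = B * A₂ * Z₂)
    (hc : Commute Z₁ A₂) : (A₁ * A₂) * B = B * (A₁ * A₂) * (Z₁ * Z₂) := by
  calc (A₁ * A₂) * B = A₁ * (A₂ * B) := by group
    _ = (A₁ * B) * A₂ * Z₂ := by rw [h2]; group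
    _ = B * A₁ * (Z₁ * A₂) * Z₂ := by rw [h1]; group
    _ = _ := by rw [hc.eq]; group

lemma conj_rel (S : G) {A B Z : G} (h : A * B = B * A * Z) :
    (S * A * S⁻¹) * (S * B * S⁻¹) = (S * B * S⁻¹) * (S * A * S⁻¹) * (S * Z * S⁻¹) := by
  calc (S * A * S⁻¹) * (S * B * S⁻¹) = S * (A * B) * S⁻¹ := by group
    _ = _ := by rw [h]; group

lemma conj3 (S A B C : G) : S * (A * B * C) * S⁻¹ = (S * A * S⁻¹) * (S * B * S⁻¹) * (S * C * S⁻¹) := by group

end grp

lemma rU_jU {σ : K →+* K} {j : k →+* K} (I : Inv σ j) (r : kˣ) : rU σ (jU j r) = 1 := by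
  apply Units.ext
  have h0 : j (r : k) ≠ 0 := (map_ne_zero j).2 r.ne_zero
  rw [rU_val]
  simp [I.fix, h0]

namespace OHyp0

variable [Finite K] [Finite k] {σ : K →+* K} {j : k →+* K} {I : Inv σ j} {s : K} {hs : s ≠ 0} {hss : σ s = -s}
  {lam : SpecialLinearGroup ι K →* Γ} {M : GG σ →* Γ} {hab : a ≠ b} {ζ : Kˣ} {θ b₁ b₂ : K}
  {h₁ : b₁ + σ b₁ + 1 * σ 1 = 0} {h₂ : b₂ + σ b₂ + θ * σ θ = 0}
  (H : OHyp0 I hs hss lam M hab ζ h₁ h₂)
include H

/-- The action of the torus on the rank one group at `a`. -/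
lemma f6_all (u : Kˣ) (g : GG σ) :
    M (ttG I.invol u) * MJ lam M a b a g * (M (ttG I.invol u))⁻¹ = MJ lam M a b a (del I.invol (rU σ u) g) := by
  obtain ⟨n, rfl⟩ := H.gen u
  rw [rU_pow, ← act_pow_del I.invol H.f6 n g, ← Cfsg.Agent.Lib.PresSU3.tt_pow, map_pow]

/-- The Levi torus on the rank one group at `a`. -/
lemma tt_MJa (v : Kˣ) (g : GG σ) :
    lam (tt hab v) * MJ lam M a b a g * (lam (tt hab v))⁻¹ = MJ lam M a b a (del I.invol v g) := by
  have h1 := H.toU0.s_tt (hab := hab) v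
  have h2 : lam (tt hab v) * lam (pj a b a) = lam (pj a b a) * lam (tt hab v⁻¹) := by
    rw [← h1]
    group
  have h3 := H.tw_all v⁻¹ g
  rw [inv_inv] at h3
  simp only [MJ_apply]
  calc lam (tt hab v) * (lam (pj a b a) * M g * (lam (pj a b a))⁻¹) * (lam (tt hab v))⁻¹
      = (lam (tt hab v) * lam (pj a b a)) * M g * (lam (tt hab v) * lam (pj a b a))⁻¹ := by group
    _ = lam (pj a b a) * (lam (tt hab v⁻¹) * M g * (lam (tt hab v⁻¹))⁻¹) * (lam (pj a b a))⁻¹ := by
        rw [h2]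
        group
    _ = _ := by
        rw [h3]

/-- The torus of the fixed field fixes the rank one group at `a`. -/
lemma tk_MJa (r : kˣ) (g : GG σ) :
    M (ttG I.invol (jU j r)) * MJ lam M a b a g * (M (ttG I.invol (jU j r)))⁻¹ = MJ lam M a b a g := by
  rw [H.f6_all, rU_jU I, del_one]

/-- The short root element commutes with the unipotent elements at `b`. -/
lemma comm_Z_M (c α β : K) (h : β + σ β + α * σ α = 0) :
    Commute (zz lam (M.comp (Inc I hs hss)) a b hab c) (M (qq I.invol α β h)) := by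
  rw [H.toU0.zz_symm_ab]
  exact H.comm_Zba_M (σ c) α β h

/-- The transvection `x_ab` commutes with the unipotent elements at `a`. -/
lemma comm_T_Ma (c α β : K) (h : β + σ β + α * σ α = 0) :
    Commute (lam (TT hab c)) (MJ lam M a b a (qq I.invol α β h)) := by
  obtain ⟨η, hη, -, hs'⟩ := exists_s_T hab lam
  have h1 := comm_conj (lam (pj a b a)) (H.f5_gen (η * c) α β h)
  rw [hs', ← MJ_apply] at h1
  have e1 : η * (η * c) = c := by rw [← mul_assoc, hη, one_mul]
  rwa [e1] at h1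

/-- The short root element commutes with the unipotent elements at `a`. -/
lemma comm_Z_Ma (c α β : K) (h : β + σ β + α * σ α = 0) :
    Commute (zz lam (M.comp (Inc I hs hss)) a b hab c) (MJ lam M a b a (qq I.invol α β h)) := by
  rw [zz_ab]
  change Commute (M (Inc I hs hss wn) * _ * (M (Inc I hs hss wn))⁻¹) _
  exact ((H.comm_w_MJa _).mul_left (H.comm_T_Ma c α β h)).mul_left (H.comm_w_MJa _).inv_left

/-- The torus of the fixed field on short root elements. -/
lemma tk_Z (r : kˣ) (c : K) :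
    M (ttG I.invol (jU j r)) * zz lam (M.comp (Inc I hs hss)) a b hab c * (M (ttG I.invol (jU j r)))⁻¹ =
      zz lam (M.comp (Inc I hs hss)) a b hab (j r * c) := by
  have := H.toU0.H_zz_ab r c
  simpa [Inc_dd] using this

/-- The commutator relation with `x₁` at `a`. -/
lemma f2_x1 (c d : K) (h : d + σ d + c * σ c = 0) :
    MJ lam M a b a (qq I.invol 1 b₁ h₁) * M (qq I.invol c d h) =
      M (qq I.invol c d h) * MJ lam M a b a (qq I.invol 1 b₁ h₁) *
        zz lam (M.comp (Inc I hs hss)) a b hab (-(1 * σ c) / s) := by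
  have key := Qgen I H.hθ h₁ h₂ (P := fun y => ∃ c d, ∃ h : d + σ d + c * σ c = 0, y = qq I.invol c d h ∧
    MJ lam M a b a (qq I.invol 1 b₁ h₁) * M y = M y * MJ lam M a b a (qq I.invol 1 b₁ h₁) *
        zz lam (M.comp (Inc I hs hss)) a b hab (-(1 * σ c) / s)) ?_ ?_
      ⟨1, b₁, h₁, rfl, by rw [zz_ab]; exact H.f2₁⟩ ⟨θ, b₂, h₂, rfl, by rw [zz_ab]; exact H.f2₂⟩ c d h
  · obtain ⟨c', d', h', e, r⟩ := key
    obtain ⟨rfl, rfl⟩ := qq_inj I.invol e
    exact r
  · rintro _ _ ⟨c, d, h, rfl, r⟩ ⟨c', d', h', rfl, r'⟩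
    refine ⟨c + c', d + d' - c * σ c', cstr_mul I.invol h h', qq_mul I.invol h h', ?_⟩
    rw [map_mul]
    have := step_right r r' (H.comm_Z_M _ _ _ h')
    rw [← zz_add] at this
    rw [this]
    congr 2
    rw [map_add]
    ring
  · rintro u _ ⟨c, d, h, rfl, r⟩
    have hc := cstr_del I.invol (j (u : k)) h
    have e : del I.invol (jU j u) (qq I.invol c d h) = qq I.invol _ _ hc := del_qq I.invol _ h hc rfl rfl
    refine ⟨_, _, hc, e, ?_⟩
    rw [e]
    have h3 := conj_rel (M (ttG I.invol (jU j u))) r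
    rw [H.tk_MJa, H.tk_Z] at h3
    have e2 : M (ttG I.invol (jU j u)) * M (qq I.invol c d h) * (M (ttG I.invol (jU j u)))⁻¹ = M (qq I.invol _ _ hc) := by
      rw [← e, del_jU I, map_mul, map_mul, map_inv]
    rw [e2] at h3
    rw [h3]
    congr 2
    simp only [map_mul, I.fix]
    ring

/-- The commutator relation for all unipotent elements. -/
lemma f2_all (α β : K) (h : β + σ β + α * σ α = 0) (c d : K) (h' : d + σ d + c * σ c = 0) :
    MJ lam M a b a (qq I.invol α β h) * M (qq I.invol c d h') =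
      M (qq I.invol c d h') * MJ lam M a b a (qq I.invol α β h) *
        zz lam (M.comp (Inc I hs hss)) a b hab (-(α * σ c) / s) := by
  -- the orbit of `x₁`
  have h3 : ∀ (v : Kˣ) (c d : K) (h' : d + σ d + c * σ c = 0),
      MJ lam M a b a (del I.invol v (qq I.invol 1 b₁ h₁)) * M (qq I.invol c d h') =
      M (qq I.invol c d h') * MJ lam M a b a (del I.invol v (qq I.invol 1 b₁ h₁)) *
        zz lam (M.comp (Inc I hs hss)) a b hab (-((v : K) * σ c) / s) := by
    intro v c d h'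
    have h0 := v.ne_zero
    have h00 := (map_ne_zero σ).2 h0
    have hc := cstr_del I.invol (v : K) h'
    have h4 := conj_rel (lam (tt hab v)) (H.f2_x1 _ _ hc)
    have e3 : del I.invol v⁻¹ (qq I.invol _ _ hc) = qq I.invol c d h' :=
      del_qq I.invol _ hc h' (by simp) (by
        simp only [Units.val_inv_eq_inv_val, map_inv₀]
        field_simp)
    rw [H.tt_MJa, H.tw_all, e3, H.toU0.tt_zz_ab] at h4
    rw [h4]
    congr 2
    simp only [map_mul, I.invol]
    field_simp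
  have key := Qgen₀ I H.hθ (P := fun y => ∃ α β, ∃ h : β + σ β + α * σ α = 0, y = qq I.invol α β h ∧
    MJ lam M a b a y * M (qq I.invol c d h') = M (qq I.invol c d h') * MJ lam M a b a y *
        zz lam (M.comp (Inc I hs hss)) a b hab (-(α * σ c) / s)) ?_ ?_ α β h
  · obtain ⟨c', d', h'', e, r⟩ := key
    obtain ⟨rfl, rfl⟩ := qq_inj I.invol e
    exact r
  · rintro _ _ ⟨α, β, h, rfl, r⟩ ⟨α', β', h'', rfl, r'⟩
    refine ⟨α + α', β + β' - α * σ α', cstr_mul I.invol h h'', qq_mul I.invol h h'', ?_⟩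
    rw [map_mul]
    have := step_left r r' (H.comm_Z_Ma _ _ _ h'')
    rw [← zz_add] at this
    rw [this]
    congr 2
    ring
  · intro α
    by_cases hα : α = 0
    · subst hα
      refine ⟨0, by simp, 0, 0, by simp, rfl, ?_⟩
      have e0 : qq I.invol 0 0 (show (0 : K) + σ 0 + 0 * σ 0 = 0 by simp) = 1 := qq_zero I.invol
      rw [e0, map_one]
      simp [zz_zero]
    · let v : Kˣ := Units.mk0 α hα
      have hc := cstr_del I.invol (v : K) h₁
      have e : del I.invol v (qq I.invol 1 b₁ h₁) = qq I.invol _ _ hc := del_qq I.invol _ h₁ hc rfl rfl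
      have e1 : (v : K) * 1 = α := by simp [v]
      have hc' : (v : K) * σ v * b₁ + σ ((v : K) * σ v * b₁) + α * σ α = 0 := by
        rw [← e1]
        exact hc
      refine ⟨_, hc', (v : K) * 1, _, hc, ?_, ?_⟩
      · exact qq_congr I.invol hc' e1.symm rfl
      · have e' : qq I.invol α _ hc' = qq I.invol _ _ hc := qq_congr I.invol hc' e1.symm rfl
        rw [e', ← e, mul_one]
        exact h3 v c d h'

/-- `F1` for `c = 1`. -/
lemma f1_one (α β : K) (h : β + σ β + α * σ α = 0) :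
    lam (TT hab 1) * M (qq I.invol α β h) * (lam (TT hab 1))⁻¹ =
      MJ lam M a b a (qq I.invol α β h) * M (qq I.invol α β h) *
        zz lam (M.comp (Inc I hs hss)) a b hab ((β + α * σ α) / s) := by
  have key := Qgen I H.hθ h₁ h₂ (P := fun y => ∃ α β, ∃ h : β + σ β + α * σ α = 0, y = qq I.invol α β h ∧
    lam (TT hab 1) * M y * (lam (TT hab 1))⁻¹ = MJ lam M a b a y * M y *
        zz lam (M.comp (Inc I hs hss)) a b hab ((β + α * σ α) / s)) ?_ ?_
      ⟨1, b₁, h₁, rfl, by rw [zz_ab]; exact H.f1₁⟩ ⟨θ, b₂, h₂, rfl, by rw [zz_ab]; exact H.f1₂⟩ α β h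
  · obtain ⟨c', d', h', e, r⟩ := key
    obtain ⟨rfl, rfl⟩ := qq_inj I.invol e
    exact r
  · rintro _ _ ⟨c, d, h, rfl, r⟩ ⟨c', d', h', rfl, r'⟩
    refine ⟨c + c', d + d' - c * σ c', cstr_mul I.invol h h', qq_mul I.invol h h', ?_⟩
    rw [map_mul, map_mul]
    have e0 := H.f2_all c' d' h' c d h
    set Z := zz lam (M.comp (Inc I hs hss)) a b hab with hZ
    set A₁ := MJ lam M a b a (qq I.invol c d h)
    set B₁ := M (qq I.invol c d h)
    set A₂ := MJ lam M a b a (qq I.invol c' d' h')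
    set B₂ := M (qq I.invol c' d' h')
    have c1 : ∀ x, Commute (Z x) A₂ := fun x => H.comm_Z_Ma x _ _ _
    have c2 : ∀ x, Commute (Z x) B₂ := fun x => H.comm_Z_M x _ _ _
    have c3 : ∀ x, Commute (Z x) B₁ := fun x => H.comm_Z_M x _ _ _
    have e1 : B₁ * A₂ = A₂ * B₁ * Z (c' * σ c / s) := by
      have e2 : Z (c' * σ c / s) = (Z (-(c' * σ c) / s))⁻¹ := by
        rw [hZ, ← zz_neg]
        congr 1
        ring
      rw [e0, e2]
      group
    calc lam (TT hab 1) * (B₁ * B₂) * (lam (TT hab 1))⁻¹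
        = (lam (TT hab 1) * B₁ * (lam (TT hab 1))⁻¹) * (lam (TT hab 1) * B₂ * (lam (TT hab 1))⁻¹) := by group
      _ = A₁ * B₁ * Z ((d + c * σ c) / s) * (A₂ * B₂ * Z ((d' + c' * σ c') / s)) := by rw [r, r']
      _ = A₁ * B₁ * (Z ((d + c * σ c) / s) * A₂) * B₂ * Z ((d' + c' * σ c') / s) := by group
      _ = A₁ * (B₁ * A₂) * (Z ((d + c * σ c) / s) * B₂) * Z ((d' + c' * σ c') / s) := by
          rw [(c1 _).eq]
          group
      _ = A₁ * A₂ * B₁ * (Z (c' * σ c / s) * B₂) * Z ((d + c * σ c) / s) * Z ((d' + c' * σ c') / s) := by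
          rw [e1, (c2 _).eq]
          group
      _ = A₁ * A₂ * (B₁ * B₂) * (Z (c' * σ c / s) * Z ((d + c * σ c) / s) * Z ((d' + c' * σ c') / s)) := by
          rw [(c2 _).eq]
          group
      _ = _ := by
          rw [hZ, ← zz_add, ← zz_add]
          congr 2
          rw [map_add]
          ring
  · rintro u _ ⟨c, d, h, rfl, r⟩
    have hc := cstr_del I.invol (j (u : k)) h
    have e : del I.invol (jU j u) (qq I.invol c d h) = qq I.invol _ _ hc := del_qq I.invol _ h hc rfl rfl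
    refine ⟨_, _, hc, e, ?_⟩
    rw [e]
    set E := M (ttG I.invol (jU j u)) * (lam (tt hab (jU j u)) * M (ttG I.invol (jU j u))) with hE
    have h3 := congrArg (fun x => E * x * E⁻¹) r
    simp only [conj3] at h3
    have e1 : E * lam (TT hab 1) * E⁻¹ = lam (TT hab 1) := H.scale_T u 1
    have e2 : E * (lam (TT hab 1))⁻¹ * E⁻¹ = (lam (TT hab 1))⁻¹ := by
      have : E * (lam (TT hab 1))⁻¹ * E⁻¹ = (E * lam (TT hab 1) * E⁻¹)⁻¹ := by group
      rw [this, e1]
    have e3 : E * M (qq I.invol c d h) * E⁻¹ = M (qq I.invol _ _ hc) := by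
      rw [hE, H.scale_M, e]
    have e4 : E * MJ lam M a b a (qq I.invol c d h) * E⁻¹ = MJ lam M a b a (qq I.invol _ _ hc) := by
      rw [hE, conj_conj, conj_conj, H.tk_MJa, H.tt_MJa, H.tk_MJa, e]
    have e5 : ∀ x, E * zz lam (M.comp (Inc I hs hss)) a b hab x * E⁻¹ =
        zz lam (M.comp (Inc I hs hss)) a b hab (j u * j u * x) := by
      intro x
      rw [hE, conj_conj, conj_conj, H.tk_Z, H.toU0.tt_zz_ab, H.tk_Z]
      congr 1
      have h0 : j (u : k) ≠ 0 := (map_ne_zero j).2 u.ne_zero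
      simp only [jU_val, I.fix]
      field_simp
    rw [e1, e2, e3, e4, e5] at h3
    rw [h3]
    congr 2
    simp only [map_mul, I.fix]
    ring

/-- The hypothesis of the even case. -/
theorem toU : UHyp I lam (M.comp (Inc I hs hss)) hab ζ := by
  have H0 := H.toU0
  have hs1 : ∀ d : k, lam (TT hab 1) * (M.comp (Inc I hs hss)) (uu d) * (lam (TT hab 1))⁻¹ =
      (M.comp (Inc I hs hss)) (uu d) * zz lam (M.comp (Inc I hs hss)) a b hab (j d) *
        yy lam (M.comp (Inc I hs hss)) a b a d := by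
    intro d
    have h1 := H.f1_one 0 (j d * s) (cstr_uu I hss d)
    rw [← Inc_uu I hs hss] at h1
    have e : (j d * s + 0 * σ 0) / s = j d := by
      field_simp
      ring
    rw [e] at h1
    change _ * M (Inc I hs hss (uu d)) * _ = M (Inc I hs hss (uu d)) * _ * _
    rw [h1]
    have c1 : Commute (MJ lam M a b a (Inc I hs hss (uu d))) (M (Inc I hs hss (uu d))) := by
      have := H0.comm_yy a b d d
      rw [yy, yy, muJ_b] at this
      exact this
    have c2 : Commute (MJ lam M a b a (Inc I hs hss (uu d))) (zz lam (M.comp (Inc I hs hss)) a b hab (j d)) :=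
      H0.comm_yy_zz a hab d (j d)
    rw [c1.eq, mul_assoc, c2.eq, ← mul_assoc]
    rfl
  have hA : lam (TT hab 1) * zz lam (M.comp (Inc I hs hss)) a b hab 1 * (lam (TT hab 1))⁻¹ =
      zz lam (M.comp (Inc I hs hss)) a b hab 1 * yy lam (M.comp (Inc I hs hss)) a b a (I.tr (σ 1)) := by
    rw [zz_ab]
    exact H.ssA
  have hB : lam (TT hab 1) * zz lam (M.comp (Inc I hs hss)) a b hab θ * (lam (TT hab 1))⁻¹ =
      zz lam (M.comp (Inc I hs hss)) a b hab θ * yy lam (M.comp (Inc I hs hss)) a b a (I.tr (σ θ)) := by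
    rw [zz_ab]
    exact H.ssB
  have hss' := H0.ss_ab (H0.ss1 H.hθ hA hB)
  refine ⟨H0, fun c d => ?_⟩
  have := H0.s4_of hs1 hss' c d
  rwa [zz_ab, yy, muJ_apply] at this

end OHyp0

end Cfsg.Agent.Lib.PresU
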