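import Cfsg.Agent.Lib.PresU.OAbs2

/-!
# The relations for `SU_{2n+1}`: the general commutator relation and the transfer to all indices
-/

set_option autoImplicit false
set_option linter.unusedSectionVars false
set_option linter.unusedSimpArgs false
set_option linter.style.haveILetI false

namespace Cfsg.Agent.Lib.PresU

open Matrix Cfsg.Agent.Lib.PresSp.M2 Cfsg.Agent.Lib.PresSp.Mono Cfsg.Agent.Lib.PresSLn.TwoGen
open Cfsg.Agent.Lib.PresSp.Abs (sq_ind conj_comm conj_conj conj_one comm_conj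
  comm_of_conj A_zero A_neg act_of_sq act_pow comm_ext)
open Cfsg.Agent.Lib.PresSU3 (GG SUw fw qq ww GG_ext coe_qq coe_ww uM wM tM cstr_mul cstr_inv cstr_zero qq_mul qq_zero
  qq_inv qq_congr qq_inj ww_sq ww_inv mem_SUw)

variable {ι : Type*} [Fintype ι] [DecidableEq ι] {K : Type*} [Field K] {k : Type*} [Field k]
  {Γ : Type*} [Group Γ]
variable {a b : ι}

local notation "ttG" => Cfsg.Agent.Lib.PresSU3.tt

/-- The torus and the Weyl element of the embedding. -/
lemma tt_Inc_wn {σ : K →+* K} {j : k →+* K} (I : Inv σ j) {s : K} (hs : s ≠ 0) (hss : σ s = -s) (u : Kˣ) :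
    ttG I.invol u * Inc I hs hss wn = Inc I hs hss wn * ttG I.invol (Units.map (σ : K →* K) u)⁻¹ := by
  have h1 := Cfsg.Agent.Lib.PresSU3.ww_tt I.invol u
  rw [ww_inv I.invol] at h1
  have h2 : ttG I.invol u * ww σ = ww σ * ttG I.invol (Units.map (σ : K →* K) u)⁻¹ := by
    rw [← h1, ← mul_assoc, ← mul_assoc, ww_sq I.invol, one_mul]
  rw [Inc_wn, ← mul_assoc, h2, mul_assoc, mul_assoc, Cfsg.Agent.Lib.PresSU3.tt_mul,
    Cfsg.Agent.Lib.PresSU3.tt_mul, mul_comm]

namespace OHyp0

variable [Finite K] [Finite k] {σ : K →+* K} {j : k →+* K} {I : Inv σ j} {s : K} {hs : s ≠ 0} {hss : σ s = -s}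
  {lam : SpecialLinearGroup ι K →* Γ} {M : GG σ →* Γ} {hab : a ≠ b} {ζ : Kˣ} {θ b₁ b₂ : K}
  {h₁ : b₁ + σ b₁ + 1 * σ 1 = 0} {h₂ : b₂ + σ b₂ + θ * σ θ = 0}
  (H : OHyp0 I hs hss lam M hab ζ h₁ h₂)
include H

/-- The long root elements in terms of the unipotent elements. -/
lemma yy_eq (i : ι) (d : k) : yy lam (M.comp (Inc I hs hss)) a b i d =
    MJ lam M a b i (qq I.invol 0 (j d * s) (cstr_uu I hss d)) := by
  rw [← Inc_uu I hs hss]
  rfl

/-- `F1` in general. -/
lemma f1_gen (c α β : K) (h : β + σ β + α * σ α = 0) :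
    lam (TT hab c) * M (qq I.invol α β h) * (lam (TT hab c))⁻¹ =
      MJ lam M a b a (qq I.invol (c * α) (c * σ c * β) (cstr_del I.invol c h)) * M (qq I.invol α β h) *
        zz lam (M.comp (Inc I hs hss)) a b hab (c * ((β + α * σ α) / s)) := by
  have HU := H.toU
  refine sq_ind (P := fun c => ∀ α β, ∀ h : β + σ β + α * σ α = 0,
    lam (TT hab c) * M (qq I.invol α β h) * (lam (TT hab c))⁻¹ =
      MJ lam M a b a (qq I.invol (c * α) (c * σ c * β) (cstr_del I.invol c h)) * M (qq I.invol α β h) *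
        zz lam (M.comp (Inc I hs hss)) a b hab (c * ((β + α * σ α) / s))) ?_ ?_ ?_ c α β h
  · intro α β h
    have e : qq I.invol (0 * α) (0 * σ 0 * β) (cstr_del I.invol 0 h) = 1 := by
      rw [qq_congr I.invol _ (show (0 : K) * α = 0 by simp) (show (0 : K) * σ 0 * β = 0 by simp), qq_zero]
    rw [e, TT_zero, zero_mul, zz_zero]
    simp
  · intro x y hx hy α β h
    have hw : σ ((β + α * σ α) / s) = β / s := by
      rw [map_div₀, map_add, map_mul, I.invol, hss]
      field_simp
      linear_combination (-1 : K) * h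
    set w := (β + α * σ α) / s with hwd
    set Z := zz lam (M.comp (Inc I hs hss)) a b hab with hZ
    set B := M (qq I.invol α β h) with hB
    have e0 : lam (TT hab (x + y)) * B * (lam (TT hab (x + y)))⁻¹ =
        lam (TT hab x) * (lam (TT hab y) * B * (lam (TT hab y))⁻¹) * (lam (TT hab x))⁻¹ := by
      rw [T_hom']
      group
    have c1 : lam (TT hab x) * MJ lam M a b a (qq I.invol (y * α) (y * σ y * β) (cstr_del I.invol y h)) *
        (lam (TT hab x))⁻¹ = MJ lam M a b a (qq I.invol (y * α) (y * σ y * β) (cstr_del I.invol y h)) := by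
      rw [(H.comm_T_Ma x _ _ _).eq, mul_inv_cancel_right]
    have c2 : lam (TT hab x) * Z (y * w) * (lam (TT hab x))⁻¹ =
        Z (y * w) * yy lam (M.comp (Inc I hs hss)) a b a (I.tr (x * σ (y * w))) := HU.ss hab x (y * w)
    have ed : σ (y * w) = σ y * (β / s) := by rw [map_mul, hw]
    set d := I.tr (x * σ (y * w)) with hd
    have c3 : Commute (yy lam (M.comp (Inc I hs hss)) a b a d) B := by
      rw [H.yy_eq]
      have := H.f2_all 0 (j d * s) (cstr_uu I hss d) α β h
      simp only [zero_mul, neg_zero, zero_div, zz_zero, mul_one] at this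
      exact this
    have c4 : Commute (yy lam (M.comp (Inc I hs hss)) a b a d) (Z ((x + y) * w)) :=
      HU.comm_yy_zz a hab d _
    have e5 : MJ lam M a b a (qq I.invol (y * α) (y * σ y * β) (cstr_del I.invol y h)) *
        MJ lam M a b a (qq I.invol (x * α) (x * σ x * β) (cstr_del I.invol x h)) *
        yy lam (M.comp (Inc I hs hss)) a b a d =
        MJ lam M a b a (qq I.invol ((x + y) * α) ((x + y) * σ (x + y) * β) (cstr_del I.invol (x + y) h)) := by
      rw [H.yy_eq, ← map_mul, ← map_mul, qq_mul, qq_mul]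
      congr 1
      refine qq_congr I.invol _ (by ring) ?_
      have e6 : j d * s = x * σ y * β + σ x * y * (β + α * σ α) := by
        rw [hd, I.j_tr, map_mul σ x, I.invol, ed, hwd]
        field_simp
      rw [e6]
      simp only [map_add, map_mul, map_zero]
      ring
    have hx' := hx α β h
    have hy' := hy α β h
    rw [← hwd, ← hB] at hx' hy'
    rw [e0, hy', Cfsg.Agent.Lib.PresU.conj3, c1, hx', c2]
    calc _ = MJ lam M a b a (qq I.invol (y * α) (y * σ y * β) (cstr_del I.invol y h)) *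
          MJ lam M a b a (qq I.invol (x * α) (x * σ x * β) (cstr_del I.invol x h)) * B *
          (Z (x * w) * Z (y * w)) * yy lam (M.comp (Inc I hs hss)) a b a d := by simp only [mul_assoc]
      _ = MJ lam M a b a (qq I.invol (y * α) (y * σ y * β) (cstr_del I.invol y h)) *
          MJ lam M a b a (qq I.invol (x * α) (x * σ x * β) (cstr_del I.invol x h)) * B *
          (Z ((x + y) * w) * yy lam (M.comp (Inc I hs hss)) a b a d) := by
            rw [add_mul, hZ, zz_add]
            simp only [mul_assoc]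
      _ = MJ lam M a b a (qq I.invol (y * α) (y * σ y * β) (cstr_del I.invol y h)) *
          MJ lam M a b a (qq I.invol (x * α) (x * σ x * β) (cstr_del I.invol x h)) *
          (B * yy lam (M.comp (Inc I hs hss)) a b a d) * Z ((x + y) * w) := by
            rw [← c4.eq]
            simp only [mul_assoc]
      _ = _ := by
            rw [← c3.eq, ← e5]
            simp only [mul_assoc]
  · intro v α β h
    have h0 := v.ne_zero
    have h00 := (map_ne_zero σ).2 h0
    have hc := cstr_del I.invol (v : K) h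
    have h3 := congrArg (fun x => lam (tt hab v) * x * (lam (tt hab v))⁻¹) (H.f1_one _ _ hc)
    simp only [Cfsg.Agent.Lib.PresU.conj3] at h3
    have e1 : lam (tt hab v) * lam (TT hab 1) * (lam (tt hab v))⁻¹ = lam (TT hab ((v : K) ^ 2)) := by
      rw [lam_tt_ab', mul_one]
    have e1' : lam (tt hab v) * (lam (TT hab 1))⁻¹ * (lam (tt hab v))⁻¹ = (lam (TT hab ((v : K) ^ 2)))⁻¹ := by
      rw [← e1]
      group
    have e3 : del I.invol v⁻¹ (qq I.invol _ _ hc) = qq I.invol α β h :=
      del_qq I.invol _ hc h (by simp) (by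
        simp only [Units.val_inv_eq_inv_val, map_inv₀]
        field_simp)
    have e4 : del I.invol v (qq I.invol _ _ hc) =
        qq I.invol ((v : K) ^ 2 * α) ((v : K) ^ 2 * σ ((v : K) ^ 2) * β) (cstr_del I.invol _ h) :=
      del_qq I.invol _ hc _ (by ring) (by
        simp only [map_pow]
        ring)
    rw [e1, e1', H.tw_all, e3, H.tt_MJa, e4, H.toU0.tt_zz_ab] at h3
    rw [h3]
    congr 2
    simp only [map_mul, I.invol]
    field_simp

/-- The transfer to any ordered pair of indices. -/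
lemma transferO {i j' : ι} (hij : i ≠ j') : ∃ (m : SpecialLinearGroup ι K) (u u' : Kˣ),
    (u : K) * u = 1 ∧ (u' : K) * u' = 1 ∧ σ u = u ∧ σ u' = u' ∧
    (∀ c, lam m * lam (TT hab c) * (lam m)⁻¹ = lam (TT hij ((u : K) * u' * c))) ∧
    (∀ c, lam m * lam (TT hab.symm c) * (lam m)⁻¹ = lam (TT hij.symm ((u : K) * u' * c))) ∧
    (∀ g, lam m * M g * (lam m)⁻¹ = MJ lam M a b j' (del I.invol u' g)) ∧
    (∀ g, lam m * MJ lam M a b a g * (lam m)⁻¹ = MJ lam M a b i (del I.invol u g)) ∧
    (∀ c, lam m * zz lam (M.comp (Inc I hs hss)) a b hab c * (lam m)⁻¹ =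
      zz lam (M.comp (Inc I hs hss)) a b hij ((u : K) * u' * c)) := by
  obtain ⟨m, ε, ε', h1, h2⟩ := exists_mv (F := K) a b hab hij
  obtain ⟨u, hu, hu2⟩ := exists_unit_sign h1.sq
  obtain ⟨u', hu', hu2'⟩ := exists_unit_sign h2.sq
  have c1 : ∀ c, lam m * lam (TT hab c) * (lam m)⁻¹ = lam (TT hij ((u : K) * u' * c)) := by
    intro c
    rw [← map_inv, ← map_mul, ← map_mul, hu, hu']
    exact congrArg lam (h1.conj_T h2 hab hij c)
  have c3 : ∀ g, lam m * M g * (lam m)⁻¹ = MJ lam M a b j' (del I.invol u' g) := by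
    intro g
    have := H.conj_MJ h2 hu' g
    rwa [MJ_b] at this
  refine ⟨m, u, u', hu2, hu2', ?_, ?_, c1, ?_, c3, H.conj_MJ h1 hu, ?_⟩
  · rw [hu]
    exact Inv.sig_eta h1.sq
  · rw [hu']
    exact Inv.sig_eta h2.sq
  · intro c
    rw [← map_inv, ← map_mul, ← map_mul, hu, hu', mul_comm ε ε']
    exact congrArg lam (h2.conj_T h1 hab.symm hij.symm c)
  · intro c
    have e : lam m * zz lam (M.comp (Inc I hs hss)) a b hab c * (lam m)⁻¹ =
        (lam m * M (Inc I hs hss wn) * (lam m)⁻¹) * (lam m * lam (TT hab c) * (lam m)⁻¹) *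
          (lam m * M (Inc I hs hss wn) * (lam m)⁻¹)⁻¹ := by
      rw [zz_ab]
      change lam m * (M (Inc I hs hss wn) * _ * (M (Inc I hs hss wn))⁻¹) * _ = _
      group
    rw [e, c1, c3, del_Inc_of_nm I hs hss]
    · rfl
    · rw [hu']
      exact sign_nm h2.sq

/-- `F1` for all indices. -/
lemma f1_ij {i j' : ι} (hij : i ≠ j') (c α β : K) (h : β + σ β + α * σ α = 0) :
    lam (TT hij c) * MJ lam M a b j' (qq I.invol α β h) * (lam (TT hij c))⁻¹ =
      MJ lam M a b i (qq I.invol (c * α) (c * σ c * β) (cstr_del I.invol c h)) * MJ lam M a b j' (qq I.invol α β h) *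
        zz lam (M.comp (Inc I hs hss)) a b hij (c * ((β + α * σ α) / s)) := by
  obtain ⟨m, u, u', hu, hu', hs1, hs2, c1, -, c3, c4, c5⟩ := H.transferO (hab := hab) hij
  have hh1 : u' * u' = 1 := Units.ext hu'
  have hc : u' * σ u' * β + σ (u' * σ u' * β) + (u' * α) * σ (u' * α) = 0 := cstr_del I.invol (u' : K) h
  have hc1 : β + σ β + (u' * α) * σ (u' * α) = 0 := by
    simpa only [hs2, hu', one_mul] using hc
  have key := H.f1_gen ((u : K) * u' * c) (u' * α) β hc1
  have h3 := congrArg (fun x => lam m * x * (lam m)⁻¹) key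
  simp only [Cfsg.Agent.Lib.PresU.conj3] at h3
  have e0 : lam m * (lam (TT hab ((u : K) * u' * c)))⁻¹ * (lam m)⁻¹ =
      (lam (TT hij c))⁻¹ := by
    have : lam m * (lam (TT hab ((u : K) * u' * c)))⁻¹ * (lam m)⁻¹ = (lam m * lam (TT hab ((u : K) * u' * c)) * (lam m)⁻¹)⁻¹ := by group
    rw [this, c1]
    congr 3
    calc (u : K) * u' * ((u : K) * u' * c) = ((u : K) * u) * ((u' : K) * u') * c := by ring
      _ = c := by rw [hu, hu']; ring
  have e1 : lam m * lam (TT hab ((u : K) * u' * c)) * (lam m)⁻¹ = lam (TT hij c) := by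
    rw [c1]
    congr 2
    calc (u : K) * u' * ((u : K) * u' * c) = ((u : K) * u) * ((u' : K) * u') * c := by ring
      _ = c := by rw [hu, hu']; ring
  have e2 : del I.invol u' (qq I.invol (u' * α) β hc1) = qq I.invol α β h :=
    del_qq I.invol _ hc1 h (by rw [← mul_assoc, hu', one_mul]) (by
      rw [hs2, hu', one_mul])
  have hcc := cstr_del I.invol ((u : K) * u' * c) hc1
  have hcc2 := cstr_del I.invol c h
  have e3 : del I.invol u (qq I.invol _ _ hcc) = qq I.invol _ _ hcc2 :=
    del_qq I.invol _ hcc hcc2 (by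
      calc c * α = ((u : K) * u) * ((u' : K) * u') * (c * α) := by rw [hu, hu']; ring
        _ = _ := by ring) (by
      simp only [map_mul, hs1, hs2]
      calc c * σ c * β = ((u : K) * u) * ((u : K) * u) * ((u' : K) * u') * (c * σ c * β) := by
            rw [hu, hu']; ring
        _ = _ := by ring)
  rw [e0, e1, c3, e2, c4, e3, c5] at h3
  rw [h3]
  congr 2
  have e4 : (↑u' * α) * σ (↑u' * α) = α * σ α := by
    rw [map_mul, hs2]
    calc (u' : K) * α * (↑u' * σ α) = ((u' : K) * u') * (α * σ α) := by ring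
      _ = _ := by rw [hu', one_mul]
  rw [e4]
  calc (u : K) * u' * ((u : K) * u' * c * ((β + α * σ α) / s)) =
      ((u : K) * u) * ((u' : K) * u') * (c * ((β + α * σ α) / s)) := by ring
    _ = _ := by rw [hu, hu']; ring

/-- `F2` for all indices. -/
lemma f2_ij {i j' : ι} (hij : i ≠ j') (α β : K) (h : β + σ β + α * σ α = 0) (c d : K) (h' : d + σ d + c * σ c = 0) :
    MJ lam M a b i (qq I.invol α β h) * MJ lam M a b j' (qq I.invol c d h') =
      MJ lam M a b j' (qq I.invol c d h') * MJ lam M a b i (qq I.invol α β h) *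
        zz lam (M.comp (Inc I hs hss)) a b hij (-(α * σ c) / s) := by
  obtain ⟨m, u, u', hu, hu', hs1, hs2, c1, -, c3, c4, c5⟩ := H.transferO (hab := hab) hij
  have hc := cstr_del I.invol (u' : K) h'
  have hc1 : d + σ d + (u' * c) * σ (u' * c) = 0 := by
    simpa only [hs2, hu', one_mul] using hc
  have hc₂ := cstr_del I.invol (u : K) h
  have hc2 : β + σ β + (u * α) * σ (u * α) = 0 := by
    simpa only [hs1, hu, one_mul] using hc₂
  have key := H.f2_all (u * α) β hc2 (u' * c) d hc1
  have h3 := conj_rel (lam m) key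
  have e2 : del I.invol u' (qq I.invol (u' * c) d hc1) = qq I.invol c d h' :=
    del_qq I.invol _ hc1 h' (by rw [← mul_assoc, hu', one_mul]) (by
      rw [hs2, hu', one_mul])
  have e3 : del I.invol u (qq I.invol (u * α) β hc2) = qq I.invol α β h :=
    del_qq I.invol _ hc2 h (by rw [← mul_assoc, hu, one_mul]) (by
      rw [hs1, hu, one_mul])
  rw [c4, c3, e2, e3, c5] at h3
  rw [h3]
  congr 2
  simp only [map_mul, hs2]
  calc (u : K) * u' * (-(↑u * α * (↑u' * σ c)) / s) = ((u : K) * u) * ((u' : K) * u') * (-(α * σ c) / s) := by ring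
    _ = _ := by rw [hu, hu']; ring

/-- `F5` for all indices. -/
lemma f5_ij {i j' : ι} (hij : i ≠ j') (c α β : K) (h : β + σ β + α * σ α = 0) :
    Commute (lam (TT hij.symm c)) (MJ lam M a b j' (qq I.invol α β h)) := by
  obtain ⟨m, u, u', hu, hu', hs1, hs2, -, c2, c3, -, -⟩ := H.transferO (hab := hab) hij
  have hc := cstr_del I.invol (u' : K) h
  have hc1 : β + σ β + (u' * α) * σ (u' * α) = 0 := by
    simpa only [hs2, hu', one_mul] using hc
  have key := comm_conj (lam m) (H.f5_gen ((u : K) * u' * c) (u' * α) β hc1)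
  have e2 : del I.invol u' (qq I.invol (u' * α) β hc1) = qq I.invol α β h :=
    del_qq I.invol _ hc1 h (by rw [← mul_assoc, hu', one_mul]) (by
      rw [hs2, hu', one_mul])
  rw [c2, c3, e2] at key
  have e : (u : K) * u' * ((u : K) * u' * c) = c := by
    calc (u : K) * u' * ((u : K) * u' * c) = ((u : K) * u) * ((u' : K) * u') * c := by ring
      _ = c := by rw [hu, hu']; ring
  rwa [e] at key

/-- A transvection commutes with the rank one group at the index of its source. -/
lemma comm_T_Mi {i j' : ι} (hij : i ≠ j') (c α β : K) (h : β + σ β + α * σ α = 0) :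
    Commute (lam (TT hij c)) (MJ lam M a b i (qq I.invol α β h)) :=
  H.f5_ij hij.symm c α β h

/-- Transvections commute with the rank one groups at other indices. -/
lemma comm_T_Mk {i k' j' : ι} (hik : i ≠ k') (hi : i ≠ j') (hk : k' ≠ j') (c : K) (g : GG σ) :
    Commute (lam (TT hik c)) (MJ lam M a b j' g) := by
  have h := H.conj_MJ (Mv.T_fix (F := K) hik hi hk c) (u := 1) (by simp) g
  rw [del_one] at h
  change _ = _
  rw [mul_inv_eq_iff_eq_mul] at h
  exact h

/-- The Weyl elements commute with the rank one groups at other indices. -/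
lemma comm_w_MJ {i j' : ι} (hij : i ≠ j') (g : GG σ) :
    Commute (MJ lam M a b j' (Inc I hs hss wn)) (MJ lam M a b i g) := by
  obtain ⟨m, u, u', hu, hu', hs1, hs2, -, -, c3, c4, -⟩ := H.transferO (hab := hab) hij
  have key := comm_conj (lam m) (H.comm_w_MJa (del I.invol u⁻¹ g))
  rw [c3, c4, del_del_inv, del_Inc_of_nm I hs hss] at key
  · exact key
  · rw [hs2, hu']

/-- The short root elements commute with the rank one groups at the second index. -/
lemma comm_Z_Mj {i j' : ι} (hij : i ≠ j') (c α β : K) (h : β + σ β + α * σ α = 0) :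
    Commute (zz lam (M.comp (Inc I hs hss)) a b hij c) (MJ lam M a b j' (qq I.invol α β h)) := by
  obtain ⟨m, u, u', hu, hu', hs1, hs2, -, -, c3, -, c5⟩ := H.transferO (hab := hab) hij
  have hc := cstr_del I.invol (u' : K) h
  have hc1 : β + σ β + (u' * α) * σ (u' * α) = 0 := by
    simpa only [hs2, hu', one_mul] using hc
  have key := comm_conj (lam m) (H.comm_Z_M ((u : K) * u' * c) (u' * α) β hc1)
  have e2 : del I.invol u' (qq I.invol (u' * α) β hc1) = qq I.invol α β h :=
    del_qq I.invol _ hc1 h (by rw [← mul_assoc, hu', one_mul]) (by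
      rw [hs2, hu', one_mul])
  rw [c5, c3, e2] at key
  have e : (u : K) * u' * ((u : K) * u' * c) = c := by
    calc (u : K) * u' * ((u : K) * u' * c) = ((u : K) * u) * ((u' : K) * u') * c := by ring
      _ = c := by rw [hu, hu']; ring
  rwa [e] at key

/-- `G6`: the short root elements commute with all unipotent elements. -/
lemma comm_Z_Y {i j' : ι} (hij : i ≠ j') (k' : ι) (c α β : K) (h : β + σ β + α * σ α = 0) :
    Commute (zz lam (M.comp (Inc I hs hss)) a b hij c) (MJ lam M a b k' (qq I.invol α β h)) := by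
  by_cases h1 : k' = j'
  · subst h1
    exact H.comm_Z_Mj hij c α β h
  by_cases h2 : k' = i
  · subst h2
    rw [H.toU.zz_symm hij]
    exact H.comm_Z_Mj hij.symm _ α β h
  · simp only [zz]
    exact ((H.comm_w_MJ h1 _).mul_left (H.comm_T_Mk hij (Ne.symm h2) (Ne.symm h1) c _)).mul_left
      (H.comm_w_MJ h1 _).inv_left

/-- The short root elements commute with everything at other indices. -/
lemma comm_Z_Mk {i j' k' : ι} (hij : i ≠ j') (h2 : k' ≠ i) (h1 : k' ≠ j') (c : K) (g : GG σ) :
    Commute (zz lam (M.comp (Inc I hs hss)) a b hij c) (MJ lam M a b k' g) := by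
  simp only [zz]
  exact ((H.comm_w_MJ h1 _).mul_left (H.comm_T_Mk hij (Ne.symm h2) (Ne.symm h1) c _)).mul_left
    (H.comm_w_MJ h1 _).inv_left

/-- The monomial elements fixing `b`. -/
lemma transferB {i : ι} (hi : i ≠ b) : ∃ (m : SpecialLinearGroup ι K) (u u' : Kˣ),
    (u : K) * u = 1 ∧ (u' : K) * u' = 1 ∧ σ u = u ∧ σ u' = u' ∧
    (∀ c, lam m * lam (TT hab c) * (lam m)⁻¹ = lam (TT hi ((u : K) * u' * c))) ∧
    (∀ c, lam m * lam (TT hab.symm c) * (lam m)⁻¹ = lam (TT hi.symm ((u : K) * u' * c))) ∧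
    (∀ g, lam m * M g * (lam m)⁻¹ = M (del I.invol u' g)) ∧
    (∀ g, lam m * MJ lam M a b a g * (lam m)⁻¹ = MJ lam M a b i (del I.invol u g)) ∧
    (∀ c, lam m * zz lam (M.comp (Inc I hs hss)) a b hab c * (lam m)⁻¹ =
      zz lam (M.comp (Inc I hs hss)) a b hi ((u : K) * u' * c)) := by
  obtain ⟨m, u, u', hu, hu', hs1, hs2, c1, c2, c3, c4, c5⟩ := H.transferO (hab := hab) hi
  refine ⟨m, u, u', hu, hu', hs1, hs2, c1, c2, fun g => ?_, c4, c5⟩
  rw [c3, MJ_b]

/-- `G7`: the torus at `b` on the rank one groups at other indices. -/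
lemma tb_MJ {i : ι} (hi : i ≠ b) (t : Kˣ) (g : GG σ) :
    M (ttG I.invol t) * MJ lam M a b i g * (M (ttG I.invol t))⁻¹ = MJ lam M a b i (del I.invol (rU σ t) g) := by
  obtain ⟨m, u, u', hu, hu', hs1, hs2, -, -, c3, c4, -⟩ := H.transferB (hab := hab) hi
  have e0 : lam m * M (ttG I.invol t) * (lam m)⁻¹ = M (ttG I.invol t) := by
    rw [c3, del_tt]
  have key := congrArg (fun x => lam m * x * (lam m)⁻¹) (H.f6_all t (del I.invol u⁻¹ g))
  have e1 : lam m * (M (ttG I.invol t) * MJ lam M a b a (del I.invol u⁻¹ g) * (M (ttG I.invol t))⁻¹) * (lam m)⁻¹ =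
      (lam m * M (ttG I.invol t) * (lam m)⁻¹) * (lam m * MJ lam M a b a (del I.invol u⁻¹ g) * (lam m)⁻¹) *
        (lam m * M (ttG I.invol t) * (lam m)⁻¹)⁻¹ := by group
  rw [e1, e0, c4, c4, del_del_inv, del_comm, del_del_inv] at key
  exact key

/-- The torus at `b` on transvections. -/
lemma tb_T {i : ι} (hi : i ≠ b) (t : Kˣ) (c : K) :
    M (ttG I.invol t) * lam (TT hi c) * (M (ttG I.invol t))⁻¹ = lam (TT hi (((t⁻¹ : Kˣ) : K) * c)) := by
  obtain ⟨m, u, u', hu, hu', hs1, hs2, c1, -, c3, -, -⟩ := H.transferB (hab := hab) hi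
  have e0 : lam m * M (ttG I.invol t) * (lam m)⁻¹ = M (ttG I.invol t) := by
    rw [c3, del_tt]
  have e : ∀ x : K, (u : K) * u' * ((u : K) * u' * x) = x := by
    intro x
    calc (u : K) * u' * ((u : K) * u' * x) = ((u : K) * u) * ((u' : K) * u') * x := by ring
      _ = x := by rw [hu, hu']; ring
  have key := congrArg (fun x => lam m * x * (lam m)⁻¹) (H.H_ab t ((u : K) * u' * c))
  have e1 : lam m * (M (ttG I.invol t) * lam (TT hab ((u : K) * u' * c)) * (M (ttG I.invol t))⁻¹) * (lam m)⁻¹ =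
      (lam m * M (ttG I.invol t) * (lam m)⁻¹) * (lam m * lam (TT hab ((u : K) * u' * c)) * (lam m)⁻¹) *
        (lam m * M (ttG I.invol t) * (lam m)⁻¹)⁻¹ := by group
  rw [e1, e0, c1, c1, e] at key
  rw [key]
  congr 2
  calc (u : K) * u' * (((t⁻¹ : Kˣ) : K) * ((u : K) * u' * c)) =
      ((u : K) * u) * ((u' : K) * u') * (((t⁻¹ : Kˣ) : K) * c) := by ring
    _ = _ := by rw [hu, hu']; ring

/-- The torus at `b` on the transvections the other way. -/
lemma tb_T' {i : ι} (hi : i ≠ b) (t : Kˣ) (c : K) :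
    M (ttG I.invol t) * lam (TT hi.symm c) * (M (ttG I.invol t))⁻¹ = lam (TT hi.symm ((t : K) * c)) := by
  obtain ⟨m, u, u', hu, hu', hs1, hs2, -, c1, c3, -, -⟩ := H.transferB (hab := hab) hi
  have e0 : lam m * M (ttG I.invol t) * (lam m)⁻¹ = M (ttG I.invol t) := by
    rw [c3, del_tt]
  have e : ∀ x : K, (u : K) * u' * ((u : K) * u' * x) = x := by
    intro x
    calc (u : K) * u' * ((u : K) * u' * x) = ((u : K) * u) * ((u' : K) * u') * x := by ring
      _ = x := by rw [hu, hu']; ring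
  have key := congrArg (fun x => lam m * x * (lam m)⁻¹) (H.H_ba t ((u : K) * u' * c))
  have e1 : lam m * (M (ttG I.invol t) * lam (TT hab.symm ((u : K) * u' * c)) * (M (ttG I.invol t))⁻¹) * (lam m)⁻¹ =
      (lam m * M (ttG I.invol t) * (lam m)⁻¹) * (lam m * lam (TT hab.symm ((u : K) * u' * c)) * (lam m)⁻¹) *
        (lam m * M (ttG I.invol t) * (lam m)⁻¹)⁻¹ := by group
  rw [e1, e0, c1, c1, e] at key
  rw [key]
  congr 2
  calc (u : K) * u' * ((t : K) * ((u : K) * u' * c)) =
      ((u : K) * u) * ((u' : K) * u') * ((t : K) * c) := by ring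
    _ = _ := by rw [hu, hu']; ring

/-- `G8`: the torus at `b` on the short root elements. -/
lemma tb_Z {i : ι} (hi : i ≠ b) (t : Kˣ) (c : K) :
    M (ttG I.invol t) * zz lam (M.comp (Inc I hs hss)) a b hi c * (M (ttG I.invol t))⁻¹ =
      zz lam (M.comp (Inc I hs hss)) a b hi (σ t * c) := by
  have e0 : M (ttG I.invol t) * M (Inc I hs hss wn) =
      M (Inc I hs hss wn) * M (ttG I.invol (Units.map (σ : K →* K) t)⁻¹) := by
    rw [← map_mul, tt_Inc_wn, map_mul]
  have hT := H.tb_T hi (Units.map (σ : K →* K) t)⁻¹ c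
  simp only [zz, MJ_b]
  have e1 : muJ lam (M.comp (Inc I hs hss)) a b b wn = M (Inc I hs hss wn) := by
    rw [muJ_b]
    rfl
  rw [e1]
  have e2 : (((Units.map (σ : K →* K) t)⁻¹⁻¹ : Kˣ) : K) * c = σ t * c := by
    simp
  rw [e2] at hT
  rw [← hT]
  calc M (ttG I.invol t) * (M (Inc I hs hss wn) * lam (TT hi c) * (M (Inc I hs hss wn))⁻¹) * (M (ttG I.invol t))⁻¹
      = (M (ttG I.invol t) * M (Inc I hs hss wn)) * lam (TT hi c) * (M (ttG I.invol t) * M (Inc I hs hss wn))⁻¹ := by group
    _ = _ := by rw [e0]; group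

/-- Transvections between indices other than `b` commute with the rank one group at `b`. -/
lemma comm_T_M {i k' : ι} (hik : i ≠ k') (hi : i ≠ b) (hk : k' ≠ b) (c : K) (g : GG σ) :
    Commute (lam (TT hik c)) (M g) := by
  have := H.comm_T_Mk hik hi hk c g
  rwa [MJ_b] at this

/-- Short root elements at indices other than `b` commute with the rank one group at `b`. -/
lemma comm_Z_Mb {i k' : ι} (hik : i ≠ k') (hi : i ≠ b) (hk : k' ≠ b) (c : K) (g : GG σ) :
    Commute (zz lam (M.comp (Inc I hs hss)) a b hik c) (M g) := by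
  have := H.comm_Z_Mk hik (Ne.symm hi) (Ne.symm hk) c g
  rwa [MJ_b] at this

/-- The Weyl element at `b` commutes with the rank one groups at other indices. -/
lemma comm_wb_MJ {i : ι} (hi : i ≠ b) (g : GG σ) :
    Commute (M (Inc I hs hss wn)) (MJ lam M a b i g) := by
  have := H.comm_w_MJ hi g
  rwa [MJ_b] at this

end OHyp0

end Cfsg.Agent.Lib.PresU
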