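import Cfsg.Agent.Lib.PresU.OAbs3
import Cfsg.Agent.Lib.PresU.Dec

/-!
# The parabolic subgroup for `SU_{2n+1}`
-/

set_option autoImplicit false
set_option linter.unusedSectionVars false
set_option linter.unusedSimpArgs false
set_option linter.style.haveILetI false

namespace Cfsg.Agent.Lib.PresU

open Matrix Cfsg.Agent.Lib.PresSp.M2 Cfsg.Agent.Lib.PresSp.Mono Cfsg.Agent.Lib.PresSLn.TwoGen
open Cfsg.Agent.Lib.PresSp.Abs (sq_ind conj_comm conj_conj conj_one comm_conj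
  comm_of_conj A_zero A_neg act_of_sq act_pow comm_ext)
open Cfsg.Agent.Lib.PresSU3 (GG SUw fw qq ww GG_ext coe_qq coe_ww uM wM tM cstr_mul cstr_inv cstr_zero qq_mul qq_zero
  qq_inv qq_congr qq_inj ww_sq ww_inv mem_SUw)
open UHyp0 UHyp

variable {ι : Type*} [Fintype ι] [DecidableEq ι] {K : Type*} [Field K] {k : Type*} [Field k]
  {Γ : Type*} [Group Γ]
variable {a b : ι}

local notation "ttG" => Cfsg.Agent.Lib.PresSU3.tt

section defs

variable {σ : K →+* K} {j : k →+* K} (I : Inv σ j) {s : K} (hs : s ≠ 0) (hss : σ s = -s)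
  (lam : SpecialLinearGroup ι K →* Γ) (M : GG σ →* Γ) (a b : ι)

/-- The generators of the unipotent radical at the indices in `S`. -/
def NSg (S : Finset ι) : Set Γ :=
  {x | ∃ k' ∈ S, ∃ α β, ∃ h : β + σ β + α * σ α = 0, x = MJ lam M a b k' (qq I.invol α β h)} ∪
    {x | ∃ (i j' : ι) (hij : i ≠ j') (d : K), x = zz lam (M.comp (Inc I hs hss)) a b hij d}

/-- The unipotent radical at the indices in `S`. -/
def NS (S : Finset ι) : Subgroup Γ := Subgroup.closure (NSg I hs hss lam M a b S)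

/-- The parabolic subgroup. -/
def Pt : Subgroup Γ :=
  Subgroup.closure (Set.range lam ∪ {x | ∃ α β, ∃ h : β + σ β + α * σ α = 0, x = M (qq I.invol α β h)} ∪
    {x | ∃ u, x = M (ttG I.invol u)})

/-- The group normalised by the rank one group at `b`. -/
def Nt : Subgroup Γ :=
  Subgroup.closure (NSg I hs hss lam M a b (Finset.univ.erase b) ∪
    {x | ∃ (k' : ι) (h : k' ≠ b) (d : K), x = lam (TT h d)})

variable {I hs hss lam M a b}

lemma Y_mem_NS {S : Finset ι} {k' : ι} (hk : k' ∈ S) (α β : K) (h : β + σ β + α * σ α = 0) :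
    MJ lam M a b k' (qq I.invol α β h) ∈ NS I hs hss lam M a b S :=
  Subgroup.subset_closure (Or.inl ⟨k', hk, α, β, h, rfl⟩)

lemma Z_mem_NS (S : Finset ι) {i j' : ι} (hij : i ≠ j') (d : K) :
    zz lam (M.comp (Inc I hs hss)) a b hij d ∈ NS I hs hss lam M a b S :=
  Subgroup.subset_closure (Or.inr ⟨i, j', hij, d, rfl⟩)

lemma lam_mem_Pt (l : SpecialLinearGroup ι K) : lam l ∈ Pt I lam M :=
  Subgroup.subset_closure (Or.inl (Or.inl ⟨l, rfl⟩))

lemma q_mem_Pt (α β : K) (h : β + σ β + α * σ α = 0) : M (qq I.invol α β h) ∈ Pt I lam M :=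
  Subgroup.subset_closure (Or.inl (Or.inr ⟨α, β, h, rfl⟩))

lemma t_mem_Pt (u : Kˣ) : M (ttG I.invol u) ∈ Pt I lam M :=
  Subgroup.subset_closure (Or.inr ⟨u, rfl⟩)

lemma Y_mem_Pt (k' : ι) (α β : K) (h : β + σ β + α * σ α = 0) :
    MJ lam M a b k' (qq I.invol α β h) ∈ Pt I lam M := by
  rw [MJ_apply]
  exact mul_mem (mul_mem (lam_mem_Pt _) (q_mem_Pt _ _ _)) (inv_mem (lam_mem_Pt _))

lemma Jt_mem_Pt (k' : ι) (u : Kˣ) : MJ lam M a b k' (ttG I.invol u) ∈ Pt I lam M := by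
  rw [MJ_apply]
  exact mul_mem (mul_mem (lam_mem_Pt _) (t_mem_Pt _)) (inv_mem (lam_mem_Pt _))

lemma Pp_le_Pt : Pp lam (M.comp (Inc I hs hss)) ≤ Pt I lam M := by
  rw [Pp, Subgroup.closure_le]
  rintro _ ((⟨l, rfl⟩ | ⟨d, rfl⟩) | ⟨u, rfl⟩)
  · exact lam_mem_Pt l
  · change M (Inc I hs hss (uu d)) ∈ _
    rw [Inc_uu]
    exact q_mem_Pt _ _ _
  · change M (Inc I hs hss (dd u)) ∈ _
    rw [Inc_dd]
    exact t_mem_Pt _

lemma Qq_le_NS {S : Finset ι} (hS : S = Finset.univ) :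
    Qq lam (M.comp (Inc I hs hss)) a b ≤ NS I hs hss lam M a b S := by
  rw [Qq, Subgroup.closure_le]
  rintro _ (⟨k', d, rfl⟩ | ⟨i, j', h, d, rfl⟩)
  · have e : yy lam (M.comp (Inc I hs hss)) a b k' d = MJ lam M a b k' (qq I.invol 0 (j d * s) (cstr_uu I hss d)) := by
      rw [← Inc_uu I hs hss]
      rfl
    rw [e]
    exact Y_mem_NS (by simp [hS]) _ _ _
  · exact Z_mem_NS _ h d

lemma NS_mono {S S' : Finset ι} (h : S ⊆ S') : NS I hs hss lam M a b S ≤ NS I hs hss lam M a b S' := by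
  refine Subgroup.closure_mono ?_
  rintro x (⟨k', hk, α, β, hh, rfl⟩ | hx)
  · exact Or.inl ⟨k', h hk, α, β, hh, rfl⟩
  · exact Or.inr hx

lemma NS_empty_le : NS I hs hss lam M a b ∅ ≤ Qq lam (M.comp (Inc I hs hss)) a b := by
  rw [NS, Subgroup.closure_le]
  rintro x (⟨k', hk, -⟩ | ⟨i, j', hij, d, rfl⟩)
  · simp at hk
  · exact zz_mem_Qq hij d

lemma NS_le_Nt : NS I hs hss lam M a b (Finset.univ.erase b) ≤ Nt I hs hss lam M a b :=
  Subgroup.closure_mono (Set.subset_union_left)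

lemma Yb_mem_Nt {k' : ι} (hk : k' ≠ b) (α β : K) (h : β + σ β + α * σ α = 0) :
    MJ lam M a b k' (qq I.invol α β h) ∈ Nt I hs hss lam M a b :=
  NS_le_Nt (Y_mem_NS (by simp [hk]) α β h)

lemma Z_mem_Nt {i j' : ι} (hij : i ≠ j') (d : K) :
    zz lam (M.comp (Inc I hs hss)) a b hij d ∈ Nt I hs hss lam M a b :=
  NS_le_Nt (Z_mem_NS _ hij d)

lemma T_mem_Nt {k' : ι} (h : k' ≠ b) (d : K) : lam (TT h d) ∈ Nt I hs hss lam M a b :=
  Subgroup.subset_closure (Or.inr ⟨k', h, d, rfl⟩)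

end defs

namespace OHyp0

variable [Finite K] [Finite k] {σ : K →+* K} {j : k →+* K} {I : Inv σ j} {s : K} {hs : s ≠ 0} {hss : σ s = -s}
  {lam : SpecialLinearGroup ι K →* Γ} {M : GG σ →* Γ} {hab : a ≠ b} {ζ : Kˣ} {θ b₁ b₂ : K}
  {h₁ : b₁ + σ b₁ + 1 * σ 1 = 0} {h₂ : b₂ + σ b₂ + θ * σ θ = 0}
  (H : OHyp0 I hs hss lam M hab ζ h₁ h₂)
include H

lemma Nt_le_Pt : Nt I hs hss lam M a b ≤ Pt I lam M := by
  rw [Nt, Subgroup.closure_le]
  rintro _ ((⟨k', hk, α, β, h, rfl⟩ | ⟨i, j', hij, d, rfl⟩) | ⟨k', h, d, rfl⟩)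
  · exact Y_mem_Pt k' α β h
  · exact Pp_le_Pt (H.toU.zz_mem_Pp hij d)
  · exact lam_mem_Pt _

lemma NS_le_Pt (S : Finset ι) : NS I hs hss lam M a b S ≤ Pt I lam M := by
  rw [NS, Subgroup.closure_le]
  rintro _ (⟨k', hk, α, β, h, rfl⟩ | ⟨i, j', hij, d, rfl⟩)
  · exact Y_mem_Pt k' α β h
  · exact Pp_le_Pt (H.toU.zz_mem_Pp hij d)

/-- Unipotent elements at other indices normalise. -/
lemma conj_Y_NS {S : Finset ι} {k' : ι} (hk : k' ∉ S) (c d : K) (h' : d + σ d + c * σ c = 0) {n : Γ}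
    (hn : n ∈ NS I hs hss lam M a b S) :
    MJ lam M a b k' (qq I.invol c d h') * n * (MJ lam M a b k' (qq I.invol c d h'))⁻¹ ∈ NS I hs hss lam M a b S := by
  refine conj_closure_mem _ ?_ hn
  rintro _ (⟨i, hi, α, β, h, rfl⟩ | ⟨i, i', hij, e, rfl⟩)
  · have hne : k' ≠ i := by
      rintro rfl
      exact hk hi
    have h1 := H.f2_ij hne c d h' α β h
    rw [h1]
    have hc := H.comm_Z_Y hne k' (-(c * σ α) / s) c d h'
    have e : MJ lam M a b i (qq I.invol α β h) * MJ lam M a b k' (qq I.invol c d h') *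
        zz lam (M.comp (Inc I hs hss)) a b hne (-(c * σ α) / s) * (MJ lam M a b k' (qq I.invol c d h'))⁻¹ =
        MJ lam M a b i (qq I.invol α β h) * zz lam (M.comp (Inc I hs hss)) a b hne (-(c * σ α) / s) := by
      rw [mul_assoc (MJ lam M a b i _), mul_assoc (MJ lam M a b i _), hc.symm.eq, mul_inv_cancel_right]
    rw [e]
    exact mul_mem (Y_mem_NS hi _ _ _) (Z_mem_NS _ _ _)
  · have hc := H.comm_Z_Y hij k' e c d h'
    rw [hc.symm.eq, mul_inv_cancel_right]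
    exact Z_mem_NS _ _ _

/-- Splitting off one index. -/
lemma dec_N {S : Finset ι} {k' : ι} (hk : k' ∉ S) {q : Γ} (hq : q ∈ NS I hs hss lam M a b (insert k' S)) :
    ∃ n ∈ NS I hs hss lam M a b S, ∃ α β, ∃ h : β + σ β + α * σ α = 0,
      q = n * MJ lam M a b k' (qq I.invol α β h) := by
  have step : ∀ x ∈ NSg I hs hss lam M a b (insert k' S), ∀ y : Γ,
      (∃ n ∈ NS I hs hss lam M a b S, ∃ α β, ∃ h : β + σ β + α * σ α = 0,
        y = n * MJ lam M a b k' (qq I.invol α β h)) →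
      ∃ n ∈ NS I hs hss lam M a b S, ∃ α β, ∃ h : β + σ β + α * σ α = 0,
        x * y = n * MJ lam M a b k' (qq I.invol α β h) := by
    rintro x hx y ⟨n, hn, α, β, h, rfl⟩
    rcases hx with ⟨i, hi, c, d, h', rfl⟩ | ⟨i, i', hij, e, rfl⟩
    · by_cases hik : i = k'
      · subst hik
        refine ⟨_, H.conj_Y_NS hk c d h' hn, _, _, cstr_mul I.invol h' h, ?_⟩
        rw [← qq_mul I.invol h' h, map_mul]
        group
      · have hi' : i ∈ S := (Finset.mem_insert.1 hi).resolve_left hik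
        exact ⟨_, mul_mem (Y_mem_NS hi' c d h') hn, α, β, h, by group⟩
    · exact ⟨_, mul_mem (Z_mem_NS _ hij e) hn, α, β, h, by group⟩
  induction hq using Subgroup.closure_induction_left with
  | one =>
    refine ⟨1, one_mem _, 0, 0, cstr_zero, ?_⟩
    rw [qq_zero, map_one, one_mul]
  | mul_left x hx y _ ih => exact step x hx y ih
  | inv_mul_cancel x hx y _ ih =>
    refine step x⁻¹ ?_ y ih
    rcases hx with ⟨i, hi, c, d, h', rfl⟩ | ⟨i, i', hij, e, rfl⟩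
    · exact Or.inl ⟨i, hi, _, _, cstr_inv I.invol h', by rw [← map_inv, qq_inv]⟩
    · exact Or.inr ⟨i, i', hij, -e, (zz_neg hij e).symm⟩

/-- A transvection normalises the unipotent radical. -/
lemma conj_T_NS {i j' : ι} (hij : i ≠ j') (c : K) {q : Γ} (hq : q ∈ NS I hs hss lam M a b Finset.univ) :
    lam (TT hij c) * q * (lam (TT hij c))⁻¹ ∈ NS I hs hss lam M a b Finset.univ := by
  refine conj_closure_mem _ ?_ hq
  rintro _ (⟨k', hk, α, β, h, rfl⟩ | ⟨k', l, hkl, d, rfl⟩)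
  · by_cases h1 : k' = j'
    · subst h1
      rw [H.f1_ij hij c α β h]
      exact mul_mem (mul_mem (Y_mem_NS (Finset.mem_univ _) _ _ _) (Y_mem_NS (Finset.mem_univ _) _ _ _))
        (Z_mem_NS _ _ _)
    by_cases h2 : k' = i
    · subst h2
      rw [(H.comm_T_Mi hij c α β h).eq, mul_inv_cancel_right]
      exact Y_mem_NS (Finset.mem_univ _) _ _ _
    · rw [(H.comm_T_Mk hij (Ne.symm h2) (Ne.symm h1) c _).eq, mul_inv_cancel_right]
      exact Y_mem_NS (Finset.mem_univ _) _ _ _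
  · exact Qq_le_NS rfl (H.toU.conj_T_Qq hij c (zz_mem_Qq hkl d))

/-- `lam` normalises the unipotent radical. -/
lemma conj_lam_NS (l : SpecialLinearGroup ι K) {q : Γ} (hq : q ∈ NS I hs hss lam M a b Finset.univ) :
    lam l * q * (lam l)⁻¹ ∈ NS I hs hss lam M a b Finset.univ := by
  haveI : Nontrivial ι := ⟨a, b, hab⟩
  revert q
  refine Cfsg.Agent.Lib.Classical.Transvections.transvection_induction
    (fun l => ∀ {q : Γ}, q ∈ NS I hs hss lam M a b Finset.univ →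
      lam l * q * (lam l)⁻¹ ∈ NS I hs hss lam M a b Finset.univ) l ?_ ?_
  · intro i j hij c q hq
    exact H.conj_T_NS hij c hq
  · intro A B hA hB q hq
    have := hA (hB hq)
    rw [map_mul, conj_conj]
    exact this

/-- The torus on a short root element. -/
lemma conj_t_Z {i i' : ι} (hij : i ≠ i') (t : Kˣ) (e : K) :
    ∃ e', M (ttG I.invol t) * zz lam (M.comp (Inc I hs hss)) a b hij e * (M (ttG I.invol t))⁻¹ =
      zz lam (M.comp (Inc I hs hss)) a b hij e' := by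
  by_cases h1 : i' = b
  · subst h1
    exact ⟨_, H.tb_Z hij t e⟩
  by_cases h2 : i = b
  · subst h2
    rw [H.toU.zz_symm hij, H.tb_Z hij.symm t]
    exact ⟨_, H.toU.zz_symm hij.symm _⟩
  · refine ⟨e, ?_⟩
    rw [(H.comm_Z_Mb hij h2 h1 e _).symm.eq, mul_inv_cancel_right]

/-- The torus normalises the unipotent radical. -/
lemma conj_t_NS (S : Finset ι) (t : Kˣ) {q : Γ} (hq : q ∈ NS I hs hss lam M a b S) :
    M (ttG I.invol t) * q * (M (ttG I.invol t))⁻¹ ∈ NS I hs hss lam M a b S := by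
  refine conj_closure_mem _ ?_ hq
  rintro _ (⟨k', hk, α, β, h, rfl⟩ | ⟨i, i', hij, e, rfl⟩)
  · by_cases h1 : k' = b
    · subst h1
      rw [MJ_b, ← map_inv, ← map_mul, ← map_mul, Cfsg.Agent.Lib.PresSU3.tt_qq, ← MJ_b lam M a]
      exact Y_mem_NS hk _ _ _
    · rw [H.tb_MJ h1, del_qq I.invol _ h (cstr_del I.invol _ h) rfl rfl]
      exact Y_mem_NS hk _ _ _
  · obtain ⟨e', he⟩ := H.conj_t_Z hij t e
    rw [he]
    exact Z_mem_NS _ _ _

/-- The torus normalises the image of `lam`. -/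
lemma t_lam (t : Kˣ) (l : SpecialLinearGroup ι K) : ∃ l', M (ttG I.invol t) * lam l * (M (ttG I.invol t))⁻¹ = lam l' := by
  haveI : Nontrivial ι := ⟨a, b, hab⟩
  refine Cfsg.Agent.Lib.Classical.Transvections.transvection_induction
    (fun l => ∃ l', M (ttG I.invol t) * lam l * (M (ttG I.invol t))⁻¹ = lam l') l ?_ ?_
  · intro i i' hij c
    by_cases h1 : i' = b
    · subst h1
      exact ⟨_, H.tb_T hij t c⟩
    by_cases h2 : i = b
    · subst h2
      exact ⟨_, H.tb_T' hij.symm t c⟩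
    · refine ⟨TT hij c, ?_⟩
      rw [(H.comm_T_M hij h2 h1 c _).symm.eq, mul_inv_cancel_right]
  · rintro A B ⟨A', hA⟩ ⟨B', hB⟩
    refine ⟨A' * B', ?_⟩
    rw [map_mul, map_mul, ← hA, ← hB]
    group

/-- The decomposition of the parabolic. -/
lemma dec_Pt {p : Γ} (hp : p ∈ Pt I lam M) :
    ∃ q ∈ NS I hs hss lam M a b Finset.univ, ∃ (u : Kˣ) (l : SpecialLinearGroup ι K),
      p = q * M (ttG I.invol u) * lam l := by
  have step : ∀ x ∈ (Set.range lam ∪ {x | ∃ α β, ∃ h : β + σ β + α * σ α = 0, x = M (qq I.invol α β h)} ∪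
      {x | ∃ u, x = M (ttG I.invol u)} : Set Γ), ∀ y : Γ,
      (∃ q ∈ NS I hs hss lam M a b Finset.univ, ∃ (u : Kˣ) (l : SpecialLinearGroup ι K),
        y = q * M (ttG I.invol u) * lam l) →
      ∃ q ∈ NS I hs hss lam M a b Finset.univ, ∃ (u : Kˣ) (l : SpecialLinearGroup ι K),
        x * y = q * M (ttG I.invol u) * lam l := by
    rintro x hx y ⟨q, hq, u, l, rfl⟩
    rcases hx with (⟨l₀, rfl⟩ | ⟨α, β, h, rfl⟩) | ⟨v, rfl⟩
    · obtain ⟨l', hl'⟩ := H.t_lam u⁻¹ l₀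
      have e : lam l₀ * M (ttG I.invol u) = M (ttG I.invol u) * lam l' := by
        rw [← hl', ← Cfsg.Agent.Lib.PresSU3.tt_inv, map_inv]
        group
      refine ⟨lam l₀ * q * (lam l₀)⁻¹, H.conj_lam_NS l₀ hq, u, l' * l, ?_⟩
      rw [map_mul]
      calc lam l₀ * (q * M (ttG I.invol u) * lam l)
          = lam l₀ * q * (lam l₀)⁻¹ * (lam l₀ * M (ttG I.invol u)) * lam l := by group
        _ = _ := by rw [e]; group
    · refine ⟨M (qq I.invol α β h) * q, mul_mem ?_ hq, u, l, by group⟩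
      have := Y_mem_NS (I := I) (hs := hs) (hss := hss) (lam := lam) (M := M) (a := a) (b := b) (Finset.mem_univ b) α β h
      rwa [MJ_b] at this
    · refine ⟨M (ttG I.invol v) * q * (M (ttG I.invol v))⁻¹, H.conj_t_NS _ v hq, v * u, l, ?_⟩
      rw [← Cfsg.Agent.Lib.PresSU3.tt_mul, map_mul]
      group
  induction hp using Subgroup.closure_induction_left with
  | one =>
    refine ⟨1, one_mem _, 1, 1, ?_⟩
    rw [Cfsg.Agent.Lib.PresSU3.tt_one]
    simp
  | mul_left x hx y _ ih => exact step x hx y ih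
  | inv_mul_cancel x hx y _ ih =>
    refine step x⁻¹ ?_ y ih
    rcases hx with (⟨l₀, rfl⟩ | ⟨α, β, h, rfl⟩) | ⟨v, rfl⟩
    · exact Or.inl (Or.inl ⟨l₀⁻¹, map_inv _ _⟩)
    · exact Or.inl (Or.inr ⟨_, _, cstr_inv I.invol h, by rw [← map_inv, qq_inv]⟩)
    · exact Or.inr ⟨v⁻¹, by rw [← Cfsg.Agent.Lib.PresSU3.tt_inv, map_inv]⟩

/-- The decomposition of the unipotent radical. -/
lemma dec_Qt {q : Γ} (hq : q ∈ NS I hs hss lam M a b Finset.univ) :
    ∃ n ∈ NS I hs hss lam M a b (Finset.univ.erase b), ∃ α β, ∃ h : β + σ β + α * σ α = 0,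
      q = n * M (qq I.invol α β h) := by
  have e : insert b (Finset.univ.erase b) = (Finset.univ : Finset ι) := Finset.insert_erase (Finset.mem_univ b)
  rw [← e] at hq
  obtain ⟨n, hn, α, β, h, rfl⟩ := H.dec_N (Finset.notMem_erase b _) hq
  exact ⟨n, hn, α, β, h, by rw [MJ_b]⟩

/-- The unipotent elements at `b` normalise `Nt`. -/
lemma conj_q_Y {k' : ι} (hk : k' ≠ b) (c d : K) (h' : d + σ d + c * σ c = 0) (α β : K)
    (h : β + σ β + α * σ α = 0) :
    M (qq I.invol α β h) * MJ lam M a b k' (qq I.invol c d h') * (M (qq I.invol α β h))⁻¹ ∈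
      Nt I hs hss lam M a b := by
  have h1 := H.f2_ij hk c d h' α β h
  rw [MJ_b] at h1
  have hc : Commute (zz lam (M.comp (Inc I hs hss)) a b hk (-(c * σ α) / s)) (M (qq I.invol α β h)) := by
    have := H.comm_Z_Y hk b (-(c * σ α) / s) α β h
    rwa [MJ_b] at this
  set Y := MJ lam M a b k' (qq I.invol c d h')
  set B := M (qq I.invol α β h)
  set Z := zz lam (M.comp (Inc I hs hss)) a b hk (-(c * σ α) / s) with hZ
  have e1 : B * Y = Y * B * Z⁻¹ := by
    rw [h1, mul_inv_cancel_right]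
  have e : B * Y * B⁻¹ = Y * Z⁻¹ := by
    calc B * Y * B⁻¹ = Y * B * Z⁻¹ * B⁻¹ := by rw [e1]
      _ = Y * (B * Z⁻¹) * B⁻¹ := by simp only [mul_assoc]
      _ = Y * (Z⁻¹ * B) * B⁻¹ := by rw [hc.inv_left.symm.eq]
      _ = Y * Z⁻¹ := by simp only [mul_assoc, mul_inv_cancel, mul_one]
  rw [e]
  exact mul_mem (Yb_mem_Nt hk _ _ _) (inv_mem (Z_mem_Nt _ _))

/-- The unipotent elements at `b` on the transvections. -/
lemma conj_q_T {k' : ι} (hk : k' ≠ b) (c : K) (α β : K) (h : β + σ β + α * σ α = 0) :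
    M (qq I.invol α β h) * lam (TT hk c) * (M (qq I.invol α β h))⁻¹ ∈ Nt I hs hss lam M a b := by
  have hi := cstr_inv I.invol h
  have e0 : (M (qq I.invol α β h))⁻¹ = M (qq I.invol (-α) (σ β) hi) := by
    rw [← map_inv, qq_inv]
  have h1 := H.f1_ij hk c (-α) (σ β) hi
  rw [MJ_b] at h1
  set B := M (qq I.invol α β h) with hB
  set B' := M (qq I.invol (-α) (σ β) hi) with hB'
  set T := lam (TT hk c)
  set Y := MJ lam M a b k' (qq I.invol (c * -α) (c * σ c * σ β) (cstr_del I.invol c hi)) with hY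
  set Z := zz lam (M.comp (Inc I hs hss)) a b hk (c * ((σ β + -α * σ (-α)) / s)) with hZ
  have e1 : T * B' = Y * B' * Z * T := by
    rw [← h1]
    group
  have h2 : B * T * B⁻¹ = (B * Y * B⁻¹) * Z * T := by
    rw [e0]
    calc B * T * B' = B * (T * B') := by simp only [mul_assoc]
      _ = B * (Y * B' * Z * T) := by rw [e1]
      _ = B * Y * B' * Z * T := by simp only [mul_assoc]
  rw [h2]
  exact mul_mem (mul_mem (H.conj_q_Y hk _ _ _ _ _ _) (Z_mem_Nt _ _)) (T_mem_Nt _ _)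

lemma conj_q_Nt (α β : K) (h : β + σ β + α * σ α = 0) {n : Γ} (hn : n ∈ Nt I hs hss lam M a b) :
    M (qq I.invol α β h) * n * (M (qq I.invol α β h))⁻¹ ∈ Nt I hs hss lam M a b := by
  refine conj_closure_mem _ ?_ hn
  rintro _ ((⟨k', hk, c, d, h', rfl⟩ | ⟨i, i', hij, e, rfl⟩) | ⟨k', hk, d, rfl⟩)
  · exact H.conj_q_Y (Finset.ne_of_mem_erase hk) c d h' α β h
  · have hc : Commute (zz lam (M.comp (Inc I hs hss)) a b hij e) (M (qq I.invol α β h)) := by
      have := H.comm_Z_Y hij b e α β h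
      rwa [MJ_b] at this
    rw [hc.symm.eq, mul_inv_cancel_right]
    exact Z_mem_Nt _ _
  · exact H.conj_q_T hk d α β h

lemma conj_t_Nt (t : Kˣ) {n : Γ} (hn : n ∈ Nt I hs hss lam M a b) :
    M (ttG I.invol t) * n * (M (ttG I.invol t))⁻¹ ∈ Nt I hs hss lam M a b := by
  refine conj_closure_mem _ ?_ hn
  rintro _ ((⟨k', hk, c, d, h', rfl⟩ | ⟨i, i', hij, e, rfl⟩) | ⟨k', hk, d, rfl⟩)
  · have hk' := Finset.ne_of_mem_erase hk
    rw [H.tb_MJ hk', del_qq I.invol _ h' (cstr_del I.invol _ h') rfl rfl]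
    exact Yb_mem_Nt hk' _ _ _
  · obtain ⟨e', he⟩ := H.conj_t_Z hij t e
    rw [he]
    exact Z_mem_Nt _ _
  · rw [H.tb_T hk]
    exact T_mem_Nt _ _

/-- The Weyl element at `b` on the short root elements at `b`. -/
lemma wb_Z {i : ι} (hi : i ≠ b) (e : K) :
    M (Inc I hs hss wn) * zz lam (M.comp (Inc I hs hss)) a b hi e * (M (Inc I hs hss wn))⁻¹ = lam (TT hi (-e)) := by
  have h1 := H.toU.w_inv_T hi (-e)
  have e1 : muJ lam (M.comp (Inc I hs hss)) a b b wn = M (Inc I hs hss wn) := by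
    rw [muJ_b]
    rfl
  rw [e1, neg_neg] at h1
  rw [← h1]
  group

lemma conj_w_Nt {n : Γ} (hn : n ∈ Nt I hs hss lam M a b) :
    M (Inc I hs hss wn) * n * (M (Inc I hs hss wn))⁻¹ ∈ Nt I hs hss lam M a b := by
  refine conj_closure_mem _ ?_ hn
  rintro _ ((⟨k', hk, c, d, h', rfl⟩ | ⟨i, i', hij, e, rfl⟩) | ⟨k', hk, d, rfl⟩)
  · have hk' := Finset.ne_of_mem_erase hk
    rw [(H.comm_wb_MJ hk' _).eq, mul_inv_cancel_right]
    exact Yb_mem_Nt hk' _ _ _
  · by_cases h1 : i' = b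
    · subst h1
      rw [H.wb_Z hij]
      exact T_mem_Nt _ _
    by_cases h2 : i = b
    · subst h2
      rw [H.toU.zz_symm hij, H.wb_Z hij.symm]
      exact T_mem_Nt _ _
    · rw [(H.comm_Z_Mb hij h2 h1 e _).symm.eq, mul_inv_cancel_right]
      exact Z_mem_Nt _ _
  · have e1 : M (Inc I hs hss wn) * lam (TT hk d) * (M (Inc I hs hss wn))⁻¹ =
        zz lam (M.comp (Inc I hs hss)) a b hk d := by
      simp only [zz, muJ_b]
      rfl
    rw [e1]
    exact Z_mem_Nt _ _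

/-- The rank one group at `b` normalises `Nt`. -/
lemma conj_M_Nt (g : GG σ) {n : Γ} (hn : n ∈ Nt I hs hss lam M a b) :
    M g * n * (M g)⁻¹ ∈ Nt I hs hss lam M a b := by
  rcases Cfsg.Agent.Lib.PresSU3.bruhat I.invol g with ⟨α, β, h, t, rfl⟩ | ⟨α, β, h, t, α', β', h', rfl⟩
  · rw [map_mul, conj_conj]
    exact H.conj_q_Nt α β h (H.conj_t_Nt t hn)
  · rw [map_mul, map_mul, map_mul, ww_eq I hs hss, map_mul, conj_conj, conj_conj, conj_conj, conj_conj]
    exact H.conj_q_Nt α β h (H.conj_w_Nt (H.conj_t_Nt _ (H.conj_t_Nt t (H.conj_q_Nt α' β' h' hn))))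

/-- Moving the rank one group across the parabolic. -/
lemma M_Pt (g : GG σ) {p : Γ} (hp : p ∈ Pt I lam M) :
    ∃ p₁ ∈ Pt I lam M, ∃ (g' : GG σ) (l : SpecialLinearGroup ι K), M g * p = p₁ * M g' * lam l := by
  obtain ⟨q, hq, u, l, rfl⟩ := H.dec_Pt (a := a) (b := b) hp
  obtain ⟨n, hn, α, β, h, rfl⟩ := H.dec_Qt hq
  refine ⟨M g * n * (M g)⁻¹, H.Nt_le_Pt (H.conj_M_Nt g (NS_le_Nt hn)), g * qq I.invol α β h * ttG I.invol u, l, ?_⟩
  rw [map_mul, map_mul]
  group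

end OHyp0

end Cfsg.Agent.Lib.PresU
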