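import Cfsg.Agent.Lib.PresU.OClo

/-!
# The decomposition of the group into double cosets of the parabolic for `SU_{2n+1}`
-/

set_option autoImplicit false
set_option linter.unusedSectionVars false
set_option linter.unusedSimpArgs false
set_option linter.style.haveILetI false

namespace Cfsg.Agent.Lib.PresU

open Matrix Cfsg.Agent.Lib.PresSp.M2 Cfsg.Agent.Lib.PresSp.Mono Cfsg.Agent.Lib.PresSLn.TwoGen
open Cfsg.Agent.Lib.PresSp.Abs (sq_ind conj_comm conj_conj conj_one comm_conj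
  comm_of_conj A_zero A_neg act_of_sq act_pow comm_ext)
open Cfsg.Agent.Lib.PresSU3 (GG SUw fw qq ww GG_ext coe_qq coe_ww uM wM tM cstr_mul cstr_inv cstr_zero qq_mul qq_zero
  qq_inv qq_congr qq_inj ww_sq ww_inv mem_SUw)
open UHyp0 UHyp

variable {ι : Type*} [Fintype ι] [DecidableEq ι] {K : Type*} [Field K] {k : Type*} [Field k]
  {Γ : Type*} [Group Γ]
variable {a b : ι}

local notation "ttG" => Cfsg.Agent.Lib.PresSU3.tt

namespace OHyp0

variable [Finite K] [Finite k] {σ : K →+* K} {j : k →+* K} {I : Inv σ j} {s : K} {hs : s ≠ 0} {hss : σ s = -s}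
  {lam : SpecialLinearGroup ι K →* Γ} {M : GG σ →* Γ} {hab : a ≠ b} {ζ : Kˣ} {θ b₁ b₂ : K}
  {h₁ : b₁ + σ b₁ + 1 * σ 1 = 0} {h₂ : b₂ + σ b₂ + θ * σ θ = 0}
  (H : OHyp0 I hs hss lam M hab ζ h₁ h₂)
include H

/-- The Bruhat decomposition for a rank one group and a product of Weyl elements. -/
lemma MJ_nR (i : ι) (g : GG σ) {R : List ι} (hR : R.Nodup) :
    ∃ R' : List ι, R'.Nodup ∧ ∃ p₁ ∈ Pt I lam M, ∃ p₂ ∈ Pt I lam M,
      MJ lam M a b i g * nR lam (M.comp (Inc I hs hss)) a b R =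
        p₁ * nR lam (M.comp (Inc I hs hss)) a b R' * p₂ := by
  have key : ∀ (g : GG σ) {R : List ι}, R.Nodup → i ∉ R →
      ∃ R' : List ι, R'.Nodup ∧ ∃ p₁ ∈ Pt I lam M, ∃ p₂ ∈ Pt I lam M,
        MJ lam M a b i g * nR lam (M.comp (Inc I hs hss)) a b R =
          p₁ * nR lam (M.comp (Inc I hs hss)) a b R' * p₂ := by
    intro g R hR hj
    have hc : ∀ g', Commute (MJ lam M a b i g') (nR lam (M.comp (Inc I hs hss)) a b R) := by
      intro g'
      refine nR_comm_of fun m hm => (H.comm_w_MJ ?_ g').symm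
      rintro rfl
      exact hj hm
    rcases Cfsg.Agent.Lib.PresSU3.bruhat I.invol g with ⟨α, β, h, t, rfl⟩ | ⟨α, β, h, t, α', β', h', rfl⟩
    · refine ⟨R, hR, MJ lam M a b i (qq I.invol α β h * ttG I.invol t), ?_, 1, one_mem _, by rw [mul_one]⟩
      rw [map_mul]
      exact mul_mem (Y_mem_Pt _ _ _ _) (Jt_mem_Pt _ _)
    · refine ⟨i :: R, List.nodup_cons.2 ⟨hj, hR⟩, MJ lam M a b i (qq I.invol α β h), Y_mem_Pt _ _ _ _,
        MJ lam M a b i (ttG I.invol (sU hs) * ttG I.invol t * qq I.invol α' β' h'), ?_, ?_⟩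
      · rw [map_mul, map_mul]
        exact mul_mem (mul_mem (Jt_mem_Pt _ _) (Jt_mem_Pt _ _)) (Y_mem_Pt _ _ _ _)
      · rw [nR_cons]
        have e1 : muJ lam (M.comp (Inc I hs hss)) a b i wn = MJ lam M a b i (Inc I hs hss wn) := rfl
        rw [e1, ww_eq I hs hss]
        set x := ttG I.invol (sU hs) * ttG I.invol t * qq I.invol α' β' h' with hx
        have e2 : qq I.invol α β h * (Inc I hs hss wn * ttG I.invol (sU hs)) * ttG I.invol t * qq I.invol α' β' h' =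
            qq I.invol α β h * Inc I hs hss wn * x := by
          rw [hx]
          group
        rw [e2, map_mul, map_mul, mul_assoc, (hc x).eq]
        simp only [mul_assoc]
  by_cases hj : i ∈ R
  · have := key (g * Inc I hs hss wn) (hR.erase i) hR.not_mem_erase
    have e := H.toU.nR_erase (lam := lam) hj
    have e1 : muJ lam (M.comp (Inc I hs hss)) a b i wn = MJ lam M a b i (Inc I hs hss wn) := rfl
    rw [e1] at e
    rwa [map_mul, mul_assoc, ← e] at this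
  · exact key g hR hj

/-- The key step of the decomposition. -/
lemma M_lam_nR (g : GG σ) (l : SpecialLinearGroup ι K) {R : List ι} (hR : R.Nodup) :
    ∃ R' : List ι, R'.Nodup ∧ ∃ p₁ ∈ Pt I lam M, ∃ p₂ ∈ Pt I lam M,
      M g * lam l * nR lam (M.comp (Inc I hs hss)) a b R =
        p₁ * nR lam (M.comp (Inc I hs hss)) a b R' * p₂ := by
  -- the row
  set r : ι → K := Pi.single b 1 ᵥ* l.1 with hr
  have hr0 : r ≠ 0 := by
    intro h0
    have h1 : r ᵥ* (l⁻¹).1 = Pi.single b 1 := by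
      rw [hr, vecMul_vecMul, mul_inv_coe, vecMul_one]
    rw [h0, zero_vecMul] at h1
    have := congrFun h1 b
    simp at this
  obtain ⟨i, hj0, hjR⟩ : ∃ i, r i ≠ 0 ∧ ∀ k', r k' ≠ 0 → i ∉ R ∨ k' ∈ R := by
    by_cases hh : ∃ i, i ∉ R ∧ r i ≠ 0
    · obtain ⟨i, h1, h2⟩ := hh
      exact ⟨i, h2, fun k' _ => Or.inl h1⟩
    · obtain ⟨i, hj⟩ := Function.ne_iff.1 hr0
      refine ⟨i, hj, fun k' hk => Or.inr ?_⟩
      by_contra hkR
      exact hh ⟨k', hkR, hk⟩
  set c : Kˣ := Units.mk0 (r i) hj0 with hc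
  have hcv : (c : K) = r i := rfl
  set r' : ι → K := (r i)⁻¹ • r with hr'
  have hr'j : r' i = 1 := by
    simp only [hr', Pi.smul_apply, smul_eq_mul]
    exact inv_mul_cancel₀ hj0
  obtain ⟨l', hl'P, hl'⟩ := exists_row (j := i) r' hr'j (PR lam (M.comp (Inc I hs hss)) a b R) (by
    intro k' hk
    by_cases hrk : r k' = 0
    · have : r' k' = 0 := by simp [hr', hrk]
      rw [this]
      have e1 : SpecialLinearGroup.transvection hk (0 : K) = 1 := TT_zero hk
      rw [e1]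
      exact one_mem _
    · exact H.toU.conj_nR hk hR (hjR k' hrk) _)
  -- the row of `l l'⁻¹`
  have row1 : Pi.single b 1 ᵥ* (l * l'⁻¹).1 = (r i) • Pi.single i 1 := by
    have e1 : r = (r i) • (Pi.single i 1 ᵥ* l'.1) := by
      rw [hl', hr', smul_smul, mul_inv_cancel₀ hj0, one_smul]
    rw [coeM, ← vecMul_vecMul, ← hr]
    calc r ᵥ* (l'⁻¹).1 = ((r i) • (Pi.single i 1 ᵥ* l'.1)) ᵥ* (l'⁻¹).1 := by rw [← e1]
      _ = _ := by rw [smul_vecMul, vecMul_vecMul, mul_inv_coe, vecMul_one]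
  have hpj := mv_pj (F := K) hab i
  have row2 : Pi.single b 1 ᵥ* (l * l'⁻¹ * pj a b i).1 = (r i) • Pi.single b 1 := by
    rw [coeM, ← vecMul_vecMul, row1, smul_vecMul, hpj.row]
  have row3 : Pi.single b 1 ᵥ* (l * l'⁻¹ * pj a b i * tt hab c).1 = Pi.single b 1 := by
    rw [coeM, ← vecMul_vecMul, row2, smul_vecMul, coe_tt]
    ext m
    rw [Pi.smul_apply, smul_eq_mul, single_one_vecMul]
    by_cases hm : m = b
    · subst hm
      simp [td, hab.symm, ← hcv]
    · simp [hm, Ne.symm hm, diagonal_apply_ne]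
  set a₂ := l * l'⁻¹ * pj a b i * tt hab c with ha₂
  set cc : ι → K := a₂.1 *ᵥ Pi.single b 1 with hcc
  have hccb : cc b = 1 := by
    have h1 : cc b = a₂.1 b b := by
      rw [hcc, mulVec_single_one]
      rfl
    have h2 := congrFun row3 b
    rw [single_one_vecMul] at h2
    simpa [h1] using h2
  let P₂ : Subgroup (SpecialLinearGroup ι K) := (Nt I hs hss lam M a b).comap lam
  obtain ⟨v, hvP, hv1, hv2⟩ := exists_col (b := b) cc hccb P₂ (fun k' hk => T_mem_Nt hk _)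
  set th := v⁻¹ * a₂ with hθ
  have hθ1 : th.1 *ᵥ Pi.single b 1 = Pi.single b 1 := by
    rw [hθ, coeM, ← mulVec_mulVec, ← hcc, ← hv1, mulVec_mulVec, inv_mul_coe, one_mulVec]
  have hv3 : Pi.single b 1 ᵥ* (v⁻¹).1 = Pi.single b 1 := by
    nth_rewrite 1 [← hv2]
    rw [vecMul_vecMul, mul_inv_coe, vecMul_one]
  have hθ2 : Pi.single b 1 ᵥ* th.1 = Pi.single b 1 := by
    rw [hθ, coeM, ← vecMul_vecMul, hv3, row3]
  have hl : l = v * th * (tt hab c)⁻¹ * (pj a b i)⁻¹ * l' := by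
    rw [hθ, ha₂]
    group
  -- moving `M g` to the right
  have hth := H.theta th hθ1 hθ2
  have hnv : M g * lam v * (M g)⁻¹ ∈ Pt I lam M := H.Nt_le_Pt (H.conj_M_Nt g hvP)
  set g' := del I.invol c⁻¹ g with hg'
  have hS1 : M g * lam (tt hab c)⁻¹ = lam (tt hab c)⁻¹ * M g' := by
    rw [hg', ← H.tw_all c g, map_inv]
    group
  have hS2 : M g' * lam (pj a b i)⁻¹ = lam (pj a b i)⁻¹ * MJ lam M a b i g' := by
    rw [MJ_apply, map_inv]
    group
  obtain ⟨R', hR', p₁, hp₁, p₂, hp₂, e⟩ := H.MJ_nR i g' hR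
  have hl'2 : (nR lam (M.comp (Inc I hs hss)) a b R)⁻¹ * lam l' * nR lam (M.comp (Inc I hs hss)) a b R ∈ Pt I lam M :=
    Pp_le_Pt hl'P
  have hr2 : lam l' * nR lam (M.comp (Inc I hs hss)) a b R = nR lam (M.comp (Inc I hs hss)) a b R *
      ((nR lam (M.comp (Inc I hs hss)) a b R)⁻¹ * lam l' * nR lam (M.comp (Inc I hs hss)) a b R) := by
    group
  refine ⟨R', hR', (M g * lam v * (M g)⁻¹) * lam th * lam (tt hab c)⁻¹ * lam (pj a b i)⁻¹ * p₁, ?_,
    p₂ * ((nR lam (M.comp (Inc I hs hss)) a b R)⁻¹ * lam l' * nR lam (M.comp (Inc I hs hss)) a b R), mul_mem hp₂ hl'2, ?_⟩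
  · exact mul_mem (mul_mem (mul_mem (mul_mem hnv (lam_mem_Pt _)) (lam_mem_Pt _)) (lam_mem_Pt _)) hp₁
  · set nn := nR lam (M.comp (Inc I hs hss)) a b R with hnn
    set MM := M g * lam v * (M g)⁻¹ with hM
    set C := nn⁻¹ * lam l' * nn with hC
    calc M g * lam l * nn
        = MM * (M g * lam th) * lam (tt hab c)⁻¹ * lam (pj a b i)⁻¹ * lam l' * nn := by
          nth_rewrite 1 [hl]
          simp only [hM, map_mul]
          group
      _ = MM * lam th * (M g * lam (tt hab c)⁻¹) * lam (pj a b i)⁻¹ * lam l' * nn := by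
          rw [(hth g).symm.eq]
          group
      _ = MM * lam th * lam (tt hab c)⁻¹ * (M g' * lam (pj a b i)⁻¹) * lam l' * nn := by
          rw [hS1]
          group
      _ = MM * lam th * lam (tt hab c)⁻¹ * lam (pj a b i)⁻¹ * (MJ lam M a b i g' * (lam l' * nn)) := by
          rw [hS2]
          group
      _ = MM * lam th * lam (tt hab c)⁻¹ * lam (pj a b i)⁻¹ * (MJ lam M a b i g' * nn * C) := by
          rw [hr2, mul_assoc (MJ lam M a b i g')]
      _ = MM * lam th * lam (tt hab c)⁻¹ * lam (pj a b i)⁻¹ * (p₁ * nR lam (M.comp (Inc I hs hss)) a b R' * p₂ * C) := by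
          rw [e]
      _ = _ := by group

/-- The decomposition into double cosets of the parabolic. -/
theorem decompO (hgen : Subgroup.closure (Set.range lam ∪ Set.range M) = ⊤) (x : Γ) :
    ∃ R : List ι, R.Nodup ∧ ∃ p₁ ∈ Pt I lam M, ∃ p₂ ∈ Pt I lam M,
      x = p₁ * nR lam (M.comp (Inc I hs hss)) a b R * p₂ := by
  have step : ∀ x ∈ (Set.range lam ∪ Set.range M : Set Γ), ∀ y : Γ,
      (∃ R : List ι, R.Nodup ∧ ∃ p₁ ∈ Pt I lam M, ∃ p₂ ∈ Pt I lam M,
        y = p₁ * nR lam (M.comp (Inc I hs hss)) a b R * p₂) →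
      ∃ R : List ι, R.Nodup ∧ ∃ p₁ ∈ Pt I lam M, ∃ p₂ ∈ Pt I lam M,
        x * y = p₁ * nR lam (M.comp (Inc I hs hss)) a b R * p₂ := by
    rintro x hx y ⟨R, hR, p₁, hp₁, p₂, hp₂, rfl⟩
    rcases hx with ⟨l, rfl⟩ | ⟨g, rfl⟩
    · exact ⟨R, hR, lam l * p₁, mul_mem (lam_mem_Pt l) hp₁, p₂, hp₂, by group⟩
    · obtain ⟨p, hp, g', l, e1⟩ := H.M_Pt g hp₁
      obtain ⟨R', hR', p', hp', p'', hp'', e2⟩ := H.M_lam_nR g' l hR
      refine ⟨R', hR', p * p', mul_mem hp hp', p'' * p₂, mul_mem hp'' hp₂, ?_⟩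
      calc M g * (p₁ * nR lam (M.comp (Inc I hs hss)) a b R * p₂)
          = (M g * p₁) * nR lam (M.comp (Inc I hs hss)) a b R * p₂ := by group
        _ = p * (M g' * lam l * nR lam (M.comp (Inc I hs hss)) a b R) * p₂ := by rw [e1]; group
        _ = _ := by rw [e2]; group
  have hx : x ∈ Subgroup.closure (Set.range lam ∪ Set.range M : Set Γ) := by
    rw [hgen]
    trivial
  induction hx using Subgroup.closure_induction_left with
  | one => exact ⟨[], List.nodup_nil, 1, one_mem _, 1, one_mem _, by simp [nR_nil]⟩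
  | mul_left x hx y _ ih => exact step x hx y ih
  | inv_mul_cancel x hx y _ ih =>
    refine step x⁻¹ ?_ y ih
    rcases hx with ⟨l, rfl⟩ | ⟨g, rfl⟩
    · exact Or.inl ⟨l⁻¹, map_inv _ _⟩
    · exact Or.inr ⟨g⁻¹, map_inv _ _⟩

end OHyp0

end Cfsg.Agent.Lib.PresU
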