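import Cfsg.Agent.Lib.PresU.Even
import Cfsg.Agent.Lib.PresSU3.Iso

/-!
# The rank one group `SU₃`: twists, the embedding of `SL₂`, and generation of the unipotent group
-/

set_option autoImplicit false
set_option linter.unusedSectionVars false
set_option linter.unusedSimpArgs false
set_option linter.style.haveILetI false

namespace Cfsg.Agent.Lib.PresU

open Matrix
open Cfsg.Agent.Lib.PresSp.M2 (M2 uu ll dd wn coe_uu coe_ll coe_dd coe_wn uu_add ll_add)
open Cfsg.Agent.Lib.PresSU3 (GG SUw fw qq ww GG_ext coe_qq coe_ww uM wM tM cstr_mul cstr_inv cstr_zero qq_mul qq_zero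
  qq_inv qq_congr ww_sq ww_inv mem_SUw)

variable {K : Type*} [Field K] {k : Type*} [Field k] {σ : K →+* K} {j : k →+* K}

local notation "ttG" => Cfsg.Agent.Lib.PresSU3.tt

section del

variable (σ) in
/-- The diagonal matrices giving the twists. -/
def Dm (u : Kˣ) : Matrix (Fin 3) (Fin 3) K := !![(u : K), 0, 0; 0, 1, 0; 0, 0, (σ (u : K))⁻¹]

lemma Dm_apply (u : Kˣ) (x : Fin 3 → K) : Dm σ u *ᵥ x = ![u * x 0, x 1, (σ (u : K))⁻¹ * x 2] := by
  ext i
  fin_cases i <;> simp [Dm, mulVec, dotProduct, Fin.sum_univ_three]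

lemma Dm_mul (u v : Kˣ) : Dm σ u * Dm σ v = Dm σ (u * v) := by
  have h0 := (map_ne_zero σ).2 u.ne_zero
  have h1 := (map_ne_zero σ).2 v.ne_zero
  ext i l
  fin_cases i <;> fin_cases l <;> simp [Dm, Matrix.mul_apply, Fin.sum_univ_three] <;> try ring

lemma Dm_one : Dm σ (1 : Kˣ) = 1 := by
  ext i l
  fin_cases i <;> fin_cases l <;> simp [Dm]

lemma Dm_inv_mul (u : Kˣ) : Dm σ u⁻¹ * Dm σ u = 1 := by
  rw [Dm_mul, inv_mul_cancel, Dm_one]

lemma Dm_mul_inv (u : Kˣ) : Dm σ u * Dm σ u⁻¹ = 1 := by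
  rw [Dm_mul, mul_inv_cancel, Dm_one]

lemma det_Dm (u : Kˣ) : (Dm σ u).det * (Dm σ u⁻¹).det = 1 := by
  rw [← det_mul, Dm_mul_inv, det_one]

variable (hσ : ∀ x, σ (σ x) = x)

include hσ in
lemma fw_Dm (u : Kˣ) (x y : Fin 3 → K) : fw σ (Dm σ u *ᵥ x) (Dm σ u *ᵥ y) = fw σ x y := by
  have h0 := u.ne_zero
  have h1 := (map_ne_zero σ).2 h0
  rw [Dm_apply, Dm_apply]
  simp only [fw, map_mul, map_inv₀, hσ, cons_val_zero, cons_val_one, cons_val]
  field_simp

/-- The twist of a matrix. -/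
def delM (σ : K →+* K) (u : Kˣ) (A : Matrix (Fin 3) (Fin 3) K) : Matrix (Fin 3) (Fin 3) K :=
  Dm σ u * A * Dm σ u⁻¹

lemma delM_mul (u : Kˣ) (A B : Matrix (Fin 3) (Fin 3) K) : delM σ u (A * B) = delM σ u A * delM σ u B := by
  have : Dm σ u * A * Dm σ u⁻¹ * (Dm σ u * B * Dm σ u⁻¹) = Dm σ u * A * (Dm σ u⁻¹ * Dm σ u) * B * Dm σ u⁻¹ := by
    simp only [Matrix.mul_assoc]
  rw [delM, delM, delM, this, Dm_inv_mul]
  simp only [Matrix.mul_assoc, Matrix.mul_one]

/-- The twist, as an endomorphism of the unitary group. -/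
def del (u : Kˣ) : GG σ →* GG σ where
  toFun g := ⟨⟨delM σ u g.1.1, by
      rw [delM, det_mul, det_mul, mul_comm, ← mul_assoc, mul_comm _ (Dm σ u).det, det_Dm, one_mul]
      exact g.1.2⟩, by
      intro x y
      change fw σ (delM σ u g.1.1 *ᵥ x) (delM σ u g.1.1 *ᵥ y) = fw σ x y
      have e : ∀ z, delM σ u g.1.1 *ᵥ z = Dm σ u *ᵥ (g.1.1 *ᵥ (Dm σ u⁻¹ *ᵥ z)) := by
        intro z
        rw [delM, mulVec_mulVec, mulVec_mulVec, Matrix.mul_assoc]
      have e2 : fw σ (g.1.1 *ᵥ (Dm σ u⁻¹ *ᵥ x)) (g.1.1 *ᵥ (Dm σ u⁻¹ *ᵥ y)) =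
          fw σ (Dm σ u⁻¹ *ᵥ x) (Dm σ u⁻¹ *ᵥ y) := g.2 _ _
      rw [e, e, fw_Dm hσ, e2, fw_Dm hσ]⟩
  map_one' := by
    apply GG_ext
    change delM σ u 1 = 1
    rw [delM, Matrix.mul_one, Dm_mul_inv]
  map_mul' g h := by
    apply GG_ext
    exact delM_mul u _ _

lemma coe_del (u : Kˣ) (g : GG σ) : (del hσ u g).1.1 = Dm σ u * g.1.1 * Dm σ u⁻¹ := rfl

lemma del_mul (u v : Kˣ) (g : GG σ) : del hσ (u * v) g = del hσ u (del hσ v g) := by
  apply GG_ext
  rw [coe_del, coe_del, coe_del, ← Dm_mul, _root_.mul_inv_rev, ← Dm_mul]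
  simp only [Matrix.mul_assoc]

lemma del_one (g : GG σ) : del hσ (1 : Kˣ) g = g := by
  apply GG_ext
  rw [coe_del, inv_one, Dm_one, Matrix.mul_one, Matrix.one_mul]

lemma del_inv_del (u : Kˣ) (g : GG σ) : del hσ u⁻¹ (del hσ u g) = g := by
  rw [← del_mul, inv_mul_cancel, del_one]

lemma del_del_inv (u : Kˣ) (g : GG σ) : del hσ u (del hσ u⁻¹ g) = g := by
  rw [← del_mul, mul_inv_cancel, del_one]

lemma del_comm (u v : Kˣ) (g : GG σ) : del hσ u (del hσ v g) = del hσ v (del hσ u g) := by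
  rw [← del_mul, ← del_mul, mul_comm]

/-- The twist of a unipotent element. -/
lemma del_qq (u : Kˣ) {a b a' b' : K} (h : b + σ b + a * σ a = 0) (h' : b' + σ b' + a' * σ a' = 0)
    (ea : a' = u * a) (eb : b' = u * σ u * b) : del hσ u (qq hσ a b h) = qq hσ a' b' h' := by
  have h0 := u.ne_zero
  have h1 := (map_ne_zero σ).2 h0
  apply GG_ext
  rw [coe_del, coe_qq, coe_qq, ea, eb]
  ext i l
  fin_cases i <;> fin_cases l <;> simp [Dm, uM, Matrix.mul_apply, Fin.sum_univ_three, h0, h1]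
  · ring
  · field_simp

/-- The twist fixes the torus. -/
lemma del_tt (u t : Kˣ) : del hσ u (ttG hσ t) = ttG hσ t := by
  have h0 := u.ne_zero
  have h1 := (map_ne_zero σ).2 h0
  apply GG_ext
  rw [coe_del, Cfsg.Agent.Lib.PresSU3.coe_tt]
  ext i l
  fin_cases i <;> fin_cases l <;> simp [Dm, tM, Matrix.mul_apply, Fin.sum_univ_three, h0, h1] <;> field_simp

include hσ in
/-- The constraint for a unipotent element is preserved by the twist. -/
lemma cstr_del (u : K) {a b : K} (h : b + σ b + a * σ a = 0) :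
    u * σ u * b + σ (u * σ u * b) + (u * a) * σ (u * a) = 0 := by
  simp only [map_mul, hσ]
  linear_combination (u * σ u) * h

end del

section inc

variable (I : Inv σ j) {s : K} (hs : s ≠ 0) (hss : σ s = -s)

/-- The matrices for the embedding. -/
def incM (j : k →+* K) (s : K) (g : M2 k) : Matrix (Fin 3) (Fin 3) K :=
  !![j (g.1 0 0), 0, j (g.1 0 1) * s; 0, 1, 0; j (g.1 1 0) * s⁻¹, 0, j (g.1 1 1)]

lemma incM_apply (s : K) (g : M2 k) (x : Fin 3 → K) :
    incM j s g *ᵥ x = ![j (g.1 0 0) * x 0 + j (g.1 0 1) * s * x 2, x 1, j (g.1 1 0) * s⁻¹ * x 0 + j (g.1 1 1) * x 2] := by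
  ext i
  fin_cases i <;> simp [incM, mulVec, dotProduct, Fin.sum_univ_three]

lemma M2_det (g : M2 k) : g.1 0 0 * g.1 1 1 - g.1 0 1 * g.1 1 0 = 1 := by
  have := g.2
  rwa [det_fin_two] at this

lemma j_det (g : M2 k) : j (g.1 0 0) * j (g.1 1 1) - j (g.1 0 1) * j (g.1 1 0) = 1 := by
  rw [← map_mul, ← map_mul, ← map_sub, M2_det, map_one]

include hs in
lemma det_incM (g : M2 k) : (incM j s g).det = 1 := by
  rw [det_fin_three]
  simp only [incM, of_apply, cons_val_zero, cons_val_one, cons_val]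
  have h := j_det (j := j) g
  have e : j (g.1 0 1) * s * (j (g.1 1 0) * s⁻¹) = j (g.1 0 1) * j (g.1 1 0) := by
    field_simp
  linear_combination h - e

include I hs hss in
lemma fw_incM (g : M2 k) (x y : Fin 3 → K) : fw σ (incM j s g *ᵥ x) (incM j s g *ᵥ y) = fw σ x y := by
  rw [incM_apply, incM_apply]
  have h := j_det (j := j) g
  have hsi : σ s⁻¹ = -s⁻¹ := by rw [map_inv₀, hss, inv_neg]
  simp only [fw, map_add, map_mul, I.fix, hss, hsi, cons_val_zero, cons_val_one, cons_val]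
  field_simp
  linear_combination (x 0 * σ (y 2) * s + x 2 * σ (y 0) * s) * h

include hs in
lemma incM_mul (g g' : M2 k) : incM j s (g * g') = incM j s g * incM j s g' := by
  have e : ∀ x y, (g * g').1 x y = g.1 x 0 * g'.1 0 y + g.1 x 1 * g'.1 1 y := by
    intro x y
    rw [Cfsg.Agent.Lib.PresSp.M2.coe_mul, mul_apply, Fin.sum_univ_two]
  ext r t
  fin_cases r <;> fin_cases t <;>
    simp [incM, Matrix.mul_apply, Fin.sum_univ_three, e] <;> field_simp

/-- The embedding of `SL₂` of the fixed field. -/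
def Inc : M2 k →* GG σ where
  toFun g := ⟨⟨incM j s g, det_incM hs g⟩, fw_incM I hs hss g⟩
  map_one' := by
    apply GG_ext
    change incM j s 1 = 1
    ext r t
    fin_cases r <;> fin_cases t <;> simp [incM]
  map_mul' g g' := by
    apply GG_ext
    exact incM_mul hs g g'

lemma coe_Inc (g : M2 k) : (Inc I hs hss g).1.1 = incM j s g := rfl

include I hss in
/-- The constraint for `uu`. -/
lemma cstr_uu (d : k) : j d * s + σ (j d * s) + 0 * σ 0 = 0 := by
  rw [map_mul, I.fix, hss]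
  ring

lemma Inc_uu (d : k) : Inc I hs hss (uu d) = qq I.invol 0 (j d * s) (cstr_uu I hss d) := by
  apply GG_ext
  rw [coe_Inc, coe_qq]
  ext r t
  fin_cases r <;> fin_cases t <;> simp [incM, uM, coe_uu]

lemma Inc_dd (u : kˣ) : Inc I hs hss (dd u) = ttG I.invol (jU j u) := by
  apply GG_ext
  rw [coe_Inc, Cfsg.Agent.Lib.PresSU3.coe_tt]
  have h0 : j (u : k) ≠ 0 := (map_ne_zero j).2 u.ne_zero
  ext r t
  fin_cases r <;> fin_cases t <;> simp [incM, tM, coe_dd, I.fix, h0, map_inv₀]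

/-- The element `s⁻¹` as a unit. -/
def sU (hs : s ≠ 0) : Kˣ := Units.mk0 s hs

lemma Inc_wn : Inc I hs hss wn = ww σ * ttG I.invol (sU hs)⁻¹ := by
  apply GG_ext
  change incM j s wn = (wM : Matrix _ _ K) * tM σ ((sU hs)⁻¹ : Kˣ)
  have hs' : (((sU hs)⁻¹ : Kˣ) : K) = s⁻¹ := by simp [sU]
  ext r t
  fin_cases r <;> fin_cases t <;>
    simp [incM, tM, wM, coe_wn, Matrix.mul_apply, Fin.sum_univ_three, hs', map_inv₀, hss, hs]

lemma ww_eq : ww σ = Inc I hs hss wn * ttG I.invol (sU hs) := by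
  rw [Inc_wn, mul_assoc, Cfsg.Agent.Lib.PresSU3.tt_mul, inv_mul_cancel, Cfsg.Agent.Lib.PresSU3.tt_one, mul_one]

/-- The twist on the image of the embedding. -/
lemma del_Inc (u : Kˣ) (g : M2 k) : del I.invol u (Inc I hs hss g) = Inc I hs hss (tw (I.nU u) g) := by
  have h0 := u.ne_zero
  have h1 := (map_ne_zero σ).2 h0
  apply GG_ext
  rw [coe_del, coe_Inc, coe_Inc]
  have e1 : j ((I.nU u : kˣ) : k) = (u : K) * σ u := I.j_nU u
  have e2 : j (((I.nU u)⁻¹ : kˣ) : k) = ((u : K) * σ u)⁻¹ := I.j_nU_inv u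
  ext r t
  fin_cases r <;> fin_cases t <;>
    simp [incM, tw, Dm, Matrix.mul_apply, Fin.sum_univ_three, e1, e2, h0, h1, map_inv₀, I.j_nm] <;> field_simp

lemma tw_one (g : M2 k) : tw 1 g = g := by
  apply Subtype.ext
  ext x y
  fin_cases x <;> fin_cases y <;> simp [tw]

/-- The twist by a norm one element is trivial on the image of the embedding. -/
lemma del_Inc_of_nm {u : Kˣ} (hu : (u : K) * σ u = 1) (g : M2 k) :
    del I.invol u (Inc I hs hss g) = Inc I hs hss g := by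
  rw [del_Inc]
  have : I.nU u = 1 := by
    apply Units.ext
    apply j.injective
    rw [I.j_nU, hu]
    simp
  rw [this, tw_one]

end inc

section gen

variable [Finite K] (hσ : ∀ x, σ (σ x) = x)

instance instFiniteGG : Finite (GG σ) :=
  Finite.of_injective (fun g : GG σ => g.1.1) (fun _ _ h => GG_ext h)

/-- The anti-invariant elements are differences. -/
lemma exists_diff (I : Inv σ j) {θ : K} (hθ : σ θ ≠ θ) {d : K} (hd : d + σ d = 0) : ∃ v, d = v - σ v := by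
  have h0 : θ - σ θ ≠ 0 := sub_ne_zero.2 (Ne.symm hθ)
  have hs : σ (θ - σ θ) = -(θ - σ θ) := by
    rw [map_sub, I.invol]
    ring
  have hsd : σ d = -d := by linear_combination hd
  obtain ⟨r, hr⟩ := I.surj (d / (θ - σ θ)) (by
    rw [map_div₀, hs, hsd, neg_div_neg_eq])
  refine ⟨j r * θ, ?_⟩
  rw [map_mul, I.fix, ← mul_sub, hr]
  field_simp

/-- A property of elements of the group closed under products, holding for elements with any first
coordinate, holds for all unipotent elements. -/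
lemma Qgen₀ (I : Inv σ j) {θ : K} (hθ : σ θ ≠ θ) {P : GG σ → Prop} (hmul : ∀ x y, P x → P y → P (x * y))
    (hA : ∀ a, ∃ b, ∃ h : b + σ b + a * σ a = 0, P (qq I.invol a b h)) :
    ∀ a b, ∀ h : b + σ b + a * σ a = 0, P (qq I.invol a b h) := by
  have hσ := I.invol
  have hpow : ∀ (x : GG σ) (n : ℕ), P x → P (x ^ (n + 1)) := by
    intro x n hx
    induction n with
    | zero => simpa using hx
    | succ n ih =>
      rw [pow_succ]
      exact hmul _ _ ih hx
  have hinv : ∀ x : GG σ, P x → P x⁻¹ := by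
    intro x hx
    obtain ⟨n, hn, hn1⟩ := isOfFinOrder_iff_pow_eq_one.1 (isOfFinOrder_of_finite x)
    have e : x⁻¹ = x ^ (n + n - 1) := by
      have e1 : x ^ (n + n - 1) * x = 1 := by
        rw [← pow_succ, show n + n - 1 + 1 = n + n by omega, pow_add, hn1, one_mul]
      exact (eq_inv_of_mul_eq_one_left e1).symm
    rw [e, show n + n - 1 = (n + n - 2) + 1 by omega]
    exact hpow _ _ hx
  have hZ : ∀ d, ∀ h : d + σ d + 0 * σ 0 = 0, P (qq hσ 0 d h) := by
    intro d h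
    have hd : d + σ d = 0 := by simpa using h
    obtain ⟨v, rfl⟩ := exists_diff I hθ hd
    obtain ⟨b₁, h₁, p₁⟩ := hA 1
    obtain ⟨b₂, h₂, p₂⟩ := hA v
    have h₁' : b₁ + σ b₁ + 1 = 0 := by simpa using h₁
    have e : qq hσ 0 (v - σ v) h = qq hσ 1 b₁ h₁ * qq hσ v b₂ h₂ * (qq hσ 1 b₁ h₁)⁻¹ * (qq hσ v b₂ h₂)⁻¹ := by
      rw [qq_inv, qq_inv, qq_mul, qq_mul, qq_mul]
      refine qq_congr hσ _ (by ring) ?_
      simp only [map_neg, map_add, map_sub, map_mul, map_one, hσ]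
      linear_combination (-1 : K) * h₁' - h₂
    rw [e]
    exact hmul _ _ (hmul _ _ (hmul _ _ p₁ p₂) (hinv _ p₁)) (hinv _ p₂)
  intro a b h
  obtain ⟨b', h', p⟩ := hA a
  have hd : (b - b') + σ (b - b') + 0 * σ 0 = 0 := by
    rw [map_sub]
    linear_combination h - h'
  have e : qq hσ a b h = qq hσ a b' h' * qq hσ 0 (b - b') hd := by
    rw [qq_mul]
    refine qq_congr hσ _ (by ring) ?_
    rw [map_zero]
    ring
  rw [e]
  exact hmul _ _ p (hZ _ _)

/-- A property of elements closed under products and scaling by the fixed field, holding for two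
elements with independent first coordinates, holds for all unipotent elements. -/
lemma Qgen (I : Inv σ j) {θ b₁ b₂ : K} (hθ : σ θ ≠ θ) (h₁ : b₁ + σ b₁ + 1 * σ 1 = 0)
    (h₂ : b₂ + σ b₂ + θ * σ θ = 0) {P : GG σ → Prop} (hmul : ∀ x y, P x → P y → P (x * y))
    (hS : ∀ (u : kˣ) (x : GG σ), P x → P (del I.invol (jU j u) x))
    (p₁ : P (qq I.invol 1 b₁ h₁)) (p₂ : P (qq I.invol θ b₂ h₂)) :
    ∀ a b, ∀ h : b + σ b + a * σ a = 0, P (qq I.invol a b h) := by
  have hσ := I.invol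
  have h00 : ∃ n : ℕ, 0 < n ∧ qq hσ 1 b₁ h₁ ^ n = 1 := isOfFinOrder_iff_pow_eq_one.1 (isOfFinOrder_of_finite _)
  have hone : P 1 := by
    obtain ⟨n, hn, e⟩ := h00
    have hpow : ∀ m : ℕ, P (qq hσ 1 b₁ h₁ ^ (m + 1)) := by
      intro m
      induction m with
      | zero => simpa using p₁
      | succ m ih =>
        rw [pow_succ]
        exact hmul _ _ ih p₁
    rw [← e, show n = (n - 1) + 1 by omega]
    exact hpow _
  have hq0 : qq hσ 0 0 cstr_zero = (1 : GG σ) := qq_zero hσ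
  refine Qgen₀ I hθ hmul ?_
  intro a
  obtain ⟨u, v, rfl⟩ := I.span2 hθ a
  have hU : ∀ u : k, ∃ b, ∃ h : b + σ b + (j u * 1) * σ (j u * 1) = 0, P (qq hσ (j u * 1) b h) := by
    intro u
    by_cases hu : u = 0
    · subst hu
      refine ⟨0, by simp, ?_⟩
      rw [qq_congr hσ (a' := 0) (b' := 0) (by simp) (by simp) rfl, qq_zero]
      exact hone
    · let U : kˣ := Units.mk0 u hu
      have hc := cstr_del hσ (j u) h₁
      refine ⟨_, hc, ?_⟩
      have := hS U _ p₁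
      rwa [del_qq hσ (jU j U) h₁ hc rfl rfl] at this
  have hV : ∀ u : k, ∃ b, ∃ h : b + σ b + (j u * θ) * σ (j u * θ) = 0, P (qq hσ (j u * θ) b h) := by
    intro u
    by_cases hu : u = 0
    · subst hu
      refine ⟨0, by simp, ?_⟩
      rw [qq_congr hσ (a' := 0) (b' := 0) (by simp) (by simp) rfl, qq_zero]
      exact hone
    · let U : kˣ := Units.mk0 u hu
      have hc := cstr_del hσ (j u) h₂
      refine ⟨_, hc, ?_⟩
      have := hS U _ p₂
      rwa [del_qq hσ (jU j U) h₂ hc rfl rfl] at this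
  obtain ⟨b₃, h₃, p₃⟩ := hU u
  obtain ⟨b₄, h₄, p₄⟩ := hV v
  have hc := cstr_mul hσ h₃ h₄
  have e := qq_mul hσ h₃ h₄
  have ea : j u * 1 + j v * θ = j u + j v * θ := by ring
  refine ⟨b₃ + b₄ - j u * 1 * σ (j v * θ), by rw [← ea]; exact hc, ?_⟩
  have := hmul _ _ p₃ p₄
  rw [e] at this
  rwa [qq_congr hσ hc ea rfl] at this

end gen

end Cfsg.Agent.Lib.PresU
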