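import Cfsg.Agent.Lib.PresU.OTgt
import Cfsg.Agent.Lib.PresU.Inj

/-!
# Injectivity of the map to the unitary group in odd degree
-/

set_option autoImplicit false
set_option linter.unusedSectionVars false
set_option linter.unusedSimpArgs false
set_option linter.style.haveILetI false

namespace Cfsg.Agent.Lib.PresU

open Matrix Cfsg.Agent.Lib.PresSp.M2 Cfsg.Agent.Lib.PresSp.Mono Cfsg.Agent.Lib.PresSLn.TwoGen
open Cfsg.Agent.Lib.PresSp.Tgt (sj sj_mul sj_add sj_zero sj_tr sj_ne sj_sub one_sj_mul one_sj_mul_sj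
  sj_mul_one_sj upM upM_mul upM_zero tt_coe_eq single_neg')
open Cfsg.Agent.Lib.PresSp.Inj (ne_of_ord mid_eq det_D)
open Cfsg.Agent.Lib.PresSU3 (GG SUw fw qq ww GG_ext coe_qq coe_ww uM wM tM cstr_mul cstr_inv cstr_zero qq_mul qq_zero
  qq_inv qq_congr qq_inj ww_sq ww_inv mem_SUw)
open UHyp0 UHyp

variable {ι : Type*} [Fintype ι] [DecidableEq ι] {K : Type*} [Field K] {k : Type*} [Field k]
  {Γ : Type*} [Group Γ]
variable {σ : K →+* K} {j : k →+* K} {a b : ι}

local notation "ttG" => Cfsg.Agent.Lib.PresSU3.tt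

/-- Preserving the span of the `e_i`. -/
def PO (M : Matrix (Io ι) (Io ι) K) : Prop :=
  (∀ r t, M (Sum.inl (Sum.inr r)) (Sum.inl (Sum.inl t)) = 0) ∧ ∀ t, M (Sum.inr ()) (Sum.inl (Sum.inl t)) = 0

lemma PO.mul {M N : Matrix (Io ι) (Io ι) K} (hM : PO M) (hN : PO N) : PO (M * N) := by
  obtain ⟨h1, h2⟩ := hM
  obtain ⟨h3, h4⟩ := hN
  constructor
  · intro r t
    rw [Matrix.mul_apply, Fintype.sum_sum_type, Fintype.sum_sum_type]
    simp [h1, h3, h4]
  · intro t
    rw [Matrix.mul_apply, Fintype.sum_sum_type, Fintype.sum_sum_type]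
    simp [h2, h3, h4]

lemma PO.one : PO (1 : Matrix (Io ι) (Io ι) K) := by
  constructor <;> intros <;> simp

/-- The subgroup of elements mapped to matrices in the parabolic, with their inverses. -/
def POs (φ : Γ →* Matrix (Io ι) (Io ι) K) : Subgroup Γ where
  carrier := {x | PO (φ x) ∧ PO (φ x⁻¹)}
  mul_mem' := by
    rintro x y ⟨h1, h2⟩ ⟨h3, h4⟩
    refine ⟨by rw [map_mul]; exact h1.mul h3, ?_⟩
    rw [_root_.mul_inv_rev, map_mul]
    exact h4.mul h2
  one_mem' := by
    refine ⟨?_, ?_⟩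
    · rw [map_one]
      exact PO.one
    · rw [inv_one, map_one]
      exact PO.one
  inv_mem' := by
    rintro x ⟨h1, h2⟩
    refine ⟨h2, ?_⟩
    rwa [inv_inv]

lemma PO_lev (l : SpecialLinearGroup ι K) : PO (levO σ l) := by
  constructor <;> intros <;> simp [levO, ex, levM]

lemma PO_Up (A : ι → K) (S : Matrix ι ι K) : PO (Up σ A S) := by
  constructor <;> intros <;> simp [Up, upM, rowM]

lemma PO_tM (i : ι) (t : K) : PO (MOm i (tM σ t)) := by
  constructor <;> intros <;> simp [MOm_tM]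

lemma PO_ex_PB {M : Matrix (ι ⊕ ι) (ι ⊕ ι) K} (h : PO (ex M)) : PB M := by
  ext r t
  exact h.1 r t

lemma Up_inj {A A' : ι → K} {S S' : Matrix ι ι K} (h : Up σ A S = Up σ A' S') : A = A' ∧ S = S' := by
  constructor
  · funext r
    have := congrFun (congrFun h (Sum.inl (Sum.inl r))) (Sum.inr ())
    simpa [Up, colM] using this
  · ext r t
    have := congrFun (congrFun h (Sum.inl (Sum.inl r))) (Sum.inl (Sum.inr t))
    simpa [Up, upM] using this

/-- Reading off the image of a conjugate under a homomorphism to matrices. -/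
lemma phiO_conj (φ : Γ →* Matrix (Io ι) (Io ι) K) {x y : Γ} {z : Matrix (Io ι) (Io ι) K}
    (h : φ x * φ y = z * φ x) : φ (x * y * x⁻¹) = z := by
  have h1 : φ x * φ x⁻¹ = 1 := by
    rw [← map_mul, mul_inv_cancel, map_one]
  rw [map_mul, map_mul, h, mul_assoc, h1, mul_one]

/-- The block on the span of the `e_i`. -/
def eeB (M : Matrix (Io ι) (Io ι) K) : Matrix ι ι K := of fun r t => M (Sum.inl (Sum.inl r)) (Sum.inl (Sum.inl t))

lemma eeB_mul (M : Matrix (Io ι) (Io ι) K) {N : Matrix (Io ι) (Io ι) K} (hN : PO N) : eeB (M * N) = eeB M * eeB N := by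
  obtain ⟨h3, h4⟩ := hN
  ext r t
  simp only [eeB, of_apply]
  rw [Matrix.mul_apply, Matrix.mul_apply, Fintype.sum_sum_type, Fintype.sum_sum_type]
  simp [h3, h4, eeB]

lemma eeB_Up (A : ι → K) (S : Matrix ι ι K) : eeB (Up σ A S) = 1 := by
  ext r t
  simp [eeB, Up, upM]

lemma eeB_lev (l : SpecialLinearGroup ι K) : eeB (levO σ l) = l.1 := by
  ext r t
  rfl

lemma eeB_tM (i : ι) (t : K) : eeB (MOm i (tM σ t)) = 1 + sj i (t - 1) := by
  ext r x
  simp [eeB, MOm_tM]

/-- The extension as a homomorphism. -/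
def exM (ι : Type*) [Fintype ι] [DecidableEq ι] (K : Type*) [Field K] :
    Matrix (ι ⊕ ι) (ι ⊕ ι) K →* Matrix (Io ι) (Io ι) K where
  toFun := ex
  map_one' := ex_one
  map_mul' := ex_mul

namespace OHyp0

variable [Finite K] [Finite k] {I : Inv σ j} {s : K} {hs : s ≠ 0} {hss : σ s = -s}
  {lam : SpecialLinearGroup ι K →* Γ} {M : GG σ →* Γ} {hab : a ≠ b} {ζ : Kˣ} {θ b₁ b₂ : K}
  {h₁ : b₁ + σ b₁ + 1 * σ 1 = 0} {h₂ : b₂ + σ b₂ + θ * σ θ = 0}
  (H : OHyp0 I hs hss lam M hab ζ h₁ h₂)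
  (φ : Γ →* Matrix (Io ι) (Io ι) K)
  (h1 : ∀ l, φ (lam l) = levO σ l) (h2 : ∀ g, φ (M g) = MOm b g.1.1)
include H h1 h2

lemma phi_MJ (i : ι) (g : GG σ) : φ (MJ lam M a b i g) = MOm i g.1.1 := by
  rw [MJ_apply]
  apply phiO_conj
  rw [h1, h2]
  have h := lev_MO (σ := σ) I.invol (Mu.of_Mv (mv_pj (F := K) hab i) (u := 1) (by simp)) g
  rw [del_one] at h
  exact h

lemma phi_Y (i : ι) (α β : K) (h : β + σ β + α * σ α = 0) :
    φ (MJ lam M a b i (qq I.invol α β h)) = Up σ (Pi.single i α) (single i i β) := by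
  rw [H.phi_MJ φ h1 h2]
  exact MOm_uM i α β

lemma phi_muJ (i : ι) (g : M2 k) :
    φ (muJ lam (M.comp (Inc I hs hss)) a b i g) = ex (lgM j s i g) := by
  have := H.phi_MJ φ h1 h2 i (Inc I hs hss g)
  rw [coe_Inc, MOm_incM] at this
  exact this

lemma phi_yy (i : ι) (d : k) : φ (yy lam (M.comp (Inc I hs hss)) a b i d) = ex (upM (sj i (j d * s))) := by
  rw [yy, H.phi_muJ φ h1 h2, lgM_uu]

lemma phi_zz {i i' : ι} (h : i ≠ i') (c : K) :
    φ (zz lam (M.comp (Inc I hs hss)) a b h c) = ex (upM (single i i' (c * s) + single i' i (σ c * s))) := by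
  rw [zz]
  apply phiO_conj
  rw [H.phi_muJ φ h1 h2, h1, levO, ← ex_mul, ← ex_mul]
  congr 1
  exact lg_wn_T hs h c

lemma phi_nR (R : List ι) : φ (nR lam (M.comp (Inc I hs hss)) a b R) = ex (nM j s R) := by
  induction R with
  | nil => simp [nR, nM, ex_one]
  | cons i R ih =>
    rw [nR_cons, map_mul, ih, H.phi_muJ φ h1 h2, ← ex_mul]
    simp [nM]

lemma Pt_le : Pt I lam M ≤ POs φ := by
  rw [Pt, Subgroup.closure_le]
  rintro _ ((⟨l, rfl⟩ | ⟨α, β, h, rfl⟩) | ⟨u, rfl⟩)
  · refine ⟨?_, ?_⟩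
    · rw [h1]
      exact PO_lev l
    · rw [← map_inv, h1]
      exact PO_lev _
  · refine ⟨?_, ?_⟩
    · rw [h2, coe_qq, MOm_uM]
      exact PO_Up _ _
    · rw [← map_inv, qq_inv, h2, coe_qq, MOm_uM]
      exact PO_Up _ _
  · refine ⟨?_, ?_⟩
    · rw [h2, Cfsg.Agent.Lib.PresSU3.coe_tt]
      exact PO_tM _ _
    · rw [← map_inv, Cfsg.Agent.Lib.PresSU3.tt_inv, h2, Cfsg.Agent.Lib.PresSU3.coe_tt]
      exact PO_tM _ _

/-- The form of the elements of the unipotent radical. -/
lemma phi_NS (S : Finset ι) {q : Γ} (hq : q ∈ NS I hs hss lam M a b S) :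
    ∃ A T, φ q = Up σ A T ∧ ∀ i, i ∉ S → A i = 0 := by
  have step : ∀ x ∈ NSg I hs hss lam M a b S, ∀ y : Γ, (∃ A T, φ y = Up σ A T ∧ ∀ i, i ∉ S → A i = 0) →
      ∃ A T, φ (x * y) = Up σ A T ∧ ∀ i, i ∉ S → A i = 0 := by
    rintro x hx y ⟨A, T, hy, hA⟩
    rcases hx with ⟨k', hk, α, β, h, rfl⟩ | ⟨i, i', hij, e, rfl⟩
    · refine ⟨_, _, by rw [map_mul, H.phi_Y φ h1 h2, hy, Up_mul], ?_⟩
      intro i hi
      have hne : i ≠ k' := by
        rintro rfl
        exact hi hk
      simp [hA i hi, hne]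
    · refine ⟨_, _, by rw [map_mul, H.phi_zz φ h1 h2, ← Up_ex, hy, Up_mul], ?_⟩
      intro i hi
      simp [hA i hi]
  induction hq using Subgroup.closure_induction_left with
  | one =>
    refine ⟨0, 0, ?_, fun _ _ => rfl⟩
    rw [map_one, Up_zero]
  | mul_left x hx y _ ih => exact step x hx y ih
  | inv_mul_cancel x hx y _ ih =>
    refine step x⁻¹ ?_ y ih
    rcases hx with ⟨i, hi, c, d, h', rfl⟩ | ⟨i, i', hij, e, rfl⟩
    · exact Or.inl ⟨i, hi, _, _, cstr_inv I.invol h', by rw [← map_inv, qq_inv]⟩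
    · exact Or.inr ⟨i, i', hij, -e, (zz_neg hij e).symm⟩

/-- Elements of the unipotent radical with vanishing column are in the commuting part. -/
lemma NS_Qq (S : Finset ι) : ∀ {q : Γ} {T : Matrix ι ι K}, q ∈ NS I hs hss lam M a b S → φ q = Up σ 0 T →
    q ∈ Qq lam (M.comp (Inc I hs hss)) a b := by
  induction S using Finset.induction_on with
  | empty =>
    intro q T hq _
    exact NS_empty_le hq
  | insert k' S hk ih =>
    intro q T hq hT
    obtain ⟨n, hn, α, β, h, rfl⟩ := H.dec_N hk hq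
    obtain ⟨A, T', hA, hA0⟩ := H.phi_NS φ h1 h2 S hn
    rw [map_mul, H.phi_Y φ h1 h2, hA, Up_mul] at hT
    obtain ⟨e1, -⟩ := Up_inj hT
    have hα : α = 0 := by
      have := congrFun e1 k'
      simpa [hA0 k' hk] using this
    subst hα
    have hA1 : A = 0 := by
      funext i
      by_cases hi : i = k'
      · subst hi
        exact hA0 i hk
      · have := congrFun e1 i
        simpa [hi] using this
    subst hA1
    have hn' := ih hn hA
    refine mul_mem hn' ?_
    have hb : β + σ β = 0 := by simpa using h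
    have hfix : σ (β / s) = β / s := by
      have : σ β = -β := by linear_combination hb
      rw [map_div₀, this, hss, neg_div_neg_eq]
    obtain ⟨d, hd⟩ := I.surj _ hfix
    have hd' : j d * s = β := by
      rw [hd]
      field_simp
    have e : MJ lam M a b k' (qq I.invol 0 β h) = yy lam (M.comp (Inc I hs hss)) a b k' d := by
      rw [H.yy_eq, qq_congr I.invol h rfl hd'.symm]
    rw [e]
    exact yy_mem_Qq _ _

/-- The map to matrices is injective. -/
theorem injectiveO (hgen : Subgroup.closure (Set.range lam ∪ Set.range M) = ⊤) : Function.Injective φ := by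
  classical
  have hP := H.Pt_le φ h1 h2
  have hinj : ∀ x, φ x = 1 → x = 1 := by
    intro x hx
    obtain ⟨R, hR, p₁, hp₁, p₂, hp₂, rfl⟩ := H.decompO hgen x
    have hn : PO (ex (nM j s R)) := by
      rw [← H.phi_nR φ h1 h2]
      have e : nR lam (M.comp (Inc I hs hss)) a b R =
          p₁⁻¹ * (p₁ * nR lam (M.comp (Inc I hs hss)) a b R * p₂) * p₂⁻¹ := by group
      rw [e, map_mul, map_mul, hx, mul_one]
      exact (hP hp₁).2.mul (hP hp₂).2
    have hR0 := nM_not_mem hs hR (PO_ex_PB hn)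
    subst hR0
    rw [nR_nil, mul_one] at hx ⊢
    obtain ⟨q, hq, u, l, e⟩ := H.dec_Pt (a := a) (b := b) (mul_mem hp₁ hp₂)
    obtain ⟨A, T, hA, -⟩ := H.phi_NS φ h1 h2 Finset.univ hq
    have hx2 : φ (q * M (ttG I.invol u) * lam l) = 1 := by rw [← e]; exact hx
    rw [map_mul, map_mul, h1, h2, hA, Cfsg.Agent.Lib.PresSU3.coe_tt] at hx2
    have hB := congrArg eeB hx2
    rw [eeB_mul _ (PO_lev l), eeB_mul _ (PO_tM b _), eeB_Up, eeB_lev, eeB_tM, Matrix.one_mul] at hB
    have hone : eeB (1 : Matrix (Io ι) (Io ι) K) = 1 := by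
      ext r t
      simp [eeB, Matrix.one_apply]
    rw [hone] at hB
    have hu0 : (u : K) = 1 := by
      have h3 := congrArg det hB
      rw [det_mul, det_one, det_D, l.2, mul_one] at h3
      linear_combination h3
    have hu1 : u = 1 := Units.ext hu0
    subst hu1
    have hl : l = 1 := by
      apply Subtype.ext
      simpa [sj_zero] using hB
    subst hl
    rw [Cfsg.Agent.Lib.PresSU3.tt_one, map_one, map_one, mul_one, mul_one] at e
    rw [e] at hx ⊢
    have hA0 : Up σ A T = Up σ 0 0 := by rw [← hA, hx, Up_zero]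
    obtain ⟨rfl, rfl⟩ := Up_inj hA0
    have hq2 := H.NS_Qq φ h1 h2 Finset.univ hq hA
    let ord : ι → ℕ := fun i => (Fintype.equivFin ι i).1
    have hord : Function.Injective ord := fun i j h =>
      (Fintype.equivFin ι).injective (Fin.ext h)
    obtain ⟨⟨d, d'⟩, rfl⟩ := Qq_le_range H.toU hord hq2
    have hcoe1 : φ (psi1 H.toU d) = ex (upM (SS1 j s d)) := by
      have : φ.comp (psi1 H.toU) = (exM ι K).comp (upH1 j s) := by
        apply MonoidHom.pi_ext
        intro i e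
        simp only [MonoidHom.comp_apply]
        rw [psi1_single H.toU, H.phi_yy φ h1 h2]
        change _ = ex (upM (SS1 j s _))
        rw [SS1_single]
      exact DFunLike.congr_fun this d
    have hcoe2 : φ (psi2 H.toU ord d') = ex (upM (SS2 σ s d')) := by
      have : φ.comp (psi2 H.toU ord) = (exM ι K).comp (upH2 σ s ord) := by
        apply MonoidHom.pi_ext
        intro i e
        simp only [MonoidHom.comp_apply]
        rw [psi2_single H.toU, H.phi_zz φ h1 h2]
        change _ = ex (upM (SS2 σ s _))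
        rw [SS2_single]
      exact DFunLike.congr_fun this d'
    rw [psi_apply, map_mul, hcoe1, hcoe2, ← ex_mul, upM_mul, ← Up_ex (σ := σ), ← Up_zero (σ := σ)] at hx
    obtain ⟨-, hS⟩ := Up_inj hx
    obtain ⟨hd, hd'⟩ := SS_inj hs d d' hS
    rw [hd, hd', psi_apply]
    simp
  rw [injective_iff_map_eq_one]
  exact hinj

end OHyp0

end Cfsg.Agent.Lib.PresU
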