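import Cfsg.Agent.Lib.PresU.ODec
import Cfsg.Agent.Lib.PresU.Surj

/-!
# Matrices for `SU_{2n+1}`: the rank one groups
-/

set_option autoImplicit false
set_option linter.unusedSectionVars false
set_option linter.unusedSimpArgs false
set_option linter.style.haveILetI false

namespace Cfsg.Agent.Lib.PresU

open Matrix Cfsg.Agent.Lib.PresSp.M2 Cfsg.Agent.Lib.PresSp.Mono Cfsg.Agent.Lib.PresSLn.TwoGen
open Cfsg.Agent.Lib.PresSp.Tgt (sj sj_mul sj_add sj_zero sj_tr sj_ne sj_sub one_sj_mul one_sj_mul_sj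
  sj_mul_one_sj upM upM_mul upM_zero)
open Cfsg.Agent.Lib.PresSU3 (GG SUw fw qq ww GG_ext coe_qq coe_ww uM wM tM cstr_mul cstr_inv cstr_zero qq_mul qq_zero
  qq_inv qq_congr qq_inj ww_sq ww_inv mem_SUw)

variable {ι : Type*} [Fintype ι] [DecidableEq ι] {K : Type*} [Field K] {k : Type*} [Field k]
variable {σ : K →+* K} {j : k →+* K}

local notation "ttG" => Cfsg.Agent.Lib.PresSU3.tt

/-- The index set. -/
abbrev Io (ι : Type*) : Type _ := (ι ⊕ ι) ⊕ Unit

/-- The hyperbolic plane at `i` and the anisotropic line, as an embedding of `Fin 3`. -/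
def emb (i : ι) : Fin 3 → Io ι := ![Sum.inl (Sum.inl i), Sum.inr (), Sum.inl (Sum.inr i)]

@[simp] lemma emb_zero (i : ι) : emb i 0 = Sum.inl (Sum.inl i) := rfl
@[simp] lemma emb_one (i : ι) : emb i 1 = Sum.inr () := rfl
@[simp] lemma emb_two (i : ι) : emb i 2 = Sum.inl (Sum.inr i) := rfl

lemma emb_inj (i : ι) : Function.Injective (emb i) := by
  intro x y h
  fin_cases x <;> fin_cases y <;> simp_all [emb]

variable (K) in
/-- The embedding as a matrix. -/
def EE (i : ι) : Matrix (Io ι) (Fin 3) K := of fun r c => if r = emb i c then 1 else 0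

lemma mul_EE {X : Type*} [Fintype X] (A : Matrix X (Io ι) K) (i : ι) : A * EE K i = A.submatrix id (emb i) := by
  ext r c
  simp [Matrix.mul_apply, EE]

lemma EEt_mul {X : Type*} [Fintype X] (A : Matrix (Io ι) X K) (i : ι) : (EE K i)ᵀ * A = A.submatrix (emb i) id := by
  ext c r
  simp [Matrix.mul_apply, EE]

lemma EE_self (i : ι) : (EE K i)ᵀ * EE K i = 1 := by
  rw [mul_EE]
  ext c d
  simp only [submatrix_apply, id, transpose_apply, EE, of_apply, one_apply]
  by_cases h : c = d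
  · subst h
    simp
  · have : emb i d ≠ emb i c := fun e => h (emb_inj i e).symm
    simp [this, h]

/-- The projection to the middle coordinate. -/
def Pv (K : Type*) [Field K] : Matrix (Fin 3) (Fin 3) K := !![0, 0, 0; 0, 1, 0; 0, 0, 0]

lemma EE_ne {i i' : ι} (h : i ≠ i') : (EE K i)ᵀ * EE K i' = Pv K := by
  rw [mul_EE]
  ext c d
  fin_cases c <;> fin_cases d <;> simp [EE, Pv, emb, h, Ne.symm h]

/-- The rank one group at `i`, as matrices. -/
def MOm (i : ι) (A : Matrix (Fin 3) (Fin 3) K) : Matrix (Io ι) (Io ι) K := 1 + EE K i * (A - 1) * (EE K i)ᵀ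

lemma MOm_one (i : ι) : MOm i (1 : Matrix (Fin 3) (Fin 3) K) = 1 := by
  simp [MOm]

lemma MOm_mul (i : ι) (A B : Matrix (Fin 3) (Fin 3) K) : MOm i (A * B) = MOm i A * MOm i B := by
  have e1 : EE K i * (A - 1) * (EE K i)ᵀ * (EE K i * (B - 1) * (EE K i)ᵀ) =
      EE K i * ((A - 1) * (B - 1)) * (EE K i)ᵀ := by
    calc EE K i * (A - 1) * (EE K i)ᵀ * (EE K i * (B - 1) * (EE K i)ᵀ)
        = EE K i * (A - 1) * ((EE K i)ᵀ * EE K i) * (B - 1) * (EE K i)ᵀ := by
          simp only [Matrix.mul_assoc]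
      _ = _ := by rw [EE_self]; simp only [Matrix.mul_assoc, Matrix.mul_one]
  have e2 : A * B - 1 = (A - 1) + (B - 1) + (A - 1) * (B - 1) := by
    noncomm_ring
  rw [MOm, MOm, MOm, mul_add, add_mul, add_mul, one_mul, mul_one, one_mul, e1, e2]
  simp only [Matrix.mul_add, Matrix.add_mul]
  abel

lemma det_MOm (i : ι) (A : Matrix (Fin 3) (Fin 3) K) : (MOm i A).det = A.det := by
  rw [MOm, Matrix.det_one_add_mul_comm, ← Matrix.mul_assoc (EE K i)ᵀ, EE_self, Matrix.one_mul]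
  congr 1
  abel

/-- The explicit form of the rank one group. -/
lemma MOm_eq (i : ι) (A : Matrix (Fin 3) (Fin 3) K) : MOm i A =
    fromBlocks (fromBlocks (1 + sj i (A 0 0 - 1)) (sj i (A 0 2)) (sj i (A 2 0)) (1 + sj i (A 2 2 - 1)))
      (of fun r _ => Sum.elim (fun r => if r = i then A 0 1 else 0) (fun r => if r = i then A 2 1 else 0) r)
      (of fun _ t => Sum.elim (fun t => if t = i then A 1 0 else 0) (fun t => if t = i then A 1 2 else 0) t)
      (of fun _ _ => A 1 1) := by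
  ext r t
  rcases r with (r | r) | r <;> rcases t with (t | t) | t
  all_goals simp [MOm, EE, emb, Matrix.mul_apply, Fin.sum_univ_three, sj, single_apply, one_apply]
  all_goals
    by_cases h1 : r = i <;> by_cases h2 : t = i
    · subst h1 h2
      simp
    · subst h1
      simp [h2, Ne.symm h2]
    · simp [h1, Ne.symm h1]
    · simp [h1, Ne.symm h1]

/-- The Gram matrix of the form on `Fin 3`. -/
def F3 (K : Type*) [Field K] : Matrix (Fin 3) (Fin 3) K := !![0, 0, 1; 0, 1, 0; 1, 0, 0]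

lemma fJ_F3 (x y : Fin 3 → K) : fJ σ (F3 K) x y = fw σ x y := by
  simp [fJ, F3, fw, dotProduct, mulVec, Fin.sum_univ_three]

lemma isU_F3 (g : GG σ) : IsU σ (F3 K) g.1.1 := by
  rw [isU_iff]
  intro x y
  rw [fJ_F3, fJ_F3]
  exact g.2 x y

variable (ι K) in
/-- The Gram matrix. -/
def J1 : Matrix (Io ι) (Io ι) K := fromBlocks (JE ι K) 0 0 1

lemma J1_EE (i : ι) : J1 ι K * EE K i = EE K i * F3 K := by
  rw [mul_EE]
  ext r c
  rcases r with (r | r) | r <;> fin_cases c <;>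
    simp [J1, JE, EE, F3, emb, Matrix.mul_apply, Fin.sum_univ_three, one_apply, eq_comm]

lemma EEt_J1 (i : ι) : (EE K i)ᵀ * J1 ι K = F3 K * (EE K i)ᵀ := by
  rw [EEt_mul]
  ext c r
  rcases r with (r | r) | r <;> fin_cases c <;>
    simp [J1, JE, EE, F3, emb, Matrix.mul_apply, Fin.sum_univ_three, one_apply, eq_comm]

lemma EE_map (i : ι) : (EE K i).map σ = EE K i := by
  ext r c
  simp only [map_apply, EE, of_apply]
  split_ifs <;> simp

lemma EEt_map (i : ι) : ((EE K i)ᵀ).map σ = (EE K i)ᵀ := by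
  ext r c
  simp only [map_apply, EE, of_apply, transpose_apply]
  split_ifs <;> simp

lemma MOm_map (i : ι) (A : Matrix (Fin 3) (Fin 3) K) : (MOm i A).map σ = MOm i (A.map σ) := by
  rw [MOm, MOm, Matrix.map_add _ (map_add σ), Matrix.map_one _ (map_zero σ) (map_one σ), Matrix.map_mul,
    Matrix.map_mul, EE_map, EEt_map, Matrix.map_sub _ (map_sub σ), Matrix.map_one _ (map_zero σ) (map_one σ)]

lemma MOm_tr (i : ι) (A : Matrix (Fin 3) (Fin 3) K) : (MOm i A)ᵀ = MOm i Aᵀ := by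
  rw [MOm, MOm, transpose_add, transpose_one, transpose_mul, transpose_mul, transpose_sub, transpose_one,
    transpose_transpose, Matrix.mul_assoc]

lemma isU_MOm (i : ι) {A : Matrix (Fin 3) (Fin 3) K} (hA : IsU σ (F3 K) A) : IsU σ (J1 ι K) (MOm i A) := by
  unfold IsU at *
  rw [MOm_tr, MOm_map, MOm, MOm]
  set X := Aᵀ - 1 with hX
  set Y := A.map σ - 1 with hY
  have key : X * F3 K + F3 K * Y + X * F3 K * Y = 0 := by
    have e1 : Aᵀ = X + 1 := by rw [hX]; abel
    have e2 : A.map σ = Y + 1 := by rw [hY]; abel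
    rw [e1, e2] at hA
    have e3 : (X + 1) * F3 K * (Y + 1) = X * F3 K * Y + X * F3 K + F3 K * Y + F3 K := by
      noncomm_ring
    rw [e3] at hA
    have e4 : X * F3 K * Y + X * F3 K + F3 K * Y = 0 := by
      have := add_eq_right.1 hA
      exact this
    rw [← e4]
    abel
  have e1 : EE K i * X * (EE K i)ᵀ * J1 ι K = EE K i * (X * F3 K) * (EE K i)ᵀ := by
    simp only [Matrix.mul_assoc, EEt_J1]
  have e2 : J1 ι K * (EE K i * Y * (EE K i)ᵀ) = EE K i * (F3 K * Y) * (EE K i)ᵀ := by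
    simp only [← Matrix.mul_assoc, J1_EE]
  have e3 : EE K i * (X * F3 K) * (EE K i)ᵀ * (EE K i * Y * (EE K i)ᵀ) = EE K i * (X * F3 K * Y) * (EE K i)ᵀ := by
    calc EE K i * (X * F3 K) * (EE K i)ᵀ * (EE K i * Y * (EE K i)ᵀ)
        = EE K i * (X * F3 K) * ((EE K i)ᵀ * EE K i) * Y * (EE K i)ᵀ := by simp only [Matrix.mul_assoc]
      _ = _ := by rw [EE_self]; simp only [Matrix.mul_assoc, Matrix.mul_one]
  have e0 : (1 + EE K i * X * (EE K i)ᵀ) * J1 ι K * (1 + EE K i * Y * (EE K i)ᵀ) =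
      J1 ι K + J1 ι K * (EE K i * Y * (EE K i)ᵀ) + EE K i * X * (EE K i)ᵀ * J1 ι K +
        EE K i * X * (EE K i)ᵀ * J1 ι K * (EE K i * Y * (EE K i)ᵀ) := by
    simp only [Matrix.add_mul, Matrix.mul_add, Matrix.one_mul, Matrix.mul_one]
    abel
  rw [e0, e1, e2, e3]
  have e5 : EE K i * (X * F3 K) * (EE K i)ᵀ + EE K i * (F3 K * Y) * (EE K i)ᵀ + EE K i * (X * F3 K * Y) * (EE K i)ᵀ = 0 := by
    rw [← Matrix.add_mul, ← Matrix.add_mul, ← Matrix.mul_add, ← Matrix.mul_add, key]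
    simp
  calc _ = J1 ι K + (EE K i * (X * F3 K) * (EE K i)ᵀ + EE K i * (F3 K * Y) * (EE K i)ᵀ + EE K i * (X * F3 K * Y) * (EE K i)ᵀ) := by
        abel
    _ = _ := by rw [e5, add_zero]

/-- The extension to the larger index set. -/
def ex (A : Matrix (ι ⊕ ι) (ι ⊕ ι) K) : Matrix (Io ι) (Io ι) K := fromBlocks A 0 0 1

lemma ex_one : ex (1 : Matrix (ι ⊕ ι) (ι ⊕ ι) K) = 1 := by
  simp [ex, fromBlocks_one]

lemma ex_mul (A B : Matrix (ι ⊕ ι) (ι ⊕ ι) K) : ex (A * B) = ex A * ex B := by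
  simp [ex, fromBlocks_multiply]

lemma det_ex (A : Matrix (ι ⊕ ι) (ι ⊕ ι) K) : (ex A).det = A.det := by
  rw [ex, det_fromBlocks_zero₂₁]
  simp

lemma isU_ex {A : Matrix (ι ⊕ ι) (ι ⊕ ι) K} (hA : IsU σ (JE ι K) A) : IsU σ (J1 ι K) (ex A) := by
  unfold IsU at *
  rw [ex, J1, fromBlocks_transpose, fromBlocks_map, fromBlocks_multiply, fromBlocks_multiply]
  simp [Matrix.map_one _ (map_zero σ) (map_one σ), Matrix.map_zero _ (map_zero σ), hA]

/-- The Levi subgroup, as matrices. -/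
def levO (σ : K →+* K) (l : SpecialLinearGroup ι K) : Matrix (Io ι) (Io ι) K := ex (levM σ l)

lemma levO_apply_ee (l : SpecialLinearGroup ι K) (r t : ι) :
    levO σ l (Sum.inl (Sum.inl r)) (Sum.inl (Sum.inl t)) = l.1 r t := rfl

lemma levO_apply_ff (l : SpecialLinearGroup ι K) (r t : ι) :
    levO σ l (Sum.inl (Sum.inr r)) (Sum.inl (Sum.inr t)) = σ ((l⁻¹).1 t r) := rfl

/-- An element of `SL` sending `e_i` to a multiple of `e_i'`. -/
structure Mu (l : SpecialLinearGroup ι K) (i i' : ι) (u : Kˣ) : Prop where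
  col : l.1 *ᵥ Pi.single i 1 = Pi.single i' (u : K)
  row : Pi.single i' 1 ᵥ* l.1 = Pi.single i (u : K)

lemma Mu.of_Mv {l : SpecialLinearGroup ι K} {i i' : ι} {ε : K} (h : Mv l i i' ε) {u : Kˣ} (hu : (u : K) = ε) :
    Mu l i i' u := ⟨by rw [hu]; exact h.col, by rw [hu]; exact h.row⟩

lemma Mu.inv {l : SpecialLinearGroup ι K} {i i' : ι} {u : Kˣ} (h : Mu l i i' u) : Mu l⁻¹ i' i u⁻¹ where
  col := by
    have h1 : (l⁻¹).1 *ᵥ (l.1 *ᵥ Pi.single i 1) = Pi.single i 1 := by
      rw [mulVec_mulVec, inv_mul_coe, one_mulVec]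
    rw [h.col, single_eq_smul i' (u : K), mulVec_smul] at h1
    rw [single_eq_smul i _, ← h1, smul_smul]
    simp
  row := by
    have h1 : (Pi.single i' 1 ᵥ* l.1) ᵥ* (l⁻¹).1 = Pi.single i' 1 := by
      rw [vecMul_vecMul, mul_inv_coe, vecMul_one]
    rw [h.row, single_eq_smul i (u : K), smul_vecMul] at h1
    rw [single_eq_smul i' _, ← h1, smul_smul]
    simp

lemma levO_E {l : SpecialLinearGroup ι K} {i i' : ι} {u : Kˣ} (h : Mu l i i' u) :
    levO σ l * EE K i = EE K i' * Dm σ u := by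
  rw [mul_EE]
  have h1 : ∀ r, l.1 r i = (Pi.single i' (u : K) : ι → K) r := by
    intro r
    have := congrFun h.col r
    rwa [mulVec_single_one] at this
  have h2 : ∀ r, (l⁻¹).1 i r = (Pi.single i' ((u⁻¹ : Kˣ) : K) : ι → K) r := by
    intro r
    have := congrFun h.inv.row r
    rwa [single_one_vecMul] at this
  ext r c
  rcases r with (r | r) | r <;> fin_cases c
  · change l.1 r i = _
    rw [h1]
    by_cases hr : r = i'
    · subst hr
      simp [EE, Dm, emb, Matrix.mul_apply, Fin.sum_univ_three]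
    · simp [EE, Dm, emb, Matrix.mul_apply, Fin.sum_univ_three, hr]
  · simp [levO, ex, EE, Dm, emb, Matrix.mul_apply, Fin.sum_univ_three]
  · simp [levO, ex, levM, EE, Dm, emb, Matrix.mul_apply, Fin.sum_univ_three]
  · simp [levO, ex, levM, EE, Dm, emb, Matrix.mul_apply, Fin.sum_univ_three]
  · simp [levO, ex, levM, EE, Dm, emb, Matrix.mul_apply, Fin.sum_univ_three]
  · change σ ((l⁻¹).1 i r) = _
    rw [h2]
    by_cases hr : r = i'
    · subst hr
      simp [EE, Dm, emb, Matrix.mul_apply, Fin.sum_univ_three]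
    · simp [EE, Dm, emb, Matrix.mul_apply, Fin.sum_univ_three, hr]
  · simp [levO, ex, levM, EE, Dm, emb, Matrix.mul_apply, Fin.sum_univ_three]
  · simp [levO, ex, levM, EE, Dm, emb, Matrix.mul_apply, Fin.sum_univ_three]
  · simp [levO, ex, levM, EE, Dm, emb, Matrix.mul_apply, Fin.sum_univ_three]

lemma E_levO {l : SpecialLinearGroup ι K} {i i' : ι} {u : Kˣ} (h : Mu l i i' u) :
    (EE K i')ᵀ * levO σ l = Dm σ u * (EE K i)ᵀ := by
  rw [EEt_mul]
  have h1 : ∀ r, l.1 i' r = (Pi.single i (u : K) : ι → K) r := by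
    intro r
    have := congrFun h.row r
    rwa [single_one_vecMul] at this
  have h2 : ∀ r, (l⁻¹).1 r i' = (Pi.single i ((u⁻¹ : Kˣ) : K) : ι → K) r := by
    intro r
    have := congrFun h.inv.col r
    rwa [mulVec_single_one] at this
  ext c r
  rcases r with (r | r) | r <;> fin_cases c
  · change l.1 i' r = _
    rw [h1]
    by_cases hr : r = i
    · subst hr
      simp [EE, Dm, emb, Matrix.mul_apply, Fin.sum_univ_three]
    · simp [EE, Dm, emb, Matrix.mul_apply, Fin.sum_univ_three, hr]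
  · simp [levO, ex, levM, EE, Dm, emb, Matrix.mul_apply, Fin.sum_univ_three]
  · simp [levO, ex, levM, EE, Dm, emb, Matrix.mul_apply, Fin.sum_univ_three]
  · simp [levO, ex, levM, EE, Dm, emb, Matrix.mul_apply, Fin.sum_univ_three]
  · simp [levO, ex, levM, EE, Dm, emb, Matrix.mul_apply, Fin.sum_univ_three]
  · change σ ((l⁻¹).1 r i') = _
    rw [h2]
    by_cases hr : r = i
    · subst hr
      simp [EE, Dm, emb, Matrix.mul_apply, Fin.sum_univ_three]
    · simp [EE, Dm, emb, Matrix.mul_apply, Fin.sum_univ_three, hr]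
  · simp [levO, ex, EE, Dm, emb, Matrix.mul_apply, Fin.sum_univ_three]
  · simp [levO, ex, levM, EE, Dm, emb, Matrix.mul_apply, Fin.sum_univ_three]
  · simp [levO, ex, levM, EE, Dm, emb, Matrix.mul_apply, Fin.sum_univ_three]

/-- A general conjugation lemma. -/
lemma conj_gen {L : Matrix (Io ι) (Io ι) K} {i i' : ι} {D D' : Matrix (Fin 3) (Fin 3) K}
    (h1 : L * EE K i = EE K i' * D) (h2 : (EE K i')ᵀ * L = D * (EE K i)ᵀ) (h3 : D' * D = 1)
    (A : Matrix (Fin 3) (Fin 3) K) : L * MOm i A = MOm i' (D * A * D') * L := by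
  rw [MOm, MOm, mul_add, add_mul, mul_one, one_mul]
  congr 1
  have e1 : L * (EE K i * (A - 1) * (EE K i)ᵀ) = EE K i' * (D * (A - 1)) * (EE K i)ᵀ := by
    calc L * (EE K i * (A - 1) * (EE K i)ᵀ) = (L * EE K i) * (A - 1) * (EE K i)ᵀ := by
          simp only [Matrix.mul_assoc]
      _ = _ := by rw [h1]; simp only [Matrix.mul_assoc]
  have e2 : EE K i' * (D * A * D' - 1) * (EE K i')ᵀ * L = EE K i' * ((D * A * D' - 1) * D) * (EE K i)ᵀ := by
    calc EE K i' * (D * A * D' - 1) * (EE K i')ᵀ * L = EE K i' * (D * A * D' - 1) * ((EE K i')ᵀ * L) := by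
          simp only [Matrix.mul_assoc]
      _ = _ := by rw [h2]; simp only [Matrix.mul_assoc]
  rw [e1, e2]
  congr 2
  rw [sub_mul, one_mul, Matrix.mul_assoc (D * A), h3, Matrix.mul_one, mul_sub, Matrix.mul_one]

/-- The conjugation of a rank one group by an element of the Levi subgroup. -/
lemma lev_MO (hσ : ∀ x, σ (σ x) = x) {l : SpecialLinearGroup ι K} {i i' : ι} {u : Kˣ} (h : Mu l i i' u) (g : GG σ) :
    levO σ l * MOm i g.1.1 = MOm i' (del hσ u g).1.1 * levO σ l := by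
  rw [coe_del]
  exact conj_gen (levO_E h) (E_levO h) (Dm_inv_mul u) _

end Cfsg.Agent.Lib.PresU
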