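import Cfsg.Agent.Lib.PresU.OTgt

/-!
# The Levi subgroup and a rank one group generate the unitary group in odd degree
-/

set_option autoImplicit false
set_option linter.unusedSectionVars false
set_option linter.unusedSimpArgs false
set_option linter.style.haveILetI false

namespace Cfsg.Agent.Lib.PresU

open Matrix Cfsg.Agent.Lib.PresSp.M2 Cfsg.Agent.Lib.PresSp.Mono Cfsg.Agent.Lib.PresSLn.TwoGen
open Cfsg.Agent.Lib.PresSp.Tgt (sj sj_mul sj_add sj_zero sj_tr sj_ne sj_sub one_sj_mul one_sj_mul_sj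
  sj_mul_one_sj upM upM_mul upM_zero tt_coe_eq single_neg')
open Cfsg.Agent.Lib.PresSp.Surj (exists_levi)
open Cfsg.Agent.Lib.PresSU3 (GG SUw fw qq ww GG_ext coe_qq coe_ww uM wM tM cstr_mul cstr_inv cstr_zero qq_mul qq_zero
  qq_inv qq_congr qq_inj ww_sq ww_inv mem_SUw)

variable {ι : Type*} [Fintype ι] [DecidableEq ι] {K : Type*} [Field K] {k : Type*} [Field k]
variable {σ : K →+* K} {j : k →+* K} {a b : ι}

local notation "ttG" => Cfsg.Agent.Lib.PresSU3.tt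

lemma fJ_J1 (x y : Io ι → K) : fJ σ (J1 ι K) x y =
    ∑ i, (x (Sum.inl (Sum.inl i)) * σ (y (Sum.inl (Sum.inr i))) + x (Sum.inl (Sum.inr i)) * σ (y (Sum.inl (Sum.inl i)))) +
      x (Sum.inr ()) * σ (y (Sum.inr ())) := by
  simp [fJ, J1, JE, mulVec, dotProduct, Fintype.sum_sum_type, Matrix.one_apply, Finset.sum_add_distrib]

lemma lev_mv_ee (l : SpecialLinearGroup ι K) (w : Io ι → K) (r : ι) :
    (levO σ l *ᵥ w) (Sum.inl (Sum.inl r)) = (l.1 *ᵥ (fun i => w (Sum.inl (Sum.inl i)))) r := by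
  simp [levO, ex, levM, mulVec, dotProduct, Fintype.sum_sum_type]

lemma lev_mv_ff (l : SpecialLinearGroup ι K) (w : Io ι → K) (r : ι) :
    (levO σ l *ᵥ w) (Sum.inl (Sum.inr r)) = (hh σ (l⁻¹).1 *ᵥ (fun i => w (Sum.inl (Sum.inr i)))) r := by
  simp [levO, ex, levM, mulVec, dotProduct, Fintype.sum_sum_type]

lemma lev_mv_v (l : SpecialLinearGroup ι K) (w : Io ι → K) :
    (levO σ l *ᵥ w) (Sum.inr ()) = w (Sum.inr ()) := by
  simp [levO, ex, levM, mulVec, dotProduct, Fintype.sum_sum_type]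

lemma Et_mv (i : ι) (w : Io ι → K) : (EE K i)ᵀ *ᵥ w = w ∘ emb i := by
  ext c
  simp [EE, mulVec, dotProduct]

lemma E_mv_emb (i : ι) (y : Fin 3 → K) (c : Fin 3) : (EE K i *ᵥ y) (emb i c) = y c := by
  simp only [EE, mulVec, dotProduct, of_apply, (emb_inj i).eq_iff]
  simp

lemma E_mv_ne (i : ι) (y : Fin 3 → K) {r : Io ι} (h : ∀ c, r ≠ emb i c) : (EE K i *ᵥ y) r = 0 := by
  simp [EE, mulVec, dotProduct, h]

lemma MOm_mv_emb (i : ι) (A : Matrix (Fin 3) (Fin 3) K) (w : Io ι → K) (c : Fin 3) :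
    (MOm i A *ᵥ w) (emb i c) = (A *ᵥ (w ∘ emb i)) c := by
  rw [MOm, add_mulVec, one_mulVec, ← mulVec_mulVec, ← mulVec_mulVec, Et_mv, Pi.add_apply, E_mv_emb, sub_mulVec,
    one_mulVec, Pi.sub_apply]
  simp

lemma MOm_mv_ne (i : ι) (A : Matrix (Fin 3) (Fin 3) K) (w : Io ι → K) {r : Io ι} (h : ∀ c, r ≠ emb i c) :
    (MOm i A *ᵥ w) r = w r := by
  rw [MOm, add_mulVec, one_mulVec, ← mulVec_mulVec, ← mulVec_mulVec, Pi.add_apply, E_mv_ne _ _ h, add_zero]

lemma ne_emb_e {i r : ι} (h : r ≠ i) (c : Fin 3) : (Sum.inl (Sum.inl r) : Io ι) ≠ emb i c := by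
  fin_cases c <;> simp [emb, h]

lemma ne_emb_f {i r : ι} (h : r ≠ i) (c : Fin 3) : (Sum.inl (Sum.inr r) : Io ι) ≠ emb i c := by
  fin_cases c <;> simp [emb, h]

section hyp

variable [Finite K] [Finite k] (I : Inv σ j) {s : K} (hs : s ≠ 0) (hss : σ s = -s)

/-- The subgroup generated by the Levi subgroup and a rank one group. -/
def HO (hσ : ∀ x, σ (σ x) = x) (b : ι) : Subgroup (GO σ ι) :=
  Subgroup.closure (Set.range (lvO (σ := σ) (ι := ι) hσ) ∪ Set.range (MS (σ := σ) b))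

lemma lvO_mem (hσ : ∀ x, σ (σ x) = x) (l : SpecialLinearGroup ι K) : lvO hσ l ∈ HO hσ b :=
  Subgroup.subset_closure (Or.inl ⟨l, rfl⟩)

lemma MS_mem (hσ : ∀ x, σ (σ x) = x) (g : GG σ) : MS b g ∈ HO hσ b :=
  Subgroup.subset_closure (Or.inr ⟨g, rfl⟩)

/-- Moving a vector in the span of the `e_i`. -/
lemma to_e_zero' (hσ : ∀ x, σ (σ x) = x) (hab : a ≠ b) (w : Io ι → K) (hw : w ≠ 0)
    (hf : ∀ r, w (Sum.inl (Sum.inr r)) = 0) (hv : w (Sum.inr ()) = 0) :
    ∃ y ∈ HO hσ b, y.1.1 *ᵥ w = Pi.single (Sum.inl (Sum.inl b)) 1 := by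
  have hp : (fun i => w (Sum.inl (Sum.inl i))) ≠ 0 := by
    intro h0
    apply hw
    ext ((r | r) | r)
    · exact congrFun h0 r
    · exact hf r
    · exact hv
  obtain ⟨l, hl⟩ := exists_levi (F := K) hab _ hp
  refine ⟨lvO hσ l, lvO_mem hσ l, ?_⟩
  change levO σ l *ᵥ w = _
  ext ((r | r) | r)
  · rw [lev_mv_ee, hl]
    by_cases h : r = b
    · subst h
      simp
    · simp [h, Pi.single_apply]
  · rw [lev_mv_ff]
    have : (fun i => w (Sum.inl (Sum.inr i))) = 0 := funext hf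
    rw [this, mulVec_zero]
    simp [Pi.single_apply]
  · rw [lev_mv_v, hv]
    simp [Pi.single_apply]

/-- Moving an isotropic vector. -/
lemma exists_to_e' (hσ : ∀ x, σ (σ x) = x) (hab : a ≠ b) (w : Io ι → K) (hw : w ≠ 0)
    (hiso : fJ σ (J1 ι K) w w = 0) :
    ∃ y ∈ HO hσ b, y.1.1 *ᵥ w = Pi.single (Sum.inl (Sum.inl b)) 1 := by
  by_cases hf : (fun i => w (Sum.inl (Sum.inr i))) = 0
  · have hf' : ∀ r, w (Sum.inl (Sum.inr r)) = 0 := fun r => congrFun hf r
    have hv : w (Sum.inr ()) = 0 := by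
      rw [fJ_J1] at hiso
      simp only [hf', map_zero, mul_zero, zero_mul, add_zero, Finset.sum_const_zero, zero_add] at hiso
      rcases mul_eq_zero.1 hiso with h | h
      · exact h
      · exact (map_eq_zero σ).1 h
    exact to_e_zero' hσ hab w hw hf' hv
  obtain ⟨m, hm⟩ := exists_levi (F := K) hab _ hf
  set l : SpecialLinearGroup ι K := (hhS σ hσ m)⁻¹ with hl
  have hhl : hh σ (l⁻¹).1 = m.1 := by
    rw [hl, inv_inv]
    ext r t
    simp [hhS, hh_apply, hσ]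
  set w1 : Io ι → K := levO σ l *ᵥ w with hw1
  have hw1f : ∀ r, w1 (Sum.inl (Sum.inr r)) = (Pi.single b 1 : ι → K) r := by
    intro r
    rw [hw1, lev_mv_ff, hhl, hm]
  have hiso1 : fJ σ (J1 ι K) w1 w1 = 0 := by
    have := fJ_mem (lvO (σ := σ) (ι := ι) hσ l) w w
    rw [hiso] at this
    exact this
  have hα : w1 (Sum.inl (Sum.inl b)) + σ (w1 (Sum.inl (Sum.inl b))) + w1 (Sum.inr ()) * σ (w1 (Sum.inr ())) = 0 := by
    rw [fJ_J1] at hiso1
    simp only [hw1f] at hiso1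
    rw [Finset.sum_add_distrib, Finset.sum_eq_single b, Finset.sum_eq_single b] at hiso1
    · simpa using hiso1
    · intro i _ hi
      simp [hi]
    · simp
    · intro i _ hi
      simp [hi]
    · simp
  set x := w1 (Sum.inl (Sum.inl b)) with hx
  set v := w1 (Sum.inr ()) with hvv
  have hc : (-x - σ v * v) + σ (-x - σ v * v) + σ v * σ (σ v) = 0 := by
    simp only [map_sub, map_neg, map_mul, hσ]
    linear_combination (-1 : K) * hα
  set w2 : Io ι → K := MOm b (uM σ (σ v) (-x - σ v * v)) *ᵥ w1 with hw2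
  have hc1 : ∀ c : Fin 3, w2 (emb b c) = (uM σ (σ v) (-x - σ v * v) *ᵥ (w1 ∘ emb b)) c := fun c => MOm_mv_emb _ _ _ c
  have hw2e : w2 (Sum.inl (Sum.inl b)) = 0 := by
    have := hc1 0
    rw [Cfsg.Agent.Lib.PresSU3.uM_apply] at this
    simp only [emb_zero, Function.comp, emb_one, emb_two, hw1f, cons_val_zero] at this
    rw [this]
    simp [← hx, ← hvv]
  have hw2v : w2 (Sum.inr ()) = 0 := by
    have := hc1 1
    rw [Cfsg.Agent.Lib.PresSU3.uM_apply] at this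
    simp only [emb_zero, Function.comp, emb_one, emb_two, hw1f, cons_val_one] at this
    rw [this]
    simp [← hvv, hσ]
  have hw2f : ∀ r, w2 (Sum.inl (Sum.inr r)) = (Pi.single b 1 : ι → K) r := by
    intro r
    by_cases h : r = b
    · subst h
      have := hc1 2
      rw [Cfsg.Agent.Lib.PresSU3.uM_apply] at this
      simp only [emb_zero, Function.comp, emb_one, emb_two, hw1f] at this
      rw [this]
      simp
    · rw [hw2, MOm_mv_ne _ _ _ (ne_emb_f h), hw1f]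
  set w3 : Io ι → K := MOm b wM *ᵥ w2 with hw3
  have hc2 : ∀ c : Fin 3, w3 (emb b c) = ((wM : Matrix (Fin 3) (Fin 3) K) *ᵥ (w2 ∘ emb b)) c := fun c => MOm_mv_emb _ _ _ c
  have hw3e : w3 (Sum.inl (Sum.inl b)) = 1 := by
    have := hc2 0
    rw [Cfsg.Agent.Lib.PresSU3.wM_apply] at this
    simp only [emb_zero, Function.comp, emb_one, emb_two, hw2f, cons_val_zero] at this
    rw [this]
    simp
  have hw3v : w3 (Sum.inr ()) = 0 := by
    have := hc2 1
    rw [Cfsg.Agent.Lib.PresSU3.wM_apply] at this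
    simp only [emb_zero, Function.comp, emb_one, emb_two, hw2v, cons_val_one] at this
    rw [this]
    simp
  have hw3f : ∀ r, w3 (Sum.inl (Sum.inr r)) = 0 := by
    intro r
    by_cases h : r = b
    · subst h
      have := hc2 2
      rw [Cfsg.Agent.Lib.PresSU3.wM_apply] at this
      simp only [emb_zero, Function.comp, emb_one, emb_two, hw2e] at this
      rw [this]
      simp
    · rw [hw3, MOm_mv_ne _ _ _ (ne_emb_f h), hw2f]
      simp [h]
  have hw3ne : w3 ≠ 0 := by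
    intro h0
    rw [h0] at hw3e
    exact zero_ne_one hw3e
  obtain ⟨y, hy, hy2⟩ := to_e_zero' hσ hab w3 hw3ne hw3f hw3v
  refine ⟨y * (MS b (ww σ) * (MS b (qq hσ (σ v) (-x - σ v * v) hc) * lvO hσ l)), ?_, ?_⟩
  · exact mul_mem hy (mul_mem (MS_mem hσ _) (mul_mem (MS_mem hσ _) (lvO_mem hσ _)))
  · change (y.1.1 * (MOm b wM * (MOm b (uM σ (σ v) (-x - σ v * v)) * levO σ l))) *ᵥ w = _
    rw [← mulVec_mulVec, ← mulVec_mulVec, ← mulVec_mulVec, ← hw1, ← hw2, ← hw3, hy2]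

/-- The root element. -/
lemma tv_e' (hσ : ∀ x, σ (σ x) = x) (g : GO σ ι) {c : K}
    (h : IsTv (J1 ι K) g (Pi.single (Sum.inl (Sum.inl b)) 1) c) :
    ∃ β, ∃ hβ : β + σ β + 0 * σ 0 = 0, g = MS b (qq hσ 0 β hβ) := by
  have hJ : ∀ y : Io ι → K, fJ σ (J1 ι K) y (Pi.single (Sum.inl (Sum.inl b)) 1) = y (Sum.inl (Sum.inr b)) := by
    intro y
    rw [fJ_J1, Finset.sum_eq_single b]
    · simp
    · intro i _ hi
      simp [Pi.single_apply, hi]
    · simp
  have hJ2 : fJ σ (J1 ι K) (Pi.single (Sum.inl (Sum.inl b)) 1) (Pi.single (Sum.inl (Sum.inr b)) 1) = 1 := by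
    rw [fJ_single]
    simp [J1, JE]
  have hJ3 : fJ σ (J1 ι K) (Pi.single (Sum.inl (Sum.inl b)) 1) (Pi.single (Sum.inl (Sum.inl b)) 1) = 0 := by
    rw [fJ_single]
    simp [J1, JE]
  have hJ4 : fJ σ (J1 ι K) (Pi.single (Sum.inl (Sum.inr b)) 1) (Pi.single (Sum.inl (Sum.inr b)) 1) = 0 := by
    rw [fJ_single]
    simp [J1, JE]
  have hc : c + σ c + 0 * σ 0 = 0 := by
    have h1 := fJ_mem g (Pi.single (Sum.inl (Sum.inr b)) 1) (Pi.single (Sum.inl (Sum.inr b)) 1)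
    rw [h, hJ, hJ4, fJ_add_left, fJ_add_right, fJ_add_right, fJ_smul_left, fJ_smul_left, fJ_smul_right,
      fJ_smul_right, hJ, hJ2, hJ3, hJ4] at h1
    simp at h1
    simp
    linear_combination h1
  refine ⟨c, hc, ?_⟩
  apply SUg_ext
  change g.1.1 = MOm b (uM σ 0 c)
  apply Matrix.ext_iff_mulVec.2
  intro x
  rw [h, hJ]
  ext r
  by_cases h1 : ∃ c', r = emb b c'
  · obtain ⟨c', rfl⟩ := h1
    rw [MOm_mv_emb, Cfsg.Agent.Lib.PresSU3.uM_apply]
    fin_cases c' <;> simp [Pi.single_apply]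
  · push Not at h1
    rw [MOm_mv_ne _ _ _ h1]
    have : r ≠ Sum.inl (Sum.inl b) := h1 0
    simp [Pi.single_apply, this]

/-- The generation statement. -/
theorem gen_odd (hσ : ∀ x, σ (σ x) = x) (hab : a ≠ b)
    (hT : Subgroup.closure {g : GO σ ι | ∃ w c, fJ σ (J1 ι K) w w = 0 ∧ IsTv (J1 ι K) g w c} = ⊤) :
    Subgroup.closure (Set.range (lvO (σ := σ) (ι := ι) hσ) ∪ Set.range (MS (σ := σ) b)) = ⊤ := by
  rw [eq_top_iff, ← hT, Subgroup.closure_le]
  rintro g ⟨w, c, hiso, hg⟩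
  change g ∈ HO hσ b
  by_cases hw : w = 0
  · have : g = 1 := by
      apply SUg_ext
      change g.1.1 = 1
      apply Matrix.ext_iff_mulVec.2
      intro x
      rw [hg, hw]
      simp
    rw [this]
    exact one_mem _
  · obtain ⟨y, hy, hyw⟩ := exists_to_e' hσ hab w hw hiso
    have h1 := hg.conj y
    rw [hyw] at h1
    obtain ⟨β, hβ, hd⟩ := tv_e' hσ _ h1
    have e2 : g = y⁻¹ * MS b (qq hσ 0 β hβ) * y := by
      rw [← hd]
      group
    rw [e2]
    exact mul_mem (mul_mem (inv_mem hy) (MS_mem hσ _)) hy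

end hyp

end Cfsg.Agent.Lib.PresU
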