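import Cfsg.Agent.Lib.PresU.OUp

/-!
# The target for `SU_{2n+1}`
-/

set_option autoImplicit false
set_option linter.unusedSectionVars false
set_option linter.unusedSimpArgs false
set_option linter.style.haveILetI false

namespace Cfsg.Agent.Lib.PresU

open Matrix Cfsg.Agent.Lib.PresSp.M2 Cfsg.Agent.Lib.PresSp.Mono Cfsg.Agent.Lib.PresSLn.TwoGen
open Cfsg.Agent.Lib.PresSp.Tgt (sj sj_mul sj_add sj_zero sj_tr sj_ne sj_sub one_sj_mul one_sj_mul_sj
  sj_mul_one_sj upM upM_mul upM_zero tt_coe_eq single_neg')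
open Cfsg.Agent.Lib.PresSU3 (GG SUw fw qq ww GG_ext coe_qq coe_ww uM wM tM cstr_mul cstr_inv cstr_zero qq_mul qq_zero
  qq_inv qq_congr qq_inj ww_sq ww_inv mem_SUw)

variable {ι : Type*} [Fintype ι] [DecidableEq ι] {K : Type*} [Field K] {k : Type*} [Field k]
variable {σ : K →+* K} {j : k →+* K} {a b : ι}

local notation "ttG" => Cfsg.Agent.Lib.PresSU3.tt

/-- The target group. -/
abbrev GO (σ : K →+* K) (ι : Type*) [Fintype ι] [DecidableEq ι] : Type _ := SUg σ (J1 ι K)

/-- The extension of the even group. -/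
def exH (σ : K →+* K) (ι : Type*) [Fintype ι] [DecidableEq ι] : GE σ ι →* GO σ ι where
  toFun x := ⟨⟨ex x.1.1, by rw [det_ex]; exact x.1.2⟩, isU_ex x.2⟩
  map_one' := SUg_ext ex_one
  map_mul' x y := SUg_ext (ex_mul _ _)

lemma coe_exH (x : GE σ ι) : (exH σ ι x).1.1 = ex x.1.1 := rfl

/-- The Levi subgroup in the target. -/
def lvO (hσ : ∀ x, σ (σ x) = x) : SpecialLinearGroup ι K →* GO σ ι := (exH σ ι).comp (levS hσ)

lemma coe_lvO (hσ : ∀ x, σ (σ x) = x) (l : SpecialLinearGroup ι K) : (lvO hσ l).1.1 = levO σ l := rfl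

/-- The rank one group in the target. -/
def MS (i : ι) : GG σ →* GO σ ι where
  toFun g := ⟨⟨MOm i g.1.1, by rw [det_MOm]; exact g.1.2⟩, isU_MOm i (isU_F3 g)⟩
  map_one' := SUg_ext (MOm_one i)
  map_mul' g g' := SUg_ext (MOm_mul i _ _)

lemma coe_MS (i : ι) (g : GG σ) : (MS i g).1.1 = MOm i g.1.1 := rfl

lemma coe_MS_q (hσ : ∀ x, σ (σ x) = x) (i : ι) (α β : K) (h : β + σ β + α * σ α = 0) :
    (MS i (qq hσ α β h)).1.1 = Up σ (Pi.single i α) (single i i β) := MOm_uM i α β

section hyp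

variable [Finite K] [Finite k] (I : Inv σ j) {s : K} (hs : s ≠ 0) (hss : σ s = -s)

include hs in
lemma MS_Inc (i : ι) (g : M2 k) : MS i (Inc I hs hss g) = exH σ ι (lgS I hs hss i g) :=
  SUg_ext (MOm_incM s i g)

/-- The rank one groups at all indices are conjugate. -/
lemma MJ_tgt (hab : a ≠ b) (i : ι) (g : GG σ) :
    MJ (lvO I.invol) (MS b) a b i g = MS i g := by
  rw [MJ_apply]
  apply conj_coe'
  have h := lev_MO (σ := σ) I.invol (Mu.of_Mv (mv_pj (F := K) hab i) (u := 1) (by simp)) g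
  rw [del_one] at h
  exact h

lemma tt_Mu_b (hab : a ≠ b) (v : Kˣ) : Mu (tt hab v) b b v⁻¹ where
  col := by
    rw [coe_tt, mulVec_single_one]
    ext r
    by_cases h : r = b
    · subst h
      simp [td, hab.symm]
    · simp [Pi.single_apply, h, diagonal_apply, Ne.symm h]
  row := by
    rw [coe_tt, single_one_vecMul]
    ext r
    by_cases h : r = b
    · subst h
      simp [td, hab.symm]
    · simp [Pi.single_apply, h, diagonal_apply, Ne.symm h]

lemma hm_single (i i' : ι) (x y : K) : hm σ (Pi.single i x) (Pi.single i' y) = single i i' (x * σ y) := by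
  ext r t
  simp only [hm, of_apply, single_apply, Pi.single_apply]
  by_cases h1 : r = i <;> by_cases h2 : t = i'
  · subst h1 h2
    simp
  · have : ¬(i = r ∧ i' = t) := fun e => h2 e.2.symm
    simp [h2, this]
  · have : ¬(i = r ∧ i' = t) := fun e => h1 e.1.symm
    simp [h1, this]
  · have : ¬(i = r ∧ i' = t) := fun e => h1 e.1.symm
    simp [h1, this]

lemma hm_zero (A : ι → K) : hm σ A 0 = 0 := by
  ext r t
  simp [hm]

include I hs hss

/-- The short root elements in the target. -/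
lemma zT_coe (hab : a ≠ b) (z : K) :
    (MS b (Inc I hs hss wn) * lvO I.invol (TT hab z) * (MS b (Inc I hs hss wn))⁻¹).1.1 =
      Up σ 0 (single a b (z * s) + single b a (σ z * s)) := by
  rw [Up_ex, ← zS_coe I hs hss hab z, ← coe_exH, MS_Inc I hs]
  simp only [map_mul, map_inv]
  rfl

/-- `F5` in the target. -/
lemma f5_tgt (hab : a ≠ b) (c α β : K) (h : β + σ β + α * σ α = 0) :
    Commute (lvO I.invol (TT hab.symm c)) (MS b (qq I.invol α β h)) := by
  apply SUg_ext
  change levO σ (TT hab.symm c) * (MS b (qq I.invol α β h)).1.1 = (MS b (qq I.invol α β h)).1.1 * levO σ (TT hab.symm c)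
  rw [coe_MS_q, lev_Up]
  congr 2
  · rw [coeT, add_mulVec, one_mulVec, single_mulVec]
    ext r
    simp [hab]
  · rw [coeT, hh_add, hh_one, hh_single]
    simp only [mul_add, add_mul, mul_one, one_mul, single_mul_single_of_ne _ _ _ _ hab,
      single_mul_single_of_ne _ _ _ _ hab.symm, zero_mul, add_zero, mul_zero]

/-- `F2` in the target. -/
lemma f2_tgt (hab : a ≠ b) (α β : K) (h : β + σ β + α * σ α = 0) (c d : K) (h' : d + σ d + c * σ c = 0) :
    MS a (qq I.invol α β h) * MS b (qq I.invol c d h') =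
      MS b (qq I.invol c d h') * MS a (qq I.invol α β h) *
        (MS b (Inc I hs hss wn) * lvO I.invol (TT hab (-(α * σ c) / s)) * (MS b (Inc I hs hss wn))⁻¹) := by
  apply SUg_ext
  have e : ∀ x y z : GO σ ι, (x * y * z).1.1 = x.1.1 * y.1.1 * z.1.1 := fun _ _ _ => rfl
  have e2 : ∀ x y : GO σ ι, (x * y).1.1 = x.1.1 * y.1.1 := fun _ _ => rfl
  rw [e, e2, zT_coe I hs hss hab, coe_MS_q, coe_MS_q, Up_mul, Up_mul, Up_mul, hm_single, hm_single, hm_zero]
  have e3 : σ (-(α * σ c) / s) * s = c * σ α := by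
    rw [map_div₀, map_neg, map_mul, I.invol, hss]
    field_simp
  have e4 : -(α * σ c) / s * s = -(α * σ c) := by
    field_simp
  have e6 : (Pi.single a α : ι → K) + Pi.single b c = Pi.single b c + Pi.single a α := add_comm _ _
  rw [e3, e4, single_neg', add_zero, e6]
  congr 1
  simp only [sub_zero]
  abel

/-- `F1` in the target. -/
lemma f1_tgt (hab : a ≠ b) (α β : K) (h : β + σ β + α * σ α = 0) :
    lvO I.invol (TT hab 1) * MS b (qq I.invol α β h) * (lvO I.invol (TT hab 1))⁻¹ =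
      MS a (qq I.invol α β h) * MS b (qq I.invol α β h) *
        (MS b (Inc I hs hss wn) * lvO I.invol (TT hab ((β + α * σ α) / s)) * (MS b (Inc I hs hss wn))⁻¹) := by
  apply conj_coe'
  have e : ∀ x y z : GO σ ι, (x * y * z).1.1 = x.1.1 * y.1.1 * z.1.1 := fun _ _ _ => rfl
  rw [e, zT_coe I hs hss hab, coe_MS_q, coe_MS_q, Up_mul, Up_mul, hm_single, hm_zero, coe_lvO, lev_Up]
  have e3 : σ ((β + α * σ α) / s) * s = β := by
    rw [map_div₀, map_add, map_mul, I.invol, hss]
    field_simp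
    linear_combination (-1 : K) * h
  have e4 : (β + α * σ α) / s * s = β + α * σ α := by
    field_simp
  rw [e3, e4]
  congr 2
  · rw [coeT, add_mulVec, one_mulVec, single_mulVec]
    ext r
    by_cases h1 : r = a
    · subst h1
      simp [hab]
    · by_cases h2 : r = b
      · subst h2
        simp [hab.symm]
      · simp [h1, h2, Pi.single_apply]
  · rw [coeT, hh_add, hh_one, hh_single]
    simp only [mul_add, add_mul, mul_one, one_mul, single_mul_single_same, single_mul_single_of_ne _ _ _ _ hab,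
      single_mul_single_of_ne _ _ _ _ hab.symm, zero_mul, add_zero, mul_zero, zero_add, map_one, sub_zero]
    rw [single_add]
    abel

omit I hs hss [Finite K] [Finite k] in
/-- The torus on the Levi subgroup. -/
lemma tM_T (hab : a ≠ b) (t : Kˣ) (c : K) :
    MOm b (tM σ t) * levO σ (TT hab c) = levO σ (TT hab (((t⁻¹ : Kˣ) : K) * c)) * MOm b (tM σ t) := by
  have h0 := t.ne_zero
  have h1 := (map_ne_zero σ).2 h0
  rw [MOm_tM, levO, levO, ex, ex, coe_lev_T, coe_lev_T, fromBlocks_multiply, fromBlocks_multiply,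
    fromBlocks_multiply, fromBlocks_multiply]
  simp only [Matrix.zero_mul, Matrix.mul_zero, add_zero, zero_add, Matrix.mul_one, Matrix.one_mul, sj, mul_add, add_mul,
    mul_one, one_mul, single_mul_single_same, single_mul_single_of_ne _ _ _ _ hab,
    single_mul_single_of_ne _ _ _ _ hab.symm, mul_zero, zero_mul, map_mul, map_inv₀, Units.val_inv_eq_inv_val]
  refine fromBlocks_inj.2 ⟨fromBlocks_inj.2 ⟨?_, rfl, rfl, ?_⟩, rfl, rfl, rfl⟩
  · have e : single a b c = single a b ((t : K)⁻¹ * c) + single a b ((t : K)⁻¹ * c * ((t : K) - 1)) := by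
      rw [← single_add]
      congr 1
      field_simp
      ring
    rw [e]
    abel
  · have e : single b a (-σ c) + single b a (((σ (t : K))⁻¹ - 1) * -σ c) = single b a (-((σ (t : K))⁻¹ * σ c)) := by
      rw [← single_add]
      congr 1
      ring
    rw [← e]
    abel

omit I hs hss [Finite K] [Finite k] in
/-- The torus at `a` is a product. -/
lemma tM_tt (hab : a ≠ b) (t : Kˣ) : MOm a (tM σ t) = levO σ (tt hab t) * MOm b (tM σ t) := by
  have h0 := t.ne_zero
  have h1 := (map_ne_zero σ).2 h0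
  rw [MOm_tM, MOm_tM, levO, ex, levM, hh_tt, tt_coe_eq, fromBlocks_multiply, fromBlocks_multiply]
  simp only [Matrix.zero_mul, Matrix.mul_zero, add_zero, zero_add, Matrix.mul_one, Matrix.one_mul, mul_add, add_mul,
    mul_one, one_mul, sj_ne hab, sj_ne hab.symm, sj_mul, mul_zero, zero_mul, Units.val_inv_eq_inv_val]
  refine fromBlocks_inj.2 ⟨fromBlocks_inj.2 ⟨?_, rfl, rfl, ?_⟩, rfl, rfl, ?_⟩
  · have e : sj b ((t : K)⁻¹ - 1) + (sj b ((t : K) - 1) + sj b (((t : K)⁻¹ - 1) * ((t : K) - 1))) = (0 : Matrix ι ι K) := by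
      rw [sj_add, sj_add]
      have : (t : K)⁻¹ - 1 + ((t : K) - 1 + ((t : K)⁻¹ - 1) * ((t : K) - 1)) = 0 := by
        field_simp
        ring
      rw [this, sj_zero]
    rw [add_assoc (1 + sj a ((t : K) - 1)), e, add_zero]
  · have e : sj b (σ (t : K) - 1) + (sj b ((σ (t : K))⁻¹ - 1) + sj b ((σ (t : K) - 1) * ((σ (t : K))⁻¹ - 1))) = (0 : Matrix ι ι K) := by
      rw [sj_add, sj_add]
      have : σ (t : K) - 1 + ((σ (t : K))⁻¹ - 1 + (σ (t : K) - 1) * ((σ (t : K))⁻¹ - 1)) = 0 := by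
        field_simp
        ring
      rw [this, sj_zero]
    rw [add_assoc (1 + sj a ((σ (t : K))⁻¹ - 1)), e, add_zero]
  · ext r x
    simp [Matrix.one_apply]

/-- The relations in the target. -/
theorem oHyp_target (hab : a ≠ b) {ζ : Kˣ} (hζ : ∀ u : Kˣ, ∃ n : ℕ, ζ ^ n = u)
    (hk : ∀ u : kˣ, ∃ n : ℕ, I.nU ζ ^ n = u) {θ b₁ b₂ : K} (hθ : σ θ ≠ θ)
    (h₁ : b₁ + σ b₁ + 1 * σ 1 = 0) (h₂ : b₂ + σ b₂ + θ * σ θ = 0) :
    OHyp0 I hs hss (lvO I.invol) (MS b) hab ζ h₁ h₂ := by
  have H0 := uHyp0_target I hs hss hab hζ hk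
  have hJ : ∀ (i : ι) (g : GG σ), MJ (lvO I.invol) (MS b) a b i g = MS i g := fun i g => MJ_tgt I hab i g
  have hss' : ∀ x : K, lvO I.invol (TT hab 1) * (MS b (Inc I hs hss wn) * lvO I.invol (TT hab x) * (MS b (Inc I hs hss wn))⁻¹) *
      (lvO I.invol (TT hab 1))⁻¹ = (MS b (Inc I hs hss wn) * lvO I.invol (TT hab x) * (MS b (Inc I hs hss wn))⁻¹) *
        MS a (Inc I hs hss (uu (I.tr (σ x)))) := by
    intro x
    have := congrArg (exH σ ι) (ss_tgt I hs hss hab (1 : K) x)
    simp only [map_mul, map_inv, one_mul, ← MS_Inc I hs hss] at this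
    exact this
  refine ⟨hζ, hk, hθ, ?_, ?_, ?_, ?_, ?_, ?_, ?_, ?_, f5_tgt I hs hss hab _ _ _ _, f5_tgt I hs hss hab _ _ _ _, ?_, ?_, ?_, ?_, ?_, ?_⟩
  · -- theta
    intro l h1 h2 g
    apply SUg_ext
    have h := lev_MO (σ := σ) I.invol (i := b) (i' := b) (u := 1) (l := l) ⟨by simpa using h1, by simpa using h2⟩ g
    rw [del_one] at h
    exact h
  · -- tw
    intro g
    apply conj_coe'
    exact lev_MO (σ := σ) I.invol (tt_Mu_b hab ζ) g
  · -- f6
    intro g
    rw [hJ, hJ]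
    apply conj_coe'
    change MOm b (tM σ ζ) * MOm a g.1.1 = MOm a (del I.invol (rU σ ζ) g).1.1 * MOm b (tM σ ζ)
    have h0 := ζ.ne_zero
    have h1 := (map_ne_zero σ).2 h0
    have hne : σ (ζ : K) / ζ ≠ 0 := div_ne_zero h1 h0
    rw [conj_gen (tM_E hab (ζ : K)) (E_tM hab (ζ : K)) (Dd_mul hne), coe_del, Dm_rU I.invol]
  · -- wa
    intro g
    rw [hJ]
    apply SUg_ext
    change MOm a (incM j s wn) * MOm b g.1.1 = MOm b g.1.1 * MOm a (incM j s wn)
    exact MOm_comm hab (incM_sub_one_Pv s wn) (Pv_incM_sub_one s wn)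
  · -- r2
    apply conj_coe'
    have h := tM_T (σ := σ) hab ζ 1
    rw [mul_one] at h
    exact h
  · -- r4
    rw [hJ]
    apply SUg_ext
    exact tM_tt hab ζ
  · -- r8
    rw [hJ]
    apply SUg_ext
    change MOm b (incM j s (uu 1)) * MOm a (incM j s (uu 1)) = MOm a (incM j s (uu 1)) * MOm b (incM j s (uu 1))
    exact MOm_comm hab.symm (incM_sub_one_Pv s _) (Pv_incM_sub_one s _)
  · -- r11
    rw [hJ]
    have h := congrArg (exH σ ι) H0.r11
    have e1 := lgS_conj I hs hss (mv_pj (F := K) hab a) (wn : M2 k)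
    rw [e1] at h
    simp only [map_mul, map_inv, ← MS_Inc I hs hss] at h
    exact h
  · rw [hJ]
    exact f2_tgt I hs hss hab _ _ _ _ _ _
  · rw [hJ]
    exact f2_tgt I hs hss hab _ _ _ _ _ _
  · rw [hJ]
    exact f1_tgt I hs hss hab _ _ _
  · rw [hJ]
    exact f1_tgt I hs hss hab _ _ _
  · rw [hJ]
    exact hss' 1
  · rw [hJ]
    exact hss' θ

end hyp

end Cfsg.Agent.Lib.PresU
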