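import Cfsg.Agent.Lib.PresU.OMat

/-!
# Matrices for `SU_{2n+1}`: the unipotent radical
-/

set_option autoImplicit false
set_option linter.unusedSectionVars false
set_option linter.unusedSimpArgs false
set_option linter.style.haveILetI false

namespace Cfsg.Agent.Lib.PresU

open Matrix Cfsg.Agent.Lib.PresSp.M2 Cfsg.Agent.Lib.PresSp.Mono Cfsg.Agent.Lib.PresSLn.TwoGen
open Cfsg.Agent.Lib.PresSp.Tgt (sj sj_mul sj_add sj_zero sj_tr sj_ne sj_sub one_sj_mul one_sj_mul_sj
  sj_mul_one_sj upM upM_mul upM_zero)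
open Cfsg.Agent.Lib.PresSU3 (GG SUw fw qq ww GG_ext coe_qq coe_ww uM wM tM cstr_mul cstr_inv cstr_zero qq_mul qq_zero
  qq_inv qq_congr qq_inj ww_sq ww_inv mem_SUw)

variable {ι : Type*} [Fintype ι] [DecidableEq ι] {K : Type*} [Field K] {k : Type*} [Field k]
variable {σ : K →+* K} {j : k →+* K}

local notation "ttG" => Cfsg.Agent.Lib.PresSU3.tt

/-- The column block. -/
def colM (A : ι → K) : Matrix (ι ⊕ ι) Unit K := of fun r _ => Sum.elim A (fun _ => 0) r

/-- The row block. -/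
def rowM (σ : K →+* K) (A : ι → K) : Matrix Unit (ι ⊕ ι) K :=
  of fun _ t => Sum.elim (fun _ => 0) (fun t => -σ (A t)) t

/-- The elements of the unipotent radical. -/
def Up (σ : K →+* K) (A : ι → K) (S : Matrix ι ι K) : Matrix (Io ι) (Io ι) K :=
  fromBlocks (upM S) (colM A) (rowM σ A) 1

/-- The correction term. -/
def hm (σ : K →+* K) (A A' : ι → K) : Matrix ι ι K := of fun r t => A r * σ (A' t)

lemma Up_mul (A A' : ι → K) (S S' : Matrix ι ι K) :
    Up σ A S * Up σ A' S' = Up σ (A + A') (S + S' - hm σ A A') := by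
  rw [Up, Up, Up, fromBlocks_multiply, upM_mul]
  refine fromBlocks_inj.2 ⟨?_, ?_, ?_, ?_⟩
  · ext (r | r) (t | t) <;>
      simp [upM, colM, rowM, hm, Matrix.mul_apply, sub_eq_add_neg, mul_neg]
  · ext (r | r) t
    · simp [upM, colM, Matrix.mul_apply, Fintype.sum_sum_type, one_apply, add_comm]
    · simp [upM, colM, Matrix.mul_apply, Fintype.sum_sum_type, one_apply]
  · ext r (t | t)
    · simp [upM, rowM, Matrix.mul_apply, Fintype.sum_sum_type, one_apply]
    · simp [upM, rowM, Matrix.mul_apply, Fintype.sum_sum_type, one_apply, sub_eq_add_neg]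
      ring
  · ext r t
    simp [colM, rowM, Matrix.mul_apply, Fintype.sum_sum_type]

lemma Up_ex (S : Matrix ι ι K) : Up σ (0 : ι → K) S = ex (upM S) := by
  rw [Up, ex]
  congr 1
  · ext r t
    rcases r with r | r <;> simp [colM]
  · ext r t
    rcases t with t | t <;> simp [rowM]

lemma Up_zero : Up σ (0 : ι → K) 0 = 1 := by
  rw [Up_ex, upM_zero, ex_one]

lemma MOm_uM (i : ι) (α β : K) : MOm i (uM σ α β) = Up σ (Pi.single i α) (single i i β) := by
  rw [MOm_eq, Up]
  have e0 : ∀ x : K, (1 : Matrix ι ι K) + sj i (x - x) = 1 := by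
    intro x
    simp [sj_zero]
  refine fromBlocks_inj.2 ⟨?_, ?_, ?_, ?_⟩
  · simp [uM, upM, sj, sub_self]
  · ext (r | r) t
    · by_cases h : r = i
      · subst h
        simp [uM, colM]
      · simp [uM, colM, h, Pi.single_apply]
    · simp [uM, colM]
  · ext r (t | t)
    · simp [uM, rowM]
    · by_cases h : t = i
      · subst h
        simp [uM, rowM]
      · simp [uM, rowM, h, Pi.single_apply]
  · ext r t
    simp [uM]

/-- Conjugating an element of the unipotent radical by the Levi subgroup. -/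
lemma lev_Up (l : SpecialLinearGroup ι K) (A : ι → K) (S : Matrix ι ι K) :
    levO σ l * Up σ A S = Up σ (l.1 *ᵥ A) (l.1 * S * hh σ l.1) * levO σ l := by
  rw [levO, ex, Up, Up, fromBlocks_multiply, fromBlocks_multiply]
  simp only [Matrix.zero_mul, Matrix.mul_zero, add_zero, zero_add, Matrix.mul_one, Matrix.one_mul]
  refine fromBlocks_inj.2 ⟨lev_up l S, ?_, ?_, rfl⟩
  · ext (r | r) t
    · simp [levM, colM, Matrix.mul_apply, Fintype.sum_sum_type, mulVec, dotProduct]
    · simp [levM, colM, Matrix.mul_apply, Fintype.sum_sum_type]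
  · ext r (t | t)
    · simp [levM, rowM, Matrix.mul_apply, Fintype.sum_sum_type]
    · have e : (l⁻¹).1 *ᵥ (l.1 *ᵥ A) = A := by
        rw [mulVec_mulVec, inv_mul_coe, one_mulVec]
      have e2 := congrFun e t
      simp only [mulVec, dotProduct] at e2
      simp only [levM, rowM, Matrix.mul_apply, Fintype.sum_sum_type, of_apply, Sum.elim_inl, Sum.elim_inr,
        fromBlocks_apply₂₂, fromBlocks_apply₁₂, Matrix.zero_apply, mul_zero, Finset.sum_const_zero, zero_add, hh_apply]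
      have e3 : ∑ x, -σ (∑ y, l.1 x y * A y) * σ ((l⁻¹).1 t x) = -σ (∑ x, (l⁻¹).1 t x * ∑ y, l.1 x y * A y) := by
        rw [map_sum, ← Finset.sum_neg_distrib]
        refine Finset.sum_congr rfl fun x _ => ?_
        rw [map_mul]
        ring
      simp only [mulVec, dotProduct]
      rw [e3, e2]

/-- The rank one group at `i` on the element of `Inc`. -/
lemma MOm_incM (s : K) (i : ι) (g : M2 k) : MOm i (incM j s g) = ex (lgM j s i g) := by
  rw [MOm_eq, ex, lgM]
  refine fromBlocks_inj.2 ⟨?_, ?_, ?_, ?_⟩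
  · simp [incM]
  · ext (r | r) t <;> simp [incM]
  · ext r (t | t) <;> simp [incM]
  · ext r t
    simp [incM]

/-- The rank one group on the torus. -/
lemma MOm_tM (i : ι) (t : K) : MOm i (tM σ t) =
    fromBlocks (fromBlocks (1 + sj i (t - 1)) 0 0 (1 + sj i ((σ t)⁻¹ - 1))) 0 0 (of fun _ _ => σ t / t) := by
  rw [MOm_eq]
  refine fromBlocks_inj.2 ⟨?_, ?_, ?_, ?_⟩
  · simp [tM, sj_zero]
  · ext (r | r) t <;> simp [tM]
  · ext r (t | t) <;> simp [tM]
  · ext r t
    simp [tM]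

variable {a b : ι}

/-- Commuting of rank one groups at different indices for elements fixing the middle coordinate. -/
lemma MOm_comm {i i' : ι} (h : i ≠ i') {A B : Matrix (Fin 3) (Fin 3) K} (h1 : (A - 1) * Pv K = 0)
    (h2 : Pv K * (A - 1) = 0) : MOm i A * MOm i' B = MOm i' B * MOm i A := by
  have e1 : EE K i * (A - 1) * (EE K i)ᵀ * (EE K i' * (B - 1) * (EE K i')ᵀ) = 0 := by
    calc EE K i * (A - 1) * (EE K i)ᵀ * (EE K i' * (B - 1) * (EE K i')ᵀ)
        = EE K i * ((A - 1) * ((EE K i)ᵀ * EE K i')) * (B - 1) * (EE K i')ᵀ := by simp only [Matrix.mul_assoc]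
      _ = 0 := by rw [EE_ne h, h1]; simp
  have e2 : EE K i' * (B - 1) * (EE K i')ᵀ * (EE K i * (A - 1) * (EE K i)ᵀ) = 0 := by
    calc EE K i' * (B - 1) * (EE K i')ᵀ * (EE K i * (A - 1) * (EE K i)ᵀ)
        = EE K i' * (B - 1) * (((EE K i')ᵀ * EE K i) * (A - 1)) * (EE K i)ᵀ := by simp only [Matrix.mul_assoc]
      _ = 0 := by rw [EE_ne h.symm, h2]; simp
  rw [MOm, MOm]
  simp only [Matrix.add_mul, Matrix.mul_add, Matrix.one_mul, Matrix.mul_one, e1, e2]
  abel

lemma incM_sub_one_Pv (s : K) (g : M2 k) : (incM j s g - 1) * Pv K = 0 := by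
  ext c d
  fin_cases c <;> fin_cases d <;> simp [incM, Pv, Matrix.mul_apply, Fin.sum_univ_three]

lemma Pv_incM_sub_one (s : K) (g : M2 k) : Pv K * (incM j s g - 1) = 0 := by
  ext c d
  fin_cases c <;> fin_cases d <;> simp [incM, Pv, Matrix.mul_apply, Fin.sum_univ_three]

/-- The diagonal matrices for the action of a torus at another index. -/
def Dd (x : K) : Matrix (Fin 3) (Fin 3) K := !![1, 0, 0; 0, x, 0; 0, 0, 1]

lemma Dd_mul {x : K} (hx : x ≠ 0) : Dd x⁻¹ * Dd x = 1 := by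
  ext c d
  fin_cases c <;> fin_cases d <;> simp [Dd, Matrix.mul_apply, Fin.sum_univ_three, hx]

lemma tM_E (hab : a ≠ b) (t : K) : MOm b (tM σ t) * EE K a = EE K a * Dd (σ t / t) := by
  rw [mul_EE]
  ext r c
  rcases r with (r | r) | r <;> fin_cases c <;>
    simp [MOm_tM, EE, Dd, emb, Matrix.mul_apply, Fin.sum_univ_three, sj, single_apply, one_apply, hab, Ne.symm hab, eq_comm]

lemma E_tM (hab : a ≠ b) (t : K) : (EE K a)ᵀ * MOm b (tM σ t) = Dd (σ t / t) * (EE K a)ᵀ := by
  rw [EEt_mul]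
  ext c r
  rcases r with (r | r) | r <;> fin_cases c <;>
    simp [MOm_tM, EE, Dd, emb, Matrix.mul_apply, Fin.sum_univ_three, sj, single_apply, one_apply, hab, Ne.symm hab, eq_comm]

lemma Dm_rU (hσ : ∀ x, σ (σ x) = x) (u : Kˣ) (A : Matrix (Fin 3) (Fin 3) K) :
    Dd (σ u / u) * A * Dd (σ u / u)⁻¹ = Dm σ (rU σ u) * A * Dm σ (rU σ u)⁻¹ := by
  have h0 := u.ne_zero
  have h1 := (map_ne_zero σ).2 h0
  have e1 : Dm σ (rU σ u) = ((u : K) / σ u) • Dd (σ u / u) := by
    ext c d
    fin_cases c <;> fin_cases d <;> simp [Dm, Dd, rU, hσ, h0, h1] <;> field_simp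
  have e2 : Dm σ (rU σ u)⁻¹ = (σ u / (u : K)) • Dd (σ u / u)⁻¹ := by
    ext c d
    fin_cases c <;> fin_cases d <;> simp [Dm, Dd, rU, hσ, h0, h1] <;> field_simp
  have e3 : (u : K) / σ u * (σ u / (u : K)) = 1 := by
    field_simp
  rw [e1, e2, Matrix.smul_mul, Matrix.smul_mul, Matrix.mul_smul, smul_smul, e3, one_smul]

end Cfsg.Agent.Lib.PresU
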