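import Cfsg.Agent.Lib.PresU.OInj
import Cfsg.Agent.Lib.PresU.OSurj
import Cfsg.Agent.Lib.PresU.Even

/-!
# The presentation of the unitary group in odd degree
-/

set_option autoImplicit false
set_option linter.unusedSectionVars false
set_option linter.unusedSimpArgs false
set_option linter.style.haveILetI false

namespace Cfsg.Agent.Lib.PresU

open Matrix Cfsg.Agent.Lib.PresSp.M2 Cfsg.Agent.Lib.PresSp.Mono Cfsg.Agent.Lib.PresSLn.TwoGen
open Cfsg.Agent.Lib.PresSp.Theta (cm rq comm_of_cm cm_of_comm eq_of_rq rq_of_eq m2_gen3)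
open Cfsg.Agent.Lib.PresSU3 (GG SUw fw qq ww GG_ext coe_qq coe_ww uM wM tM cstr_mul cstr_inv cstr_zero qq_mul qq_zero
  qq_inv qq_congr qq_inj ww_sq ww_inv mem_SUw)

variable {ι : Type*} [Fintype ι] [DecidableEq ι] {K : Type*} [Field K] {k : Type*} [Field k]
variable {σ : K →+* K} {j : k →+* K} {a b : ι}

local notation "ttG" => Cfsg.Agent.Lib.PresSU3.tt

/-- Words. -/
abbrev WO (ι : Type*) [Fintype ι] [DecidableEq ι] {K : Type*} [Field K] (σ : K →+* K) : Type _ :=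
  FreeGroup (SpecialLinearGroup ι K ⊕ GG σ)

/-- A generator from the Levi subgroup. -/
def xO (l : SpecialLinearGroup ι K) : WO ι σ := FreeGroup.of (Sum.inl l)

/-- A generator from the rank one group. -/
def yO (g : GG σ) : WO ι σ := FreeGroup.of (Sum.inr g)

section words

variable (I : Inv σ j) {s : K} (hs : s ≠ 0) (hss : σ s = -s) (hab : a ≠ b) (ζ : Kˣ) {θ b₁ b₂ : K}
  (h₁ : b₁ + σ b₁ + 1 * σ 1 = 0) (h₂ : b₂ + σ b₂ + θ * σ θ = 0)

/-- The main relators. -/
noncomputable def mainO : List (WO ι σ) :=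
  let T := xO (σ := σ) (TT hab (1 : K))
  let T' := xO (σ := σ) (TT hab.symm (1 : K))
  let S := xO (σ := σ) (pj a b a)
  let x₁ := yO (ι := ι) (qq I.invol 1 b₁ h₁)
  let x₂ := yO (ι := ι) (qq I.invol θ b₂ h₂)
  let W := yO (ι := ι) (Inc I hs hss wn)
  let tz := yO (ι := ι) (ttG I.invol ζ)
  [rq (tz * T * tz⁻¹) (xO (TT hab ((ζ⁻¹ : Kˣ) : K))),
    rq (S * tz * S⁻¹) (xO (tt hab ζ) * tz),
    cm (yO (Inc I hs hss (uu 1))) (S * yO (Inc I hs hss (uu 1)) * S⁻¹),
    rq (W * T * W⁻¹) ((S * W * S⁻¹) * T' * (S * W * S⁻¹)⁻¹),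
    cm T' x₁,
    cm T' x₂,
    rq ((S * x₁ * S⁻¹) * x₁) (x₁ * (S * x₁ * S⁻¹) * (W * xO (TT hab (-(1 * σ 1) / s)) * W⁻¹)),
    rq ((S * x₁ * S⁻¹) * x₂) (x₂ * (S * x₁ * S⁻¹) * (W * xO (TT hab (-(1 * σ θ) / s)) * W⁻¹)),
    rq (T * x₁ * T⁻¹) ((S * x₁ * S⁻¹) * x₁ * (W * xO (TT hab ((b₁ + 1 * σ 1) / s)) * W⁻¹)),
    rq (T * x₂ * T⁻¹) ((S * x₂ * S⁻¹) * x₂ * (W * xO (TT hab ((b₂ + θ * σ θ) / s)) * W⁻¹)),
    rq (T * (W * T * W⁻¹) * T⁻¹) ((W * T * W⁻¹) * (S * yO (Inc I hs hss (uu (I.tr (σ 1)))) * S⁻¹)),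
    rq (T * (W * xO (TT hab θ) * W⁻¹) * T⁻¹) ((W * xO (TT hab θ) * W⁻¹) * (S * yO (Inc I hs hss (uu (I.tr (σ θ)))) * S⁻¹))]

/-- The relators for one generator of the rank one group. -/
noncomputable def genO1 (x : GG σ) : List (WO ι σ) :=
  [rq (xO (tt hab ζ) * yO x * (xO (tt hab ζ))⁻¹) (yO (del I.invol ζ⁻¹ x)),
      rq (yO (ttG I.invol ζ) * (xO (pj a b a) * yO x * (xO (pj a b a))⁻¹) * (yO (ttG I.invol ζ))⁻¹)
        (xO (pj a b a) * yO (del I.invol (rU σ ζ) x) * (xO (pj a b a))⁻¹),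
      cm (xO (pj a b a) * yO (Inc I hs hss wn) * (xO (pj a b a))⁻¹) (yO x)]

/-- The relators for the generators of the rank one group. -/
noncomputable def genO (gM : List (GG σ)) : List (WO ι σ) :=
  gM.flatMap (genO1 I hs hss hab ζ)

/-- The commuting relators for the stabiliser of a row and a column. -/
noncomputable def thetaO (X : List (SpecialLinearGroup ι K)) (gM : List (GG σ)) : List (WO ι σ) :=
  X.flatMap (fun x => gM.map (fun g => cm (xO x) (yO g)))

lemma genO_length (gM : List (GG σ)) : (genO I hs hss hab ζ gM).length = 3 * gM.length := by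
  induction gM with
  | nil => rfl
  | cons x gM ih =>
    simp only [genO, genO1, List.flatMap_cons, List.length_append, List.length_cons, List.length_nil] at ih ⊢
    omega

lemma thetaO_length (X : List (SpecialLinearGroup ι K)) (gM : List (GG σ)) :
    (thetaO (σ := σ) X gM).length = X.length * gM.length := by
  induction X with
  | nil => simp [thetaO]
  | cons x X ih =>
    simp only [thetaO, List.flatMap_cons, List.length_append, List.length_map, List.length_cons] at ih ⊢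
    rw [ih]
    ring

end words

/-- The evaluation of a word. -/
def evO {Γ : Type*} [Group Γ] (lam : SpecialLinearGroup ι K →* Γ) (M : GG σ →* Γ) : WO ι σ →* Γ :=
  FreeGroup.lift (Sum.elim lam M)

@[simp] lemma evO_x {Γ : Type*} [Group Γ] (lam : SpecialLinearGroup ι K →* Γ) (M : GG σ →* Γ)
    (l : SpecialLinearGroup ι K) : evO lam M (xO l) = lam l := by
  simp [evO, xO]

@[simp] lemma evO_y {Γ : Type*} [Group Γ] (lam : SpecialLinearGroup ι K →* Γ) (M : GG σ →* Γ)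
    (g : GG σ) : evO lam M (yO g) = M g := by
  simp [evO, yO]

lemma evO_cm {Γ : Type*} [Group Γ] (lam : SpecialLinearGroup ι K →* Γ) (M : GG σ →* Γ) (x y : WO ι σ) :
    evO lam M (cm x y) = cm (evO lam M x) (evO lam M y) := by
  simp [cm]

lemma evO_rq {Γ : Type*} [Group Γ] (lam : SpecialLinearGroup ι K →* Γ) (M : GG σ →* Γ) (x y : WO ι σ) :
    evO lam M (rq x y) = rq (evO lam M x) (evO lam M y) := by
  simp [rq]

variable [Finite K] [Finite k]

/-- The relators imply the abstract relations. -/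
theorem oHyp_of_words {Γ : Type*} [Group Γ] {lam : SpecialLinearGroup ι K →* Γ} {M : GG σ →* Γ}
    (I : Inv σ j) {s : K} (hs : s ≠ 0) (hss : σ s = -s) (hab : a ≠ b) {ζ : Kˣ} (hζ : ∀ u : Kˣ, ∃ n : ℕ, ζ ^ n = u)
    (hk : ∀ u : kˣ, ∃ n : ℕ, I.nU ζ ^ n = u) {θ b₁ b₂ : K} (hθ : σ θ ≠ θ)
    (h₁ : b₁ + σ b₁ + 1 * σ 1 = 0) (h₂ : b₂ + σ b₂ + θ * σ θ = 0)
    (X : List (SpecialLinearGroup ι K))
    (hX : ∀ G : Subgroup (SpecialLinearGroup ι K), (∀ x ∈ X, x ∈ G) →
        ∀ A : SpecialLinearGroup ι K, A.1 *ᵥ Pi.single b 1 = Pi.single b 1 →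
          Pi.single b 1 ᵥ* A.1 = Pi.single b 1 → A ∈ G)
    (gM : List (GG σ)) (hgM : ∀ G : Subgroup (GG σ), (∀ x ∈ gM, x ∈ G) → G = ⊤)
    (hm : ∀ l ∈ mainO (ι := ι) I hs hss hab ζ h₁ h₂, evO lam M l = 1)
    (hg : ∀ l ∈ genO (ι := ι) I hs hss hab ζ gM, evO lam M l = 1)
    (ht : ∀ l ∈ thetaO (σ := σ) X gM, evO lam M l = 1) :
    OHyp0 I hs hss lam M hab ζ h₁ h₂ := by
  simp only [mainO, List.forall_mem_cons, evO_cm, evO_rq, map_mul, map_inv, evO_x, evO_y] at hm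
  obtain ⟨r2, r4, r8, r11, f51, f52, f21, f22, f11, f12, ssA, ssB, -⟩ := hm
  have hg' : ∀ x ∈ gM, lam (tt hab ζ) * M x * (lam (tt hab ζ))⁻¹ = M (del I.invol ζ⁻¹ x) ∧
      M (ttG I.invol ζ) * (lam (pj a b a) * M x * (lam (pj a b a))⁻¹) * (M (ttG I.invol ζ))⁻¹ =
        lam (pj a b a) * M (del I.invol (rU σ ζ) x) * (lam (pj a b a))⁻¹ ∧
      Commute (lam (pj a b a) * M (Inc I hs hss wn) * (lam (pj a b a))⁻¹) (M x) := by
    intro x hx
    have hx' : ∀ l ∈ genO1 (ι := ι) I hs hss hab ζ x, evO lam M l = 1 :=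
      fun l hl => hg l (List.mem_flatMap.2 ⟨x, hx, hl⟩)
    simp only [genO1, List.forall_mem_cons, evO_cm, evO_rq, map_mul, map_inv, evO_x, evO_y] at hx'
    obtain ⟨e1, e2, e3, -⟩ := hx'
    exact ⟨eq_of_rq e1, eq_of_rq e2, comm_of_cm e3⟩
  refine ⟨hζ, hk, hθ, ?_, ?_, ?_, ?_, eq_of_rq r2, eq_of_rq r4, comm_of_cm r8, eq_of_rq r11, comm_of_cm f51, comm_of_cm f52,
    eq_of_rq f21, eq_of_rq f22, eq_of_rq f11, eq_of_rq f12, eq_of_rq ssA, eq_of_rq ssB⟩
  · -- theta
    intro A h1 h2 g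
    have hx : ∀ x ∈ X, ∀ g, Commute (lam x) (M g) := by
      intro x hx g
      let G : Subgroup (GG σ) := (Subgroup.centralizer {lam x}).comap M
      have hK : G = ⊤ := by
        refine hgM G fun y hy => ?_
        have h3 : evO lam M (cm (xO x) (yO y)) = 1 := ht _ (List.mem_flatMap.2 ⟨x, hx, List.mem_map.2 ⟨y, hy, rfl⟩⟩)
        rw [evO_cm, evO_x, evO_y] at h3
        rw [Subgroup.mem_comap, Subgroup.mem_centralizer_singleton_iff]
        exact (comm_of_cm h3).symm.eq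
      have hg : g ∈ G := by
        rw [hK]
        trivial
      rw [Subgroup.mem_comap, Subgroup.mem_centralizer_singleton_iff] at hg
      exact Commute.symm hg
    let G : Subgroup (SpecialLinearGroup ι K) := (Subgroup.centralizer {M g}).comap lam
    have hA : A ∈ G := by
      refine hX G (fun x hxX => ?_) A h1 h2
      rw [Subgroup.mem_comap, Subgroup.mem_centralizer_singleton_iff]
      exact (hx x hxX g).eq
    rw [Subgroup.mem_comap, Subgroup.mem_centralizer_singleton_iff] at hA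
    exact hA
  · -- tw
    intro g
    let G : Subgroup (GG σ) := MonoidHom.eqLocus ((MulAut.conj (lam (tt hab ζ))).toMonoidHom.comp M)
      (M.comp (del I.invol ζ⁻¹))
    have hK : G = ⊤ := hgM G fun y hy => (hg' y hy).1
    have hg : g ∈ G := by
      rw [hK]
      trivial
    exact hg
  · -- f6
    intro g
    let G : Subgroup (GG σ) := MonoidHom.eqLocus ((MulAut.conj (M (ttG I.invol ζ))).toMonoidHom.comp (MJ lam M a b a))
      ((MJ lam M a b a).comp (del I.invol (rU σ ζ)))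
    have hK : G = ⊤ := hgM G fun y hy => (hg' y hy).2.1
    have hg : g ∈ G := by
      rw [hK]
      trivial
    exact hg
  · -- wa
    intro g
    let G : Subgroup (GG σ) := (Subgroup.centralizer {MJ lam M a b a (Inc I hs hss wn)}).comap M
    have hK : G = ⊤ := by
      refine hgM G fun y hy => ?_
      rw [Subgroup.mem_comap, Subgroup.mem_centralizer_singleton_iff]
      exact (hg' y hy).2.2.symm.eq
    have hg : g ∈ G := by
      rw [hK]
      trivial
    rw [Subgroup.mem_comap, Subgroup.mem_centralizer_singleton_iff] at hg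
    exact Commute.symm hg

/-- The coercion to matrices. -/
def goCoe (σ : K →+* K) (ι : Type*) [Fintype ι] [DecidableEq ι] : GO σ ι →* Matrix (Io ι) (Io ι) K where
  toFun x := x.1.1
  map_one' := rfl
  map_mul' _ _ := rfl

/-- The presentation of the unitary group in odd degree. -/
theorem su_odd_pres (I : Inv σ j) {s : K} (hs : s ≠ 0) (hss : σ s = -s) (hab : a ≠ b) {ζ : Kˣ}
    (hζ : ∀ u : Kˣ, ∃ n : ℕ, ζ ^ n = u) (hk : ∀ u : kˣ, ∃ n : ℕ, I.nU ζ ^ n = u) {θ b₁ b₂ : K} (hθ : σ θ ≠ θ)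
    (h₁ : b₁ + σ b₁ + 1 * σ 1 = 0) (h₂ : b₂ + σ b₂ + θ * σ θ = 0)
    (hT : Subgroup.closure {g : GO σ ι | ∃ w c, fJ σ (J1 ι K) w w = 0 ∧ IsTv (J1 ι K) g w c} = ⊤)
    (X : List (SpecialLinearGroup ι K))
    (hfix : ∀ x ∈ X, x.1 *ᵥ Pi.single b 1 = Pi.single b 1 ∧ Pi.single b 1 ᵥ* x.1 = Pi.single b 1)
    (hX : ∀ G : Subgroup (SpecialLinearGroup ι K), (∀ x ∈ X, x ∈ G) →
        ∀ A : SpecialLinearGroup ι K, A.1 *ᵥ Pi.single b 1 = Pi.single b 1 →
          Pi.single b 1 ᵥ* A.1 = Pi.single b 1 → A ∈ G)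
    (gM : List (GG σ)) (hgM : ∀ G : Subgroup (GG σ), (∀ x ∈ gM, x ∈ G) → G = ⊤)
    {αA αB : Type} (RA : Finset (FreeGroup αA))
    (EA : PresentedGroup (↑RA : Set (FreeGroup αA)) ≃* SpecialLinearGroup ι K)
    (RB : Finset (FreeGroup αB)) (EB : PresentedGroup (↑RB : Set (FreeGroup αB)) ≃* GG σ) :
    ∃ R : Finset (FreeGroup (αA ⊕ αB)),
      R.card ≤ RA.card + RB.card + (12 + 3 * gM.length + X.length * gM.length) ∧
      Nonempty (PresentedGroup (↑R : Set (FreeGroup (αA ⊕ αB))) ≃* GO σ ι) := by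
  have H := oHyp_target I hs hss hab hζ hk hθ h₁ h₂
  have hmain : ∀ l ∈ mainO (ι := ι) I hs hss hab ζ h₁ h₂, evO (lvO I.invol) (MS b) l = 1 := by
    simp only [mainO, List.forall_mem_cons, evO_cm, evO_rq, map_mul, map_inv, evO_x, evO_y]
    exact ⟨rq_of_eq H.r2, rq_of_eq H.r4, cm_of_comm H.r8, rq_of_eq H.r11, cm_of_comm H.f5₁, cm_of_comm H.f5₂,
      rq_of_eq H.f2₁, rq_of_eq H.f2₂, rq_of_eq H.f1₁, rq_of_eq H.f1₂, rq_of_eq H.ssA, rq_of_eq H.ssB, by simp⟩
  have hgen : ∀ x : GG σ, ∀ l ∈ genO1 (ι := ι) I hs hss hab ζ x, evO (lvO I.invol) (MS b) l = 1 := by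
    intro x
    simp only [genO1, List.forall_mem_cons, evO_cm, evO_rq, map_mul, map_inv, evO_x, evO_y]
    exact ⟨rq_of_eq (H.tw x), rq_of_eq (H.f6 x), cm_of_comm (H.wa x), by simp⟩
  obtain ⟨R, hR, hE⟩ := Cfsg.Agent.Lib.PresSp.Push.pres_push RA EA RB EB
    (lvO (σ := σ) (ι := ι) I.invol) (MS b) (gen_odd I.invol hab hT)
    (mainO (ι := ι) I hs hss hab ζ h₁ h₂ ++ (genO (ι := ι) I hs hss hab ζ gM ++ thetaO (σ := σ) X gM)) (by
      intro l hl
      change evO _ _ l = 1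
      rcases List.mem_append.1 hl with hl | hl
      · exact hmain l hl
      rcases List.mem_append.1 hl with hl | hl
      · obtain ⟨x, hx, hl⟩ := List.mem_flatMap.1 hl
        exact hgen x l hl
      · obtain ⟨x, hx, hl⟩ := List.mem_flatMap.1 hl
        obtain ⟨g, hg, rfl⟩ := List.mem_map.1 hl
        obtain ⟨h1, h2⟩ := hfix x hx
        rw [evO_cm, evO_x, evO_y]
        exact cm_of_comm (H.theta x h1 h2 g)) (by
      intro Γ _ ρ Θ φ hL hgen h1 h2
      have HO : OHyp0 I hs hss ρ Θ hab ζ h₁ h₂ := oHyp_of_words I hs hss hab hζ hk hθ h₁ h₂ X hX gM hgM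
        (fun l hl => hL l (List.mem_append_left _ hl))
        (fun l hl => hL l (List.mem_append_right _ (List.mem_append_left _ hl)))
        (fun l hl => hL l (List.mem_append_right _ (List.mem_append_right _ hl)))
      have hinj := OHyp0.injectiveO HO ((goCoe σ ι).comp φ)
        (fun l => by
          change (φ (ρ l)).1.1 = _
          rw [h1]
          rfl)
        (fun g => by
          change (φ (Θ g)).1.1 = _
          rw [h2]
          rfl) hgen
      intro x y hxy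
      exact hinj (by
        change (φ x).1.1 = (φ y).1.1
        rw [hxy]))
  refine ⟨R, hR.trans ?_, hE⟩
  rw [List.length_append, List.length_append, genO_length, thetaO_length]
  simp [mainO]
  omega

end Cfsg.Agent.Lib.PresU
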