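import Cfsg.Agent.Lib.PresU.Zz

/-!
# The relation `S4` from a few instances of it
-/

set_option autoImplicit false

namespace Cfsg.Agent.Lib.PresU

open Matrix Cfsg.Agent.Lib.PresSp.M2 Cfsg.Agent.Lib.PresSp.Mono Cfsg.Agent.Lib.PresSLn.TwoGen
open Cfsg.Agent.Lib.PresSp.Abs (sq_ind conj_comm conj_conj conj_one comm_conj
  comm_of_conj A_zero A_neg act_of_sq act_pow comm_ext)

variable {ι : Type*} [Fintype ι] [DecidableEq ι] {K : Type*} [Field K] {k : Type*} [Field k]
  {Γ : Type*} [Group Γ]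
variable {a b : ι}

lemma Inv.tr_mul_j {σ : K →+* K} {j : k →+* K} (I : Inv σ j) (u : k) (x : K) :
    I.tr (j u * x) = u * I.tr x := by
  apply j.injective
  rw [I.j_tr, map_mul, I.fix, map_mul, I.j_tr]
  ring

lemma Inv.tr_zero {σ : K →+* K} {j : k →+* K} (I : Inv σ j) : I.tr 0 = 0 := by
  apply j.injective
  rw [I.j_tr, map_zero, map_zero, add_zero]

namespace UHyp0

variable [Finite K] [Finite k] {σ : K →+* K} {j : k →+* K} {I : Inv σ j}
  {lam : SpecialLinearGroup ι K →* Γ} {mu : M2 k →* Γ} {hab : a ≠ b} {ζ : Kˣ}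
  (H : UHyp0 I lam mu hab ζ)
include H

/-- The Levi torus on the long root elements at `a`. -/
lemma tt_ya (v : Kˣ) (d : k) :
    lam (tt hab v) * yy lam mu a b a d * (lam (tt hab v))⁻¹ = yy lam mu a b a (I.nm v * d) := by
  have h1 := H.s_tt (hab := hab) v
  have h2 : lam (tt hab v) * lam (pj a b a) = lam (pj a b a) * lam (tt hab v⁻¹) := by
    rw [← h1]
    group
  have h3 := H.tt_uu (hab := hab) v⁻¹ d
  rw [map_inv, inv_inv, I.nU_val] at h3
  simp only [yy, muJ_apply]
  calc lam (tt hab v) * (lam (pj a b a) * mu (uu d) * (lam (pj a b a))⁻¹) * (lam (tt hab v))⁻¹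
      = (lam (tt hab v) * lam (pj a b a)) * mu (uu d) * (lam (tt hab v) * lam (pj a b a))⁻¹ := by group
    _ = lam (pj a b a) * (lam (tt hab v⁻¹) * mu (uu d) * (lam (tt hab v⁻¹))⁻¹) * (lam (pj a b a))⁻¹ := by
        rw [h2]
        group
    _ = _ := by
        rw [h3]

/-- The torus element fixing the root element `x_ab`. -/
noncomputable def sS (lam : SpecialLinearGroup ι K →* Γ) (mu : M2 k →* Γ) (j : k →+* K) (hab : a ≠ b) (r : kˣ) : Γ :=
  mu (dd r) * (lam (tt hab (jU j r)) * mu (dd r))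

lemma sS_T (r : kˣ) (c : K) :
    sS lam mu j hab r * lam (TT hab c) * (sS lam mu j hab r)⁻¹ = lam (TT hab c) := by
  rw [sS, conj_conj, H.tau_ab, H.H_ab]
  congr 2
  simp only [Units.val_inv_eq_inv_val, map_inv₀]
  have : j (r : k) ≠ 0 := (map_ne_zero j).2 r.ne_zero
  field_simp

lemma sS_Z (r : kˣ) (c : K) :
    sS lam mu j hab r * zz lam mu a b hab c * (sS lam mu j hab r)⁻¹ =
      zz lam mu a b hab (j ((r : k) ^ 2) * c) := by
  rw [sS, conj_conj, H.tau_zz_ab, H.H_zz_ab]
  congr 1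
  rw [map_pow]
  ring

lemma sS_ya (r : kˣ) (d : k) :
    sS lam mu j hab r * yy lam mu a b a d * (sS lam mu j hab r)⁻¹ =
      yy lam mu a b a ((r : k) ^ 2 * d) := by
  rw [sS, yy, H.scale_Ja, dd_uu, yy]

lemma sS_uu (r : kˣ) (d : k) :
    sS lam mu j hab r * mu (uu d) * (sS lam mu j hab r)⁻¹ = mu (uu ((r : k) ^ 2 * d)) := by
  rw [sS, H.scale_U]

/-- The commutator relation for `c = 1`. -/
lemma ss1 {θ' : K} (hθ : σ θ' ≠ θ') (hA : lam (TT hab 1) * zz lam mu a b hab 1 * (lam (TT hab 1))⁻¹ =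
      zz lam mu a b hab 1 * yy lam mu a b a (I.tr (σ 1)))
    (hB : lam (TT hab 1) * zz lam mu a b hab θ' * (lam (TT hab 1))⁻¹ =
      zz lam mu a b hab θ' * yy lam mu a b a (I.tr (σ θ'))) (x : K) :
    lam (TT hab 1) * zz lam mu a b hab x * (lam (TT hab 1))⁻¹ =
      zz lam mu a b hab x * yy lam mu a b a (I.tr (σ x)) := by
  have hadd : ∀ x y, (lam (TT hab 1) * zz lam mu a b hab x * (lam (TT hab 1))⁻¹ =
        zz lam mu a b hab x * yy lam mu a b a (I.tr (σ x))) →
      (lam (TT hab 1) * zz lam mu a b hab y * (lam (TT hab 1))⁻¹ =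
        zz lam mu a b hab y * yy lam mu a b a (I.tr (σ y))) →
      lam (TT hab 1) * zz lam mu a b hab (x + y) * (lam (TT hab 1))⁻¹ =
        zz lam mu a b hab (x + y) * yy lam mu a b a (I.tr (σ (x + y))) := by
    intro x y hx hy
    have c1 : Commute (yy lam mu a b a (I.tr (σ x))) (zz lam mu a b hab y) := H.comm_yy_zz a hab _ _
    have e : lam (TT hab 1) * zz lam mu a b hab (x + y) * (lam (TT hab 1))⁻¹ =
        (lam (TT hab 1) * zz lam mu a b hab x * (lam (TT hab 1))⁻¹) *
          (lam (TT hab 1) * zz lam mu a b hab y * (lam (TT hab 1))⁻¹) := by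
      rw [zz_add]
      group
    rw [e, hx, hy, zz_add, map_add, I.tr_add, yy_add]
    calc zz lam mu a b hab x * yy lam mu a b a (I.tr (σ x)) * (zz lam mu a b hab y * yy lam mu a b a (I.tr (σ y)))
        = zz lam mu a b hab x * (yy lam mu a b a (I.tr (σ x)) * zz lam mu a b hab y) * yy lam mu a b a (I.tr (σ y)) := by group
      _ = _ := by rw [c1.eq]; group
  have hk : ∀ x, (lam (TT hab 1) * zz lam mu a b hab x * (lam (TT hab 1))⁻¹ =
        zz lam mu a b hab x * yy lam mu a b a (I.tr (σ x))) → ∀ u : k,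
      lam (TT hab 1) * zz lam mu a b hab (j u * x) * (lam (TT hab 1))⁻¹ =
        zz lam mu a b hab (j u * x) * yy lam mu a b a (I.tr (σ (j u * x))) := by
    intro x hx u
    refine sq_ind (P := fun u => lam (TT hab 1) * zz lam mu a b hab (j u * x) * (lam (TT hab 1))⁻¹ =
        zz lam mu a b hab (j u * x) * yy lam mu a b a (I.tr (σ (j u * x)))) ?_ ?_ ?_ u
    · simp only [map_zero, zero_mul, zz_zero, I.tr_zero, yy_zero, mul_one]
      group
    · intro p q hp hq
      have := hadd _ _ hp hq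
      rwa [← add_mul, ← map_add] at this
    · intro v
      have h1 := congrArg (fun g => sS lam mu j hab v * g * (sS lam mu j hab v)⁻¹) hx
      have e1 : sS lam mu j hab v * (lam (TT hab 1) * zz lam mu a b hab x * (lam (TT hab 1))⁻¹) * (sS lam mu j hab v)⁻¹ =
          (sS lam mu j hab v * lam (TT hab 1) * (sS lam mu j hab v)⁻¹) *
            (sS lam mu j hab v * zz lam mu a b hab x * (sS lam mu j hab v)⁻¹) *
            (sS lam mu j hab v * lam (TT hab 1) * (sS lam mu j hab v)⁻¹)⁻¹ := by group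
      have e2 : sS lam mu j hab v * (zz lam mu a b hab x * yy lam mu a b a (I.tr (σ x))) * (sS lam mu j hab v)⁻¹ =
          (sS lam mu j hab v * zz lam mu a b hab x * (sS lam mu j hab v)⁻¹) *
            (sS lam mu j hab v * yy lam mu a b a (I.tr (σ x)) * (sS lam mu j hab v)⁻¹) := by group
      simp only [e1, e2] at h1
      rw [H.sS_T, H.sS_Z, H.sS_ya] at h1
      have e3 : I.tr (σ (j ((v : k) ^ 2) * x)) = (v : k) ^ 2 * I.tr (σ x) := by
        rw [map_mul, I.fix, I.tr_mul_j]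
      rw [e3]
      exact h1
  obtain ⟨p, r, rfl⟩ := I.span2 hθ x
  have e1 := hk 1 hA p
  have e2 := hk θ' hB r
  rw [mul_one] at e1
  exact hadd _ _ e1 e2

/-- The commutator relation. -/
lemma ss_ab (hs : ∀ x, lam (TT hab 1) * zz lam mu a b hab x * (lam (TT hab 1))⁻¹ =
      zz lam mu a b hab x * yy lam mu a b a (I.tr (σ x))) (c x : K) :
    lam (TT hab c) * zz lam mu a b hab x * (lam (TT hab c))⁻¹ =
      zz lam mu a b hab x * yy lam mu a b a (I.tr (c * σ x)) := by
  refine sq_ind (P := fun c => lam (TT hab c) * zz lam mu a b hab x * (lam (TT hab c))⁻¹ =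
      zz lam mu a b hab x * yy lam mu a b a (I.tr (c * σ x))) ?_ ?_ ?_ c
  · simp only [TT_zero, map_one, zero_mul, I.tr_zero, yy_zero, mul_one]
    group
  · intro p q hp hq
    have hc : Commute (lam (TT hab p)) (yy lam mu a b a (I.tr (q * σ x))) :=
      (H.comm_yj_Tji hab.symm _ p).symm
    have e : lam (TT hab (p + q)) * zz lam mu a b hab x * (lam (TT hab (p + q)))⁻¹ =
        lam (TT hab p) * (lam (TT hab q) * zz lam mu a b hab x * (lam (TT hab q))⁻¹) * (lam (TT hab p))⁻¹ := by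
      rw [TT_add, map_mul]
      group
    rw [e, hq, add_mul, I.tr_add, yy_add]
    calc lam (TT hab p) * (zz lam mu a b hab x * yy lam mu a b a (I.tr (q * σ x))) * (lam (TT hab p))⁻¹
        = (lam (TT hab p) * zz lam mu a b hab x * (lam (TT hab p))⁻¹) *
            (lam (TT hab p) * yy lam mu a b a (I.tr (q * σ x)) * (lam (TT hab p))⁻¹) := by group
      _ = _ := by
        rw [hp, hc.eq]
        group
  · intro v
    have h0 := v.ne_zero
    have h00 : σ (v : K) ≠ 0 := (map_ne_zero σ).2 h0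
    set x₀ := σ (v : K) * (v : K)⁻¹ * x with hx₀
    have h1 := congrArg (fun g => lam (tt hab v) * g * (lam (tt hab v))⁻¹) (hs x₀)
    have e1 : lam (tt hab v) * (lam (TT hab 1) * zz lam mu a b hab x₀ * (lam (TT hab 1))⁻¹) * (lam (tt hab v))⁻¹ =
        (lam (tt hab v) * lam (TT hab 1) * (lam (tt hab v))⁻¹) *
          (lam (tt hab v) * zz lam mu a b hab x₀ * (lam (tt hab v))⁻¹) *
          (lam (tt hab v) * lam (TT hab 1) * (lam (tt hab v))⁻¹)⁻¹ := by group
    have e2 : lam (tt hab v) * (zz lam mu a b hab x₀ * yy lam mu a b a (I.tr (σ x₀))) * (lam (tt hab v))⁻¹ =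
        (lam (tt hab v) * zz lam mu a b hab x₀ * (lam (tt hab v))⁻¹) *
          (lam (tt hab v) * yy lam mu a b a (I.tr (σ x₀)) * (lam (tt hab v))⁻¹) := by group
    simp only [e1, e2] at h1
    rw [lam_tt_ab, H.tt_zz_ab, H.tt_ya, mul_one] at h1
    have e3 : (v : K) * (σ v)⁻¹ * x₀ = x := by
      rw [hx₀]
      field_simp
    have e4 : I.nm (v : K) * I.tr (σ x₀) = I.tr ((v : K) ^ 2 * σ x) := by
      rw [← I.tr_mul_j, I.j_nm]
      congr 1
      rw [hx₀, map_mul, map_mul, map_inv₀, I.invol]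
      field_simp
    rw [e3, e4] at h1
    exact h1

/-- The relation `S4` for `c = 1`. -/
lemma s41 (r12 : lam (TT hab 1) * mu (uu 1) * (lam (TT hab 1))⁻¹ =
      mu (uu 1) * (mu wn * lam (TT hab 1) * (mu wn)⁻¹) *
        (lam (pj a b a) * mu (uu 1) * (lam (pj a b a))⁻¹)) (d : k) :
    lam (TT hab 1) * mu (uu d) * (lam (TT hab 1))⁻¹ =
      mu (uu d) * zz lam mu a b hab (j d) * yy lam mu a b a d := by
  refine sq_ind (P := fun d => lam (TT hab 1) * mu (uu d) * (lam (TT hab 1))⁻¹ =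
      mu (uu d) * zz lam mu a b hab (j d) * yy lam mu a b a d) ?_ ?_ ?_ d
  · simp only [uu_zero, map_one, map_zero, zz_zero, yy_zero, mul_one]
    group
  · intro x y hx hy
    have h0 : lam (TT hab 1) * mu (uu (x + y)) * (lam (TT hab 1))⁻¹ =
        (lam (TT hab 1) * mu (uu x) * (lam (TT hab 1))⁻¹) *
          (lam (TT hab 1) * mu (uu y) * (lam (TT hab 1))⁻¹) := by
      rw [uu_add, map_mul]
      group
    rw [h0, hx, hy, uu_add, map_mul, map_add, zz_add, yy_add]
    have c1 : Commute (mu (uu y)) (zz lam mu a b hab (j x)) := by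
      have := H.comm_yy_zz b hab y (j x)
      simpa [yy, muJ_b] using this
    have c2 : Commute (mu (uu y)) (yy lam mu a b a x) := by
      have := H.comm_yy b a y x
      simpa [yy, muJ_b] using this
    have c3 : Commute (yy lam mu a b a x) (zz lam mu a b hab (j y)) :=
      H.comm_yy_zz a hab _ _
    set U1 := mu (uu x)
    set U2 := mu (uu y)
    set Z1 := zz lam mu a b hab (j x)
    set Z2 := zz lam mu a b hab (j y)
    set Y1 := yy lam mu a b a x
    set Y2 := yy lam mu a b a y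
    calc U1 * Z1 * Y1 * (U2 * Z2 * Y2) = U1 * Z1 * (Y1 * U2) * Z2 * Y2 := by group
      _ = U1 * Z1 * (U2 * Y1) * Z2 * Y2 := by rw [c2.eq]
      _ = U1 * (Z1 * U2) * (Y1 * Z2) * Y2 := by group
      _ = U1 * (U2 * Z1) * (Z2 * Y1) * Y2 := by rw [c1.eq, c3.eq]
      _ = _ := by group
  · intro v
    have h1 := congrArg (fun g => sS lam mu j hab v * g * (sS lam mu j hab v)⁻¹) r12
    have e1 : sS lam mu j hab v * (lam (TT hab 1) * mu (uu 1) * (lam (TT hab 1))⁻¹) * (sS lam mu j hab v)⁻¹ =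
        (sS lam mu j hab v * lam (TT hab 1) * (sS lam mu j hab v)⁻¹) *
          (sS lam mu j hab v * mu (uu 1) * (sS lam mu j hab v)⁻¹) *
          (sS lam mu j hab v * lam (TT hab 1) * (sS lam mu j hab v)⁻¹)⁻¹ := by group
    have e2 : sS lam mu j hab v * (mu (uu 1) * (mu wn * lam (TT hab 1) * (mu wn)⁻¹) *
          (lam (pj a b a) * mu (uu 1) * (lam (pj a b a))⁻¹)) * (sS lam mu j hab v)⁻¹ =
        (sS lam mu j hab v * mu (uu 1) * (sS lam mu j hab v)⁻¹) *
          (sS lam mu j hab v * zz lam mu a b hab 1 * (sS lam mu j hab v)⁻¹) *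
          (sS lam mu j hab v * yy lam mu a b a 1 * (sS lam mu j hab v)⁻¹) := by
      rw [zz_ab, yy, muJ_apply]
      group
    simp only [e1, e2] at h1
    rw [H.sS_T, H.sS_uu, H.sS_Z, H.sS_ya, mul_one, mul_one] at h1
    exact h1

/-- The relation `S4`. -/
lemma s4_of (hs1 : ∀ d : k, lam (TT hab 1) * mu (uu d) * (lam (TT hab 1))⁻¹ =
      mu (uu d) * zz lam mu a b hab (j d) * yy lam mu a b a d)
    (hss : ∀ c x : K, lam (TT hab c) * zz lam mu a b hab x * (lam (TT hab c))⁻¹ =
      zz lam mu a b hab x * yy lam mu a b a (I.tr (c * σ x))) (c : K) (d : k) :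
    lam (TT hab c) * mu (uu d) * (lam (TT hab c))⁻¹ =
      mu (uu d) * zz lam mu a b hab (c * j d) * yy lam mu a b a (I.nm c * d) := by
  refine sq_ind (P := fun c => ∀ d, lam (TT hab c) * mu (uu d) * (lam (TT hab c))⁻¹ =
      mu (uu d) * zz lam mu a b hab (c * j d) * yy lam mu a b a (I.nm c * d)) ?_ ?_ ?_ c d
  · intro d
    simp only [TT_zero, map_one, zero_mul, I.nm_zero, zz_zero, yy_zero, mul_one]
    group
  · intro p q hp hq d
    have hc : Commute (lam (TT hab p)) (yy lam mu a b a (I.nm q * d)) :=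
      (H.comm_yj_Tji hab.symm _ p).symm
    have e : lam (TT hab (p + q)) * mu (uu d) * (lam (TT hab (p + q)))⁻¹ =
        lam (TT hab p) * (lam (TT hab q) * mu (uu d) * (lam (TT hab q))⁻¹) * (lam (TT hab p))⁻¹ := by
      rw [TT_add, map_mul]
      group
    have e2 : lam (TT hab p) * (mu (uu d) * zz lam mu a b hab (q * j d) * yy lam mu a b a (I.nm q * d)) *
        (lam (TT hab p))⁻¹ = (lam (TT hab p) * mu (uu d) * (lam (TT hab p))⁻¹) *
          (lam (TT hab p) * zz lam mu a b hab (q * j d) * (lam (TT hab p))⁻¹) *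
          (lam (TT hab p) * yy lam mu a b a (I.nm q * d) * (lam (TT hab p))⁻¹) := by group
    have e3 : I.nm (p + q) * d = I.nm p * d + (I.tr (p * σ (q * j d)) + I.nm q * d) := by
      have e3' : p * σ (q * j d) = j d * (p * σ q) := by
        rw [map_mul, I.fix]
        ring
      rw [I.nm_add, e3', I.tr_mul_j]
      ring
    rw [e, hq, e2, hp, hss, hc.eq, mul_inv_cancel_right, e3, yy_add, yy_add, add_mul, zz_add]
    have c1 : Commute (yy lam mu a b a (I.nm p * d)) (zz lam mu a b hab (q * j d)) := H.comm_yy_zz a hab _ _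
    set U := mu (uu d)
    set Z1 := zz lam mu a b hab (p * j d)
    set Z2 := zz lam mu a b hab (q * j d)
    set Y1 := yy lam mu a b a (I.nm p * d)
    set Y2 := yy lam mu a b a (I.tr (p * σ (q * j d)))
    set Y3 := yy lam mu a b a (I.nm q * d)
    calc U * Z1 * Y1 * (Z2 * Y2) * Y3 = U * Z1 * (Y1 * Z2) * Y2 * Y3 := by group
      _ = U * Z1 * (Z2 * Y1) * Y2 * Y3 := by rw [c1.eq]
      _ = _ := by group
  · intro v d
    have h0 := v.ne_zero
    have h00 : σ (v : K) ≠ 0 := (map_ne_zero σ).2 h0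
    have hn := I.nm_ne h0
    set d₀ := I.nm (v : K) * d with hd₀
    have h1 := congrArg (fun g => lam (tt hab v) * g * (lam (tt hab v))⁻¹) (hs1 d₀)
    have e1 : lam (tt hab v) * (lam (TT hab 1) * mu (uu d₀) * (lam (TT hab 1))⁻¹) * (lam (tt hab v))⁻¹ =
        (lam (tt hab v) * lam (TT hab 1) * (lam (tt hab v))⁻¹) *
          (lam (tt hab v) * mu (uu d₀) * (lam (tt hab v))⁻¹) *
          (lam (tt hab v) * lam (TT hab 1) * (lam (tt hab v))⁻¹)⁻¹ := by group
    have e2 : lam (tt hab v) * (mu (uu d₀) * zz lam mu a b hab (j d₀) * yy lam mu a b a d₀) * (lam (tt hab v))⁻¹ =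
        (lam (tt hab v) * mu (uu d₀) * (lam (tt hab v))⁻¹) *
          (lam (tt hab v) * zz lam mu a b hab (j d₀) * (lam (tt hab v))⁻¹) *
          (lam (tt hab v) * yy lam mu a b a d₀ * (lam (tt hab v))⁻¹) := by group
    simp only [e1, e2] at h1
    rw [lam_tt_ab, H.tt_uu, H.tt_zz_ab, H.tt_ya, mul_one] at h1
    have e3 : (((I.nU v)⁻¹ : kˣ) : k) * d₀ = d := by
      rw [hd₀, Units.val_inv_eq_inv_val, I.nU_val]
      field_simp
    have e4 : (v : K) * (σ v)⁻¹ * j d₀ = (v : K) ^ 2 * j d := by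
      rw [hd₀, map_mul, I.j_nm]
      field_simp
    have e5 : I.nm (v : K) * d₀ = I.nm ((v : K) ^ 2) * d := by
      rw [hd₀, pow_two, I.nm_mul]
      ring
    rw [e3, e4, e5] at h1
    exact h1

end UHyp0

end Cfsg.Agent.Lib.PresU
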