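import Cfsg.Agent.Lib.PresU.Dec
import Cfsg.Agent.Lib.PresU.Seeds
import Cfsg.Agent.Lib.PresSp.Tgt

/-!
# The target: the Levi subgroup and the long root `SL₂`s in `SU_{2n}`
-/

set_option autoImplicit false
set_option linter.unusedSectionVars false
set_option linter.unusedSimpArgs false
set_option linter.style.haveILetI false

namespace Cfsg.Agent.Lib.PresU

open Matrix Cfsg.Agent.Lib.PresSp.M2 Cfsg.Agent.Lib.PresSp.Mono Cfsg.Agent.Lib.PresSLn.TwoGen
open Cfsg.Agent.Lib.PresSp.Abs (conj_conj)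
open Cfsg.Agent.Lib.PresSp.Tgt (sj sj_mul sj_add sj_zero sj_tr sj_ne sj_sub one_sj_mul one_sj_mul_sj
  sj_mul_one_sj upM upM_mul upM_zero mul_single_of single_mul_of Tinv single_neg' tt_coe_eq)

variable {ι : Type*} [Fintype ι] [DecidableEq ι] {K : Type*} [Field K] {k : Type*} [Field k]
variable {σ : K →+* K} {j : k →+* K}

/-- The conjugate transpose. -/
def hh (σ : K →+* K) (A : Matrix ι ι K) : Matrix ι ι K := (A.map σ)ᵀ

@[simp] lemma hh_apply (A : Matrix ι ι K) (r s : ι) : hh σ A r s = σ (A s r) := rfl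

lemma hh_mul (A B : Matrix ι ι K) : hh σ (A * B) = hh σ B * hh σ A := by
  rw [hh, hh, hh, Matrix.map_mul, transpose_mul]

lemma hh_one : hh σ (1 : Matrix ι ι K) = 1 := by
  rw [hh, Matrix.map_one _ (map_zero σ) (map_one σ), transpose_one]

lemma hh_add (A B : Matrix ι ι K) : hh σ (A + B) = hh σ A + hh σ B := by
  ext r s
  simp

lemma hh_single (i i' : ι) (x : K) : hh σ (single i i' x) = single i' i (σ x) := by
  ext r s
  simp only [hh_apply, single_apply]
  by_cases h : i = s ∧ i' = r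
  · obtain ⟨rfl, rfl⟩ := h
    simp
  · have h2 : ¬(i' = r ∧ i = s) := fun e => h ⟨e.2, e.1⟩
    simp [h, h2]

lemma hh_sj (i : ι) (x : K) : hh σ (sj i x) = sj i (σ x) := hh_single _ _ _

lemma sL (A : SpecialLinearGroup ι K) : (A⁻¹).1 * A.1 = 1 := inv_mul_coe A

lemma sR (A : SpecialLinearGroup ι K) : A.1 * (A⁻¹).1 = 1 := mul_inv_coe A

lemma hh_inv_mul (A : SpecialLinearGroup ι K) : hh σ A.1 * hh σ (A⁻¹).1 = 1 := by
  rw [← hh_mul, sL, hh_one]

lemma hh_mul_inv (A : SpecialLinearGroup ι K) : hh σ (A⁻¹).1 * hh σ A.1 = 1 := by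
  rw [← hh_mul, sR, hh_one]

/-- The Levi subgroup as matrices. -/
def levM (σ : K →+* K) (A : SpecialLinearGroup ι K) : Matrix (ι ⊕ ι) (ι ⊕ ι) K :=
  fromBlocks A.1 0 0 (hh σ (A⁻¹).1)

lemma levM_one : levM σ (1 : SpecialLinearGroup ι K) = 1 := by
  simp [levM, coeO, hh_one]

lemma levM_mul (A B : SpecialLinearGroup ι K) : levM σ (A * B) = levM σ A * levM σ B := by
  rw [levM, levM, levM, fromBlocks_multiply, _root_.mul_inv_rev, coeM, coeM, hh_mul]
  simp

/-- The Levi subgroup as a homomorphism to matrices. -/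
def levH (σ : K →+* K) : SpecialLinearGroup ι K →* Matrix (ι ⊕ ι) (ι ⊕ ι) K where
  toFun := levM σ
  map_one' := levM_one
  map_mul' := levM_mul

lemma levH_apply (A : SpecialLinearGroup ι K) : levH σ A = levM σ A := rfl

lemma coe_lev_T {i i' : ι} (h : i ≠ i') (c : K) :
    levM σ (TT h c) = fromBlocks (1 + single i i' c) 0 0 (1 + single i' i (-σ c)) := by
  rw [levM, Tinv]
  simp [coeT, hh_add, hh_one, hh_single]

/-- The long root `SL₂` at `i`, as matrices. -/
def lgM (j : k →+* K) (s : K) (i : ι) (g : M2 k) : Matrix (ι ⊕ ι) (ι ⊕ ι) K :=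
  fromBlocks (1 + sj i (j (g.1 0 0) - 1)) (sj i (j (g.1 0 1) * s)) (sj i (j (g.1 1 0) * s⁻¹))
    (1 + sj i (j (g.1 1 1) - 1))

lemma lgM_one (s : K) (i : ι) : lgM j s i (1 : M2 k) = 1 := by
  simp [lgM, sj_zero, fromBlocks_one]

lemma lgM_mul {s : K} (hs : s ≠ 0) (i : ι) (g g' : M2 k) :
    lgM j s i (g * g') = lgM j s i g * lgM j s i g' := by
  simp only [lgM, fromBlocks_multiply, one_sj_mul, one_sj_mul_sj, sj_mul_one_sj, sj_mul, sj_add]
  have e : ∀ x y, (g * g').1 x y = g.1 x 0 * g'.1 0 y + g.1 x 1 * g'.1 1 y := by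
    intro x y
    rw [Cfsg.Agent.Lib.PresSp.M2.coe_mul, mul_apply, Fin.sum_univ_two]
  rw [e, e, e, e]
  simp only [map_add, map_mul]
  refine fromBlocks_inj.2 ⟨?_, ?_, ?_, ?_⟩
  · rw [add_assoc, sj_add]
    congr 2
    field_simp
    ring
  · congr 1
    ring
  · congr 1
    ring
  · rw [add_left_comm, sj_add]
    congr 2
    field_simp
    ring

/-- The long root `SL₂` as a homomorphism to matrices. -/
def lgH {s : K} (hs : s ≠ 0) (j : k →+* K) (i : ι) : M2 k →* Matrix (ι ⊕ ι) (ι ⊕ ι) K where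
  toFun := lgM j s i
  map_one' := lgM_one s i
  map_mul' := lgM_mul hs i

lemma lgH_apply {s : K} (hs : s ≠ 0) (i : ι) (g : M2 k) : lgH hs j i g = lgM j s i g := rfl

lemma lgM_uu (s : K) (i : ι) (d : k) : lgM j s i (uu d) = upM (sj i (j d * s)) := by
  simp [lgM, coe_uu, sj_zero, upM]

lemma lgM_ll (s : K) (i : ι) (d : k) : lgM j s i (ll d) = fromBlocks 1 0 (sj i (j d * s⁻¹)) 1 := by
  simp [lgM, coe_ll, sj_zero]

lemma lgM_dd (s : K) (i : ι) (u : kˣ) :
    lgM j s i (dd u) = fromBlocks (1 + sj i (j (u : k) - 1)) 0 0 (1 + sj i (j ((u⁻¹ : kˣ) : k) - 1)) := by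
  simp [lgM, coe_dd, sj_zero]

lemma lgM_wn (s : K) (i : ι) :
    lgM j s i (wn : M2 k) = fromBlocks (1 + sj i (-1)) (sj i (-s)) (sj i s⁻¹) (1 + sj i (-1)) := by
  simp [lgM, coe_wn]

/-- Conjugating a long root `SL₂` by a monomial element of the Levi subgroup. -/
lemma lg_conj {l : SpecialLinearGroup ι K} {i i' : ι} {ε : K} (h : Mv l i i' ε) (s : K) (g : M2 k) :
    levM σ l * lgM j s i g = lgM j s i' g * levM σ l := by
  have c1 := h.col
  have c2 := h.row
  have hσε : σ ε = ε := Inv.sig_eta h.sq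
  have d1 : hh σ (l⁻¹).1 *ᵥ Pi.single i 1 = Pi.single i' ε := by
    ext r
    rw [mulVec_single_one]
    have h1 := congrFun h.inv.row r
    rw [single_one_vecMul] at h1
    change σ ((l⁻¹).1 i r) = _
    have h2 : (l⁻¹).1 i r = (Pi.single i' ε : ι → K) r := h1
    rw [h2]
    by_cases hr : r = i'
    · subst hr
      simp [hσε]
    · simp [Pi.single_apply, hr]
  have d2 : Pi.single i' 1 ᵥ* hh σ (l⁻¹).1 = Pi.single i ε := by
    ext r
    rw [single_one_vecMul]
    have h1 := congrFun h.inv.col r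
    rw [mulVec_single_one] at h1
    change σ ((l⁻¹).1 r i') = _
    have h2 : (l⁻¹).1 r i' = (Pi.single i ε : ι → K) r := h1
    rw [h2]
    by_cases hr : r = i
    · subst hr
      simp [hσε]
    · simp [Pi.single_apply, hr]
  rw [levM, lgM, lgM, fromBlocks_multiply, fromBlocks_multiply]
  simp only [zero_mul, mul_zero, add_zero, zero_add, mul_add, add_mul, mul_one, one_mul, sj,
    mul_single_of c1, mul_single_of d1, single_mul_of c2, single_mul_of d2, mul_comm]

/-- Different long root `SL₂`s commute. -/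
lemma lg_comm {i i' : ι} (h : i ≠ i') (s : K) (g g' : M2 k) :
    lgM j s i g * lgM j s i' g' = lgM j s i' g' * lgM j s i g := by
  simp only [lgM, fromBlocks_multiply, mul_add, add_mul, mul_one, one_mul, sj_ne h, sj_ne h.symm,
    add_zero, zero_add]
  refine fromBlocks_inj.2 ⟨by abel, by abel, by abel, by abel⟩

lemma lev_up (A : SpecialLinearGroup ι K) (S : Matrix ι ι K) :
    levM σ A * upM S = upM (A.1 * S * hh σ A.1) * levM σ A := by
  rw [levM, upM, upM, fromBlocks_multiply, fromBlocks_multiply]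
  simp only [zero_mul, mul_zero, add_zero, zero_add, mul_one, one_mul]
  refine fromBlocks_inj.2 ⟨rfl, ?_, rfl, rfl⟩
  rw [mul_assoc, mul_assoc, hh_inv_mul, mul_one]

/-- The twist of a matrix of `SL₂` by a diagonal automorphism. -/
def tw (n : kˣ) (g : M2 k) : M2 k :=
  ⟨!![g.1 0 0, (n : k) * g.1 0 1; ((n⁻¹ : kˣ) : k) * g.1 1 0, g.1 1 1], by
    have h := g.2
    rw [det_fin_two] at h
    rw [det_fin_two_of]
    have hn := n.ne_zero
    have e : (n : k) * g.1 0 1 * (((n⁻¹ : kˣ) : k) * g.1 1 0) = g.1 0 1 * g.1 1 0 := by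
      simp only [Units.val_inv_eq_inv_val]
      field_simp
    rw [e]
    exact h⟩

variable {a b : ι}

lemma hh_tt (hab : a ≠ b) (v : Kˣ) :
    hh σ ((tt hab v)⁻¹).1 = 1 + sj a ((σ v)⁻¹ - 1) + sj b (σ v - 1) := by
  rw [← tt_inv, tt_coe_eq, hh_add, hh_add, hh_one, hh_sj, hh_sj]
  simp

/-- The Levi torus on a long root `SL₂`. -/
lemma lev_tt_lg (I : Inv σ j) {s : K} (hab : a ≠ b) (v : Kˣ) (g : M2 k) :
    levM σ (tt hab v) * lgM j s b g = lgM j s b (tw (I.nU v)⁻¹ g) * levM σ (tt hab v) := by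
  have h0 := v.ne_zero
  have h1 : σ (v : K) ≠ 0 := (map_ne_zero σ).2 h0
  rw [levM, hh_tt, tt_coe_eq, lgM, lgM, fromBlocks_multiply, fromBlocks_multiply]
  simp only [zero_mul, mul_zero, add_zero, zero_add, mul_add, add_mul, mul_one, one_mul,
    sj_ne hab, sj_ne hab.symm, sj_mul, tw, of_apply, cons_val_zero, cons_val_one, cons_val]
  have e1 : j (((I.nU v)⁻¹ : kˣ) : k) = ((v : K) * σ v)⁻¹ := I.j_nU_inv v
  have e2 : j (((I.nU v)⁻¹⁻¹ : kˣ) : k) = (v : K) * σ v := by
    rw [inv_inv]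
    exact I.j_nU v
  simp only [map_mul, e1, e2]
  refine fromBlocks_inj.2 ⟨?_, ?_, ?_, ?_⟩
  · rw [mul_comm (_ - 1) (_ - 1)]
    abel
  · rw [sj_add, sj_add]
    congr 1
    simp only [Units.val_inv_eq_inv_val]
    field_simp
    ring
  · rw [sj_add, sj_add]
    congr 1
    simp only [Units.val_inv_eq_inv_val]
    field_simp
    ring
  · rw [mul_comm (_ - 1) (_ - 1)]
    abel

lemma tw_uu (n : kˣ) (d : k) : tw n (uu d) = uu ((n : k) * d) := by
  apply Subtype.ext
  ext x y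
  fin_cases x <;> fin_cases y <;> simp [tw, coe_uu]

lemma tw_dd (n u : kˣ) : tw n (dd u) = dd u := by
  apply Subtype.ext
  ext x y
  fin_cases x <;> fin_cases y <;> simp [tw, coe_dd]

lemma tw_dd_wn (n : kˣ) : tw n⁻¹ (dd n * wn) = wn := by
  apply Subtype.ext
  ext x y
  have h := n.ne_zero
  fin_cases x <;> fin_cases y <;>
    simp [tw, coe_dd, coe_wn, Cfsg.Agent.Lib.PresSp.M2.coe_mul, Matrix.mul_apply, Fin.sum_univ_two]

/-- The torus of a long root `SL₂` on a root element of the Levi subgroup. -/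
lemma lg_dd_T (I : Inv σ j) (hab : a ≠ b) (s : K) (u : kˣ) (c : K) :
    lgM j s b (dd u) * levM σ (TT hab c) = levM σ (TT hab (j ((u⁻¹ : kˣ) : k) * c)) * lgM j s b (dd u) := by
  rw [lgM_dd, coe_lev_T, coe_lev_T, fromBlocks_multiply, fromBlocks_multiply]
  simp only [sj, mul_add, add_mul, mul_one, one_mul, single_mul_single_same,
    single_mul_single_of_ne _ _ _ _ hab, single_mul_single_of_ne _ _ _ _ hab.symm, mul_zero, zero_mul,
    add_zero, zero_add, map_mul, I.fix]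
  have hu : j ((u⁻¹ : kˣ) : k) * j (u : k) = 1 := by
    rw [← map_mul]
    simp
  refine fromBlocks_inj.2 ⟨?_, rfl, rfl, ?_⟩
  · have : single a b c = single a b (j ((u⁻¹ : kˣ) : k) * c) + single a b (j ((u⁻¹ : kˣ) : k) * c * (j (u : k) - 1)) := by
      rw [← single_add]
      congr 1
      linear_combination (-c) * hu
    rw [this]
    abel
  · have : single b a (-σ c) + single b a ((j ((u⁻¹ : kˣ) : k) - 1) * -σ c) = single b a (-(j ((u⁻¹ : kˣ) : k) * σ c)) := by
      rw [← single_add]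
      congr 1
      ring
    rw [← this]
    abel

lemma lg_comm_U_ba (hab : a ≠ b) (s : K) (d : k) (c : K) :
    lgM j s b (uu d) * levM σ (TT hab.symm c) = levM σ (TT hab.symm c) * lgM j s b (uu d) := by
  rw [lgM_uu, coe_lev_T, upM, fromBlocks_multiply, fromBlocks_multiply]
  simp only [sj, mul_add, add_mul, mul_one, one_mul, single_mul_single_of_ne _ _ _ _ hab,
    single_mul_single_of_ne _ _ _ _ hab.symm, mul_zero, zero_mul, add_zero, zero_add]

lemma lg_comm_L_ab (hab : a ≠ b) (s : K) (d : k) (c : K) :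
    lgM j s b (ll d) * levM σ (TT hab c) = levM σ (TT hab c) * lgM j s b (ll d) := by
  rw [lgM_ll, coe_lev_T, fromBlocks_multiply, fromBlocks_multiply]
  simp only [sj, mul_add, add_mul, mul_one, one_mul, single_mul_single_of_ne _ _ _ _ hab,
    single_mul_single_of_ne _ _ _ _ hab.symm, mul_zero, zero_mul, add_zero, zero_add]

/-- The short root elements `ε_i + ε_j`. -/
lemma lg_wn_T {s : K} (hs : s ≠ 0) {i i' : ι} (hij : i ≠ i') (c : K) :
    lgM j s i' wn * levM σ (TT hij c) =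
      upM (single i i' (c * s) + single i' i (σ c * s)) * lgM j s i' wn := by
  rw [lgM_wn, coe_lev_T, upM, fromBlocks_multiply, fromBlocks_multiply]
  simp only [sj, mul_add, add_mul, mul_one, one_mul, single_mul_single_same,
    single_mul_single_of_ne _ _ _ _ hij, single_mul_single_of_ne _ _ _ _ hij.symm, mul_zero, zero_mul,
    add_zero, zero_add, mul_neg, neg_mul, neg_neg, single_neg', mul_inv_cancel_right₀ hs]
  refine fromBlocks_inj.2 ⟨?_, ?_, ?_, ?_⟩
  · abel
  · rw [mul_comm (σ c), mul_comm c s]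
    abel
  · abel
  · abel

section group

variable {Ι : Type*} [Fintype Ι] [DecidableEq Ι]

/-- Being an isometry of a Gram matrix. -/
def IsU (σ : K →+* K) (J : Matrix Ι Ι K) (M : Matrix Ι Ι K) : Prop := Mᵀ * J * M.map σ = J

lemma IsU.one {J : Matrix Ι Ι K} : IsU σ J 1 := by
  rw [IsU, Matrix.map_one _ (map_zero σ) (map_one σ)]
  simp

lemma IsU.mul {J M N : Matrix Ι Ι K} (hM : IsU σ J M) (hN : IsU σ J N) : IsU σ J (M * N) := by
  unfold IsU at *
  rw [transpose_mul, Matrix.map_mul]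
  calc Nᵀ * Mᵀ * J * (M.map σ * N.map σ) = Nᵀ * (Mᵀ * J * M.map σ) * N.map σ := by
        simp only [mul_assoc]
    _ = J := by rw [hM, hN]

lemma IsU.of_mul {J M M' : Matrix Ι Ι K} (hM : IsU σ J M) (h : M' * M = 1) (h' : M * M' = 1) : IsU σ J M' := by
  unfold IsU at *
  have h1 : M.map σ * M'.map σ = 1 := by
    rw [← Matrix.map_mul, h', Matrix.map_one _ (map_zero σ) (map_one σ)]
  have h2 : M'ᵀ * Mᵀ = 1 := by
    rw [← transpose_mul, h', transpose_one]
  calc M'ᵀ * J * M'.map σ = M'ᵀ * (Mᵀ * J * M.map σ) * M'.map σ := by rw [hM]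
    _ = (M'ᵀ * Mᵀ) * J * (M.map σ * M'.map σ) := by simp only [mul_assoc]
    _ = J := by rw [h1, h2]; simp

/-- The special unitary group of a Gram matrix. -/
def SUg (σ : K →+* K) (J : Matrix Ι Ι K) : Subgroup (SpecialLinearGroup Ι K) where
  carrier := {A | IsU σ J A.1}
  mul_mem' := fun hA hB => IsU.mul hA hB
  one_mem' := IsU.one
  inv_mem' := fun {A} hA => IsU.of_mul (M' := (A⁻¹).1) hA (inv_mul_coe A) (mul_inv_coe A)

lemma SUg_ext {J : Matrix Ι Ι K} {x y : SUg σ J} (h : x.1.1 = y.1.1) : x = y :=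
  Subtype.ext (Subtype.ext h)

/-- A matrix of determinant one which is an isometry, as an element of the group. -/
def SUg.mk' (σ : K →+* K) (J : Matrix Ι Ι K) (M : Matrix Ι Ι K) (h1 : M.det = 1) (h2 : IsU σ J M) : SUg σ J :=
  ⟨⟨M, h1⟩, h2⟩

end group

/-- The Gram matrix of the hyperbolic form. -/
def JE (ι : Type*) [DecidableEq ι] (K : Type*) [Field K] : Matrix (ι ⊕ ι) (ι ⊕ ι) K := fromBlocks 0 1 1 0

lemma isU_lev (hσ : ∀ x, σ (σ x) = x) (A : SpecialLinearGroup ι K) : IsU σ (JE ι K) (levM σ A) := by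
  have e1 : ∀ B : Matrix ι ι K, ((hh σ B).map σ) = Bᵀ := by
    intro B
    ext r s
    simp [hh_apply, hσ]
  have e2 : (hh σ (A⁻¹).1)ᵀ = ((A⁻¹).1).map σ := by
    ext r s
    simp
  rw [IsU, JE, levM, fromBlocks_transpose, fromBlocks_map, fromBlocks_multiply, fromBlocks_multiply, e1, e2]
  simp only [transpose_zero, zero_mul, mul_zero, add_zero, zero_add, mul_one, Matrix.map_zero _ (map_zero σ)]
  refine fromBlocks_inj.2 ⟨rfl, ?_, ?_, rfl⟩
  · rw [← transpose_mul, inv_mul_coe, transpose_one]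
  · rw [← Matrix.map_mul, inv_mul_coe, Matrix.map_one _ (map_zero σ) (map_one σ)]

lemma isU_up {S : Matrix ι ι K} (h : Sᵀ + S.map σ = 0) : IsU σ (JE ι K) (upM S) := by
  have h' : S.map σ + Sᵀ = 0 := by
    rw [add_comm]
    exact h
  rw [IsU, JE, upM, fromBlocks_transpose, fromBlocks_map, fromBlocks_multiply, fromBlocks_multiply]
  simp [Matrix.map_one _ (map_zero σ) (map_one σ), h']

lemma isU_low {S : Matrix ι ι K} (h : Sᵀ + S.map σ = 0) : IsU σ (JE ι K) (fromBlocks 1 0 S 1) := by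
  rw [IsU, JE, fromBlocks_transpose, fromBlocks_map, fromBlocks_multiply, fromBlocks_multiply]
  simp [Matrix.map_one _ (map_zero σ) (map_one σ), h]

lemma det_up (S : Matrix ι ι K) : (upM S).det = 1 := by
  rw [upM, det_fromBlocks_zero₂₁]
  simp

lemma det_low (S : Matrix ι ι K) : (fromBlocks 1 0 S 1 : Matrix (ι ⊕ ι) (ι ⊕ ι) K).det = 1 := by
  rw [det_fromBlocks_zero₁₂]
  simp

lemma det_lev (A : SpecialLinearGroup ι K) : (levM σ A).det = 1 := by
  have e : (((A⁻¹).1).map σ).det = σ ((A⁻¹).1.det) := (RingHom.map_det σ _).symm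
  rw [levM, det_fromBlocks_zero₂₁, A.2, one_mul, hh, det_transpose, e, (A⁻¹).2, map_one]

lemma sj_map (i : ι) (x : K) : (sj i x).map σ = sj i (σ x) := by
  ext r s
  simp only [sj, map_apply, single_apply]
  split_ifs <;> simp

lemma sj_neg (i : ι) (x : K) : sj i (-x) = -sj i x := single_neg' _ _ _

/-- The long root `SL₂` is in the unitary group. -/
lemma lg_mem (I : Inv σ j) {s : K} (hs : s ≠ 0) (hss : σ s = -s) (i : ι) (g : M2 k) :
    (lgM j s i g).det = 1 ∧ IsU σ (JE ι K) (lgM j s i g) := by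
  have hsi : σ s⁻¹ = -s⁻¹ := by
    rw [map_inv₀, hss, inv_neg]
  refine m2_induction (P := fun g => (lgM j s i g).det = 1 ∧ IsU σ (JE ι K) (lgM j s i g)) ?_ ?_ ?_ ?_ ?_ g
  · rw [lgM_one]
    exact ⟨det_one, IsU.one⟩
  · intro d
    rw [lgM_uu]
    refine ⟨det_up _, isU_up ?_⟩
    rw [sj_tr, sj_map, map_mul, I.fix, hss, sj_add]
    simp [sj_zero]
  · intro d
    rw [lgM_ll]
    refine ⟨det_low _, isU_low ?_⟩
    rw [sj_tr, sj_map, map_mul, I.fix, hsi, sj_add]
    simp [sj_zero]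
  · rintro x y ⟨h1, h2⟩ ⟨h3, h4⟩
    rw [lgM_mul hs]
    exact ⟨by rw [det_mul, h1, h3, one_mul], h2.mul h4⟩
  · rintro x ⟨h1, h2⟩
    have e1 : lgM j s i x⁻¹ * lgM j s i x = 1 := by
      rw [← lgM_mul hs, inv_mul_cancel, lgM_one]
    have e2 : lgM j s i x * lgM j s i x⁻¹ = 1 := by
      rw [← lgM_mul hs, mul_inv_cancel, lgM_one]
    refine ⟨?_, h2.of_mul e1 e2⟩
    have := congrArg det e1
    rw [det_mul, h1, mul_one, det_one] at this
    exact this

/-- The target group. -/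
abbrev GE (σ : K →+* K) (ι : Type*) [Fintype ι] [DecidableEq ι] : Type _ := SUg σ (JE ι K)

/-- The Levi subgroup in the target. -/
def levS (hσ : ∀ x, σ (σ x) = x) : SpecialLinearGroup ι K →* GE σ ι where
  toFun A := ⟨⟨levM σ A, det_lev A⟩, isU_lev hσ A⟩
  map_one' := SUg_ext levM_one
  map_mul' A B := SUg_ext (levM_mul A B)

/-- The long root `SL₂` in the target. -/
def lgS (I : Inv σ j) {s : K} (hs : s ≠ 0) (hss : σ s = -s) (i : ι) : M2 k →* GE σ ι where
  toFun g := ⟨⟨lgM j s i g, (lg_mem I hs hss i g).1⟩, (lg_mem I hs hss i g).2⟩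
  map_one' := SUg_ext (lgM_one s i)
  map_mul' g g' := SUg_ext (lgM_mul hs i g g')

lemma coe_levS (hσ : ∀ x, σ (σ x) = x) (A : SpecialLinearGroup ι K) : (levS hσ A).1.1 = levM σ A := rfl

lemma coe_lgS (I : Inv σ j) {s : K} (hs : s ≠ 0) (hss : σ s = -s) (i : ι) (g : M2 k) :
    (lgS I hs hss i g).1.1 = lgM j s i g := rfl

/-- Reading off a conjugate. -/
lemma conj_coe' {Ι : Type*} [Fintype Ι] [DecidableEq Ι] {J : Matrix Ι Ι K} {x y z : SUg σ J}
    (h : x.1.1 * y.1.1 = z.1.1 * x.1.1) : x * y * x⁻¹ = z := by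
  rw [mul_inv_eq_iff_eq_mul]
  exact SUg_ext h

section hyp

variable [Finite K] [Finite k] (I : Inv σ j) {s : K} (hs : s ≠ 0) (hss : σ s = -s)

local notation "Lv" => levS (σ := σ) (ι := ι) I.invol
local notation "Lg" => lgS (ι := ι) I hs hss

include I hs hss

/-- The conjugate of a long root `SL₂` by `pj`. -/
lemma lgS_conj {l : SpecialLinearGroup ι K} {i i' : ι} {ε : K} (h : Mv l i i' ε) (g : M2 k) :
    Lv l * Lg i g * (Lv l)⁻¹ = Lg i' g :=
  conj_coe' (lg_conj h s g)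

lemma lgS_comm {i i' : ι} (h : i ≠ i') (g g' : M2 k) : Commute (Lg i g) (Lg i' g') :=
  SUg_ext (lg_comm h s g g')

/-- The short root element as a matrix. -/
lemma zS_coe {i i' : ι} (hij : i ≠ i') (c : K) :
    (Lg i' wn * Lv (TT hij c) * (Lg i' wn)⁻¹).1.1 = upM (single i i' (c * s) + single i' i (σ c * s)) := by
  have e : (Lg i' wn * Lv (TT hij c) * (Lg i' wn)⁻¹).1.1 * (Lg i' wn).1.1 = upM (single i i' (c * s) + single i' i (σ c * s)) * (Lg i' wn).1.1 := by
    have h1 : (Lg i' wn * Lv (TT hij c) * (Lg i' wn)⁻¹).1.1 * (Lg i' wn).1.1 =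
        (Lg i' wn * Lv (TT hij c) * (Lg i' wn)⁻¹ * Lg i' wn).1.1 := rfl
    rw [h1, inv_mul_cancel_right]
    exact lg_wn_T hs hij c
  have hinv : (Lg i' wn).1.1 * ((Lg i' wn)⁻¹).1.1 = 1 := by
    have : (Lg i' wn * (Lg i' wn)⁻¹).1.1 = 1 := by
      rw [mul_inv_cancel]
      rfl
    exact this
  calc (Lg i' wn * Lv (TT hij c) * (Lg i' wn)⁻¹).1.1
      = (Lg i' wn * Lv (TT hij c) * (Lg i' wn)⁻¹).1.1 * ((Lg i' wn).1.1 * ((Lg i' wn)⁻¹).1.1) := by
        rw [hinv, mul_one]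
    _ = upM (single i i' (c * s) + single i' i (σ c * s)) * ((Lg i' wn).1.1 * ((Lg i' wn)⁻¹).1.1) := by
        rw [← mul_assoc, e, mul_assoc]
    _ = _ := by rw [hinv, mul_one]

lemma yS_coe (i : ι) (d : k) : (Lg i (uu d)).1.1 = upM (sj i (j d * s)) := lgM_uu s i d

/-- A group element with an upper unitriangular matrix. -/
lemma up_conj_T {i i' : ι} (hij : i ≠ i') (c : K) (S : Matrix ι ι K) {x : GE σ ι} (hx : x.1.1 = upM S) :
    (Lv (TT hij c) * x * (Lv (TT hij c))⁻¹).1.1 = upM ((TT hij c).1 * S * hh σ (TT hij c).1) := by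
  have h1 : (Lv (TT hij c) * x).1.1 = upM ((TT hij c).1 * S * hh σ (TT hij c).1) * (Lv (TT hij c)).1.1 := by
    change levM σ (TT hij c) * x.1.1 = _
    rw [hx, lev_up]
    rfl
  have hinv : (Lv (TT hij c)).1.1 * ((Lv (TT hij c))⁻¹).1.1 = 1 := by
    have : (Lv (TT hij c) * (Lv (TT hij c))⁻¹).1.1 = 1 := by
      rw [mul_inv_cancel]
      rfl
    exact this
  calc (Lv (TT hij c) * x * (Lv (TT hij c))⁻¹).1.1 = (Lv (TT hij c) * x).1.1 * ((Lv (TT hij c))⁻¹).1.1 := rfl
    _ = _ := by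
      rw [h1, mul_assoc, hinv, mul_one]

/-- The relation `S4` in the target. -/
lemma s4_tgt {a b : ι} (hab : a ≠ b) (c : K) (d : k) :
    Lv (TT hab c) * Lg b (uu d) * (Lv (TT hab c))⁻¹ =
      Lg b (uu d) * (Lg b wn * Lv (TT hab (c * j d)) * (Lg b wn)⁻¹) * Lg a (uu (I.nm c * d)) := by
  apply SUg_ext
  rw [up_conj_T I hs hss hab c _ (yS_coe I hs hss b d)]
  have e : ∀ x y z : GE σ ι, (x * y * z).1.1 = x.1.1 * y.1.1 * z.1.1 := fun _ _ _ => rfl
  rw [e, zS_coe I hs hss hab, yS_coe I hs hss, yS_coe I hs hss, upM_mul, upM_mul]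
  congr 1
  rw [coeT, hh_add, hh_one, hh_single, sj]
  simp only [mul_add, add_mul, mul_one, one_mul, single_mul_single_same,
    single_mul_single_of_ne _ _ _ _ hab, single_mul_single_of_ne _ _ _ _ hab.symm, mul_zero, zero_mul,
    add_zero, zero_add, sj, map_mul, I.j_nm, I.fix]
  rw [show c * (j d * s) = c * j d * s by ring, show j d * s * σ c = σ c * j d * s by ring,
    show c * j d * s * σ c = c * σ c * j d * s by ring]
  abel

/-- The commutator relation in the target. -/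
lemma ss_tgt {a b : ι} (hab : a ≠ b) (c x : K) :
    Lv (TT hab c) * (Lg b wn * Lv (TT hab x) * (Lg b wn)⁻¹) * (Lv (TT hab c))⁻¹ =
      (Lg b wn * Lv (TT hab x) * (Lg b wn)⁻¹) * Lg a (uu (I.tr (c * σ x))) := by
  apply SUg_ext
  rw [up_conj_T I hs hss hab c _ (zS_coe I hs hss hab x)]
  have e : ∀ x y : GE σ ι, (x * y).1.1 = x.1.1 * y.1.1 := fun _ _ => rfl
  rw [e, zS_coe I hs hss hab, yS_coe I hs hss, upM_mul]
  congr 1
  rw [coeT, hh_add, hh_one, hh_single, sj, I.j_tr, map_mul, I.invol]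
  simp only [mul_add, add_mul, mul_one, one_mul, single_mul_single_same,
    single_mul_single_of_ne _ _ _ _ hab, single_mul_single_of_ne _ _ _ _ hab.symm, mul_zero, zero_mul,
    add_zero, zero_add]
  rw [show c * (σ x * s) = c * σ x * s by ring, show x * s * σ c = σ c * x * s by ring, single_add]
  abel

/-- The torus element of `SL_ι` and the torus elements of the long root `SL₂`s. -/
lemma tt_eq' {a b : ι} (hab : a ≠ b) (u : kˣ) :
    lgM j s a (dd u) = levM σ (tt hab (jU j u)) * lgM j s b (dd u) := by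
  have h1 : σ (j (u : k)) = j u := I.fix _
  have h0 : j (u : k) ≠ 0 := (map_ne_zero j).2 u.ne_zero
  have hi : j ((u⁻¹ : kˣ) : k) = (j (u : k))⁻¹ := by
    rw [Units.val_inv_eq_inv_val, map_inv₀]
  rw [levM, hh_tt, tt_coe_eq, lgM_dd, lgM_dd, fromBlocks_multiply]
  simp only [zero_mul, mul_zero, add_zero, zero_add, mul_add, add_mul, mul_one, one_mul,
    sj_ne hab, sj_ne hab.symm, sj_mul, jU_val, h1, Units.val_inv_eq_inv_val, map_inv₀]
  refine fromBlocks_inj.2 ⟨?_, rfl, rfl, ?_⟩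
  · have e : sj b ((j (u : k))⁻¹ - 1) + (sj b (j (u : k) - 1) + sj b (((j (u : k))⁻¹ - 1) * (j (u : k) - 1))) = (0 : Matrix ι ι K) := by
      rw [sj_add, sj_add]
      have : (j (u : k))⁻¹ - 1 + (j (u : k) - 1 + ((j (u : k))⁻¹ - 1) * (j (u : k) - 1)) = 0 := by
        field_simp
        ring
      rw [this, sj_zero]
    rw [add_assoc (1 + sj a (j (u : k) - 1)), e, add_zero]
  · have e : sj b (j (u : k) - 1) + (sj b ((j (u : k))⁻¹ - 1) + sj b ((j (u : k) - 1) * ((j (u : k))⁻¹ - 1))) = (0 : Matrix ι ι K) := by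
      rw [sj_add, sj_add]
      have : j (u : k) - 1 + ((j (u : k))⁻¹ - 1 + (j (u : k) - 1) * ((j (u : k))⁻¹ - 1)) = 0 := by
        field_simp
        ring
      rw [this, sj_zero]
    rw [add_assoc (1 + sj a ((j (u : k))⁻¹ - 1)), e, add_zero]

/-- The relations hold in the target. -/
theorem uHyp0_target {a b : ι} (hab : a ≠ b) {ζ : Kˣ} (hζ : ∀ u : Kˣ, ∃ n : ℕ, ζ ^ n = u)
    (hk : ∀ u : kˣ, ∃ n : ℕ, I.nU ζ ^ n = u) :
    UHyp0 I (Lv) (Lg b) hab ζ := by
  have hs' := mv_pj (F := K) hab a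
  have hpj : ∀ g : M2 k, Lv (pj a b a) * Lg b g * (Lv (pj a b a))⁻¹ = Lg a g :=
    fun g => lgS_conj I hs hss hs' g
  refine ⟨hζ, hk, ?_, ?_, ?_, ?_, ?_, ?_, ?_, ?_, ?_, ?_, ?_, ?_⟩
  · -- theta
    intro l h1 h2 g
    have hm : Mv l b b (1 : K) := ⟨h1, h2, by simp⟩
    have := lgS_conj I hs hss hm g
    rw [mul_inv_eq_iff_eq_mul] at this
    exact this
  · -- r1
    apply SUg_ext
    change lgM j s b (dd (I.nU ζ)) * levM σ (tt hab ζ) = levM σ (tt hab ζ) * lgM j s b (dd (I.nU ζ))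
    rw [lev_tt_lg I, tw_dd]
  · -- r2
    rw [mul_inv_eq_iff_eq_mul]
    apply SUg_ext
    have := lg_dd_T (s := s) I hab (I.nU ζ) (1 : K)
    rwa [mul_one] at this
  · -- r3
    rw [mul_inv_eq_iff_eq_mul]
    apply SUg_ext
    have := lev_tt_lg (s := s) I hab ζ (uu 1)
    rwa [tw_uu, mul_one] at this
  · -- r4
    rw [hpj]
    apply SUg_ext
    exact tt_eq' I hs hss hab _
  · -- r5
    rw [mul_inv_eq_iff_eq_mul]
    apply SUg_ext
    have := lev_tt_lg (s := s) I hab ζ (dd (I.nU ζ) * wn)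
    rw [tw_dd_wn, lgM_mul hs] at this
    rw [← mul_assoc] at this
    exact this.symm
  · -- r6
    apply SUg_ext
    exact lg_comm_U_ba hab s 1 1
  · -- r7
    apply SUg_ext
    exact lg_comm_L_ab hab s 1 1
  · -- r8
    rw [hpj]
    exact lgS_comm I hs hss hab.symm _ _
  · -- r9
    rw [hpj]
    exact lgS_comm I hs hss hab.symm _ _
  · -- r10
    rw [hpj]
    exact lgS_comm I hs hss hab.symm _ _
  · -- r11
    rw [hpj]
    apply SUg_ext
    rw [zS_coe I hs hss hab, zS_coe I hs hss hab.symm, map_one, add_comm]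

end hyp

end Cfsg.Agent.Lib.PresU
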