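import Cfsg.Agent.Lib.PresU.Abs2

/-!
# The relations for `SU_{2n}`: the short root elements `ε_i + ε_j`
-/

set_option autoImplicit false

namespace Cfsg.Agent.Lib.PresU

open Matrix Cfsg.Agent.Lib.PresSp.M2 Cfsg.Agent.Lib.PresSp.Mono Cfsg.Agent.Lib.PresSLn.TwoGen
open Cfsg.Agent.Lib.PresSp.Abs (sq_ind conj_comm conj_conj conj_one comm_conj
  comm_of_conj A_zero A_neg act_of_sq act_pow comm_ext)

variable {ι : Type*} [Fintype ι] [DecidableEq ι] {K : Type*} [Field K] {k : Type*} [Field k]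
  {Γ : Type*} [Group Γ]
variable {a b : ι}

/-- The short root elements of type `ε_i + ε_j`. -/
def zz (lam : SpecialLinearGroup ι K →* Γ) (mu : M2 k →* Γ) (a b : ι) {i j : ι} (hij : i ≠ j) (c : K) : Γ :=
  muJ lam mu a b j wn * lam (TT hij c) * (muJ lam mu a b j wn)⁻¹

/-- The long root elements. -/
def yy (lam : SpecialLinearGroup ι K →* Γ) (mu : M2 k →* Γ) (a b j : ι) (d : k) : Γ :=
  muJ lam mu a b j (uu d)

section basic

variable {lam : SpecialLinearGroup ι K →* Γ} {mu : M2 k →* Γ}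

lemma zz_add {i j : ι} (hij : i ≠ j) (c d : K) :
    zz lam mu a b hij (c + d) = zz lam mu a b hij c * zz lam mu a b hij d := by
  simp only [zz, TT_add, map_mul]
  group

lemma zz_zero {i j : ι} (hij : i ≠ j) : zz lam mu a b hij (0 : K) = 1 := by
  simp only [zz, TT_zero, map_one]
  group

lemma zz_neg {i j : ι} (hij : i ≠ j) (c : K) : zz lam mu a b hij (-c) = (zz lam mu a b hij c)⁻¹ :=
  A_neg (zz_add hij) c

lemma yy_add (j : ι) (c d : k) : yy lam mu a b j (c + d) = yy lam mu a b j c * yy lam mu a b j d := by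
  simp only [yy, uu_add, map_mul]

lemma yy_zero (j : ι) : yy lam mu a b j (0 : k) = 1 := by
  simp only [yy, uu_zero, map_one]

lemma yy_neg (j : ι) (c : k) : yy lam mu a b j (-c) = (yy lam mu a b j c)⁻¹ :=
  A_neg (yy_add j) c

lemma zz_ab (lam : SpecialLinearGroup ι K →* Γ) (mu : M2 k →* Γ) (hab : a ≠ b) (c : K) :
    zz lam mu a b hab c = mu wn * lam (TT hab c) * (mu wn)⁻¹ := by
  simp only [zz, muJ_b]

end basic

namespace UHyp0

variable [Finite K] [Finite k] {σ : K →+* K} {j : k →+* K} {I : Inv σ j}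
  {lam : SpecialLinearGroup ι K →* Γ} {mu : M2 k →* Γ} {hab : a ≠ b} {ζ : Kˣ}
  (H : UHyp0 I lam mu hab ζ)
include H

lemma tau_zz_ab (u : kˣ) (c : K) :
    (lam (tt hab (jU j u)) * mu (dd u)) * zz lam mu a b hab c * (lam (tt hab (jU j u)) * mu (dd u))⁻¹ =
      zz lam mu a b hab (j u * c) := by
  rw [zz_ab, zz_ab, conj_comm (H.comm_tau u wn).symm, H.tau_ab]

lemma tau_zz_ba (u : kˣ) (c : K) :
    (lam (tt hab (jU j u)) * mu (dd u)) * zz lam mu a b hab.symm c * (lam (tt hab (jU j u)) * mu (dd u))⁻¹ =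
      zz lam mu a b hab.symm (j u * c) := by
  simp only [zz]
  set τ := lam (tt hab (jU j u)) * mu (dd u) with hτ
  have e1 : τ * muJ lam mu a b a wn * τ⁻¹ = muJ lam mu a b a wn * muJ lam mu a b a (dd (u⁻¹ * u⁻¹)) := by
    rw [hτ, H.tau_muJa, dd_wn, ← map_mul, dd_mul, dd_inv]
    congr 1
    group
  have e2 : τ * lam (TT hab.symm c) * τ⁻¹ = lam (TT hab.symm (j ((u⁻¹ : kˣ) : k) * c)) := H.tau_ba u c
  have e3 := H.hj_T hab.symm (u⁻¹ * u⁻¹) (j ((u⁻¹ : kˣ) : k) * c)
  have e4 : τ * (muJ lam mu a b a wn * lam (TT hab.symm c) * (muJ lam mu a b a wn)⁻¹) * τ⁻¹ =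
      (τ * muJ lam mu a b a wn * τ⁻¹) * (τ * lam (TT hab.symm c) * τ⁻¹) *
        (τ * muJ lam mu a b a wn * τ⁻¹)⁻¹ := by group
  rw [e4, e1, e2]
  have e5 : j (((u⁻¹ * u⁻¹)⁻¹ : kˣ) : k) * (j ((u⁻¹ : kˣ) : k) * c) = j (u : k) * c := by
    simp only [Units.val_inv_eq_inv_val, Units.val_mul, _root_.mul_inv_rev, inv_inv, map_mul, map_inv₀]
    have : j (u : k) ≠ 0 := (map_ne_zero j).2 u.ne_zero
    field_simp
  rw [e5] at e3
  rw [← e3]
  group

lemma H_zz_ab (v : kˣ) (c : K) :
    mu (dd v) * zz lam mu a b hab c * (mu (dd v))⁻¹ = zz lam mu a b hab (j v * c) := by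
  rw [zz_ab, zz_ab]
  have e1 : mu (dd v) * mu wn = mu wn * mu (dd v⁻¹) := by
    rw [← map_mul, ← map_mul, dd_wn]
  have h := H.H_ab v⁻¹ c
  rw [inv_inv] at h
  rw [← h]
  calc mu (dd v) * (mu wn * lam (TT hab c) * (mu wn)⁻¹) * (mu (dd v))⁻¹
      = (mu (dd v) * mu wn) * lam (TT hab c) * (mu (dd v) * mu wn)⁻¹ := by group
    _ = (mu wn * mu (dd v⁻¹)) * lam (TT hab c) * (mu wn * mu (dd v⁻¹))⁻¹ := by rw [e1]
    _ = _ := by group

/-- The torus at `j` on a short root element. -/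
lemma hj_zz {i j' : ι} (hij : i ≠ j') (v : kˣ) (c : K) :
    muJ lam mu a b j' (dd v) * zz lam mu a b hij c * (muJ lam mu a b j' (dd v))⁻¹ =
      zz lam mu a b hij (j v * c) := by
  have e1 : muJ lam mu a b j' (dd v) * muJ lam mu a b j' wn = muJ lam mu a b j' wn * muJ lam mu a b j' (dd v⁻¹) := by
    rw [← map_mul, ← map_mul, dd_wn]
  have h := H.hj_T hij v⁻¹ c
  rw [inv_inv] at h
  simp only [zz]
  rw [← h]
  calc muJ lam mu a b j' (dd v) * (muJ lam mu a b j' wn * lam (TT hij c) * (muJ lam mu a b j' wn)⁻¹) *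
        (muJ lam mu a b j' (dd v))⁻¹
      = (muJ lam mu a b j' (dd v) * muJ lam mu a b j' wn) * lam (TT hij c) *
          (muJ lam mu a b j' (dd v) * muJ lam mu a b j' wn)⁻¹ := by group
    _ = (muJ lam mu a b j' wn * muJ lam mu a b j' (dd v⁻¹)) * lam (TT hij c) *
          (muJ lam mu a b j' wn * muJ lam mu a b j' (dd v⁻¹))⁻¹ := by rw [e1]
    _ = _ := by group

omit H in
lemma s_tt_mul (hab : a ≠ b) (v : Kˣ) :
    (pj a b a : SpecialLinearGroup ι K) * tt hab v⁻¹ = tt hab v * pj a b a := by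
  apply Subtype.ext
  apply Matrix.ext_of_mulVec_single
  intro r
  have hd : ∀ (d : ι → K) (t : ι) (x : K), diagonal d *ᵥ Pi.single t x = Pi.single t (d t * x) := by
    intro d t x
    ext s
    rw [mulVec_diagonal]
    by_cases h : s = t
    · subst h
      simp
    · simp [h, Pi.single_apply]
  have hc := (mv_mono (F := K) (Equiv.swap b a) a r).col
  have hc' : (pj a b a : SpecialLinearGroup ι K).1 *ᵥ Pi.single r 1 = Pi.single (Equiv.swap b a r) (sgnd (Equiv.swap b a) a r) := hc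
  have ht : td a b v⁻¹ r = td a b v (Equiv.swap b a r) := by
    by_cases h1 : r = a
    · subst h1
      simp [td, hab.symm]
    · by_cases h2 : r = b
      · subst h2
        simp [td, hab.symm, hab]
      · rw [Equiv.swap_apply_of_ne_of_ne h2 h1]
        simp [td, h1, h2]
  rw [coeM, coeM, ← mulVec_mulVec, ← mulVec_mulVec, coe_tt, coe_tt, hc', hd, hd, mul_one,
    single_eq_smul r, mulVec_smul, hc', ht, single_eq_smul (Equiv.swap b a r) (_ * _),
    single_eq_smul (Equiv.swap b a r) (sgnd _ _ _), smul_smul]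

/-- The conjugate of a torus element of the Levi subgroup by `s`. -/
lemma s_tt (v : Kˣ) : (lam (pj a b a))⁻¹ * lam (tt hab v) * lam (pj a b a) = lam (tt hab v⁻¹) := by
  have e := congrArg lam (s_tt_mul hab v)
  rw [map_mul, map_mul] at e
  rw [mul_assoc, ← e]
  group

/-- The Levi torus on the Weyl element at `a`. -/
lemma tt_wa (v : Kˣ) :
    lam (tt hab v) * muJ lam mu a b a wn * (lam (tt hab v))⁻¹ =
      muJ lam mu a b a (dd (I.nU v)) * muJ lam mu a b a wn := by
  have h1 := H.s_tt (ζ := ζ) (I := I) (lam := lam) (mu := mu) (hab := hab) v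
  have h2 : lam (tt hab v) * lam (pj a b a) = lam (pj a b a) * lam (tt hab v⁻¹) := by
    rw [← h1]
    group
  have h3 := H.tt_wn (hab := hab) v⁻¹
  rw [map_inv, inv_inv] at h3
  simp only [muJ_apply]
  calc lam (tt hab v) * (lam (pj a b a) * mu wn * (lam (pj a b a))⁻¹) * (lam (tt hab v))⁻¹
      = (lam (tt hab v) * lam (pj a b a)) * mu wn * (lam (tt hab v) * lam (pj a b a))⁻¹ := by group
    _ = lam (pj a b a) * (lam (tt hab v⁻¹) * mu wn * (lam (tt hab v⁻¹))⁻¹) * (lam (pj a b a))⁻¹ := by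
        rw [h2]
        group
    _ = _ := by
        rw [h3]
        group

/-- The Levi torus on the short root elements. -/
lemma tt_zz_ab (v : Kˣ) (c : K) :
    lam (tt hab v) * zz lam mu a b hab c * (lam (tt hab v))⁻¹ =
      zz lam mu a b hab ((v : K) * (σ v)⁻¹ * c) := by
  have h1 := H.tt_wn (hab := hab) v
  have h2 := lam_tt_ab lam hab v c
  have h3 := H.H_zz_ab (I.nU v)⁻¹ ((v : K) ^ 2 * c)
  rw [zz_ab] at h3 ⊢
  rw [zz_ab] at h3 ⊢
  have e : j (((I.nU v)⁻¹ : kˣ) : k) * ((v : K) ^ 2 * c) = (v : K) * (σ v)⁻¹ * c := by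
    rw [I.j_nU_inv]
    have h0 := v.ne_zero
    have h00 : σ (v : K) ≠ 0 := (map_ne_zero σ).2 h0
    field_simp
  rw [e] at h3
  rw [← h3, ← h2]
  calc lam (tt hab v) * (mu wn * lam (TT hab c) * (mu wn)⁻¹) * (lam (tt hab v))⁻¹
      = (lam (tt hab v) * mu wn * (lam (tt hab v))⁻¹) * (lam (tt hab v) * lam (TT hab c) * (lam (tt hab v))⁻¹) *
          (lam (tt hab v) * mu wn * (lam (tt hab v))⁻¹)⁻¹ := by group
    _ = _ := by
        rw [h1]
        group

lemma tt_zz_ba (v : Kˣ) (c : K) :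
    lam (tt hab v) * zz lam mu a b hab.symm c * (lam (tt hab v))⁻¹ =
      zz lam mu a b hab.symm (σ v * ((v : K))⁻¹ * c) := by
  have h1 := H.tt_wa (hab := hab) v
  have h2 := lam_tt_ba lam hab v c
  have h3 := H.hj_zz hab.symm (I.nU v) (((v⁻¹ : Kˣ) : K) ^ 2 * c)
  have e : j ((I.nU v : kˣ) : k) * (((v⁻¹ : Kˣ) : K) ^ 2 * c) = σ v * ((v : K))⁻¹ * c := by
    rw [I.j_nU]
    have h0 := v.ne_zero
    simp only [Units.val_inv_eq_inv_val]
    field_simp
  rw [e] at h3
  rw [← h3]
  simp only [zz]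
  rw [← h2]
  calc lam (tt hab v) * (muJ lam mu a b a wn * lam (TT hab.symm c) * (muJ lam mu a b a wn)⁻¹) * (lam (tt hab v))⁻¹
      = (lam (tt hab v) * muJ lam mu a b a wn * (lam (tt hab v))⁻¹) * (lam (tt hab v) * lam (TT hab.symm c) * (lam (tt hab v))⁻¹) *
          (lam (tt hab v) * muJ lam mu a b a wn * (lam (tt hab v))⁻¹)⁻¹ := by group
    _ = _ := by
        rw [h1]
        group

lemma zz_symm_ab (c : K) : zz lam mu a b hab c = zz lam mu a b hab.symm (σ c) := by
  have h1 : zz lam mu a b hab (1 : K) = zz lam mu a b hab.symm (σ 1) := by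
    rw [zz_ab, map_one, H.r11]
    simp only [zz, muJ_apply]
  have hk : ∀ (x : K) (u : k), zz lam mu a b hab x = zz lam mu a b hab.symm (σ x) →
      zz lam mu a b hab (j u * x) = zz lam mu a b hab.symm (σ (j u * x)) := by
    intro x u hx
    by_cases hu : u = 0
    · subst hu
      simp only [map_zero, zero_mul, zz_zero]
    · have h2 := H.tau_zz_ab (Units.mk0 u hu) x
      have h3 := H.tau_zz_ba (Units.mk0 u hu) (σ x)
      rw [hx, h3] at h2
      rw [map_mul, I.fix]
      simpa using h2.symm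
  have hv : ∀ (x : K) (v : Kˣ), zz lam mu a b hab x = zz lam mu a b hab.symm (σ x) →
      zz lam mu a b hab ((v : K) * (σ v)⁻¹ * x) = zz lam mu a b hab.symm (σ ((v : K) * (σ v)⁻¹ * x)) := by
    intro x v hx
    have h2 := H.tt_zz_ab (hab := hab) v x
    have h3 := H.tt_zz_ba (hab := hab) v (σ x)
    rw [hx, h3] at h2
    rw [← h2]
    congr 1
    simp only [map_mul, map_inv₀, I.invol]
  obtain ⟨v, hv0⟩ := exists_sq_ne I.ne
  set β : K := (v : K) * (σ v)⁻¹ with hβ
  have hne : σ β ≠ β := by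
    intro e
    apply hv0
    have h0 := v.ne_zero
    have h00 : σ (v : K) ≠ 0 := (map_ne_zero σ).2 h0
    rw [hβ, map_mul, map_inv₀, I.invol] at e
    field_simp at e
    rw [map_pow]
    exact e.symm ▸ rfl
  obtain ⟨p, r, rfl⟩ := I.span2 hne c
  have e1 := hk 1 p h1
  have e2 := hk _ r (hv 1 v h1)
  rw [mul_one] at e1
  rw [mul_one] at e2
  rw [zz_add, map_add, zz_add, e1, e2]

/-- The transfer, with the short root elements. -/
lemma transfer2 {i j' : ι} (hij : i ≠ j') : ∃ (m : SpecialLinearGroup ι K) (η : K), η * η = 1 ∧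
    (∀ c, lam m * lam (TT hab c) * (lam m)⁻¹ = lam (TT hij (η * c))) ∧
    (∀ c, lam m * lam (TT hab.symm c) * (lam m)⁻¹ = lam (TT hij.symm (η * c))) ∧
    (∀ g, lam m * mu g * (lam m)⁻¹ = muJ lam mu a b j' g) ∧
    (∀ g, lam m * muJ lam mu a b a g * (lam m)⁻¹ = muJ lam mu a b i g) ∧
    (∀ c, lam m * zz lam mu a b hab c * (lam m)⁻¹ = zz lam mu a b hij (η * c)) ∧
    (∀ c, lam m * zz lam mu a b hab.symm c * (lam m)⁻¹ = zz lam mu a b hij.symm (η * c)) := by
  obtain ⟨m, η, hη, h1, h2, h3, h4⟩ := H.transfer hij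
  refine ⟨m, η, hη, h1, h2, h3, h4, ?_, ?_⟩
  · intro c
    have e : lam m * zz lam mu a b hab c * (lam m)⁻¹ =
        (lam m * mu wn * (lam m)⁻¹) * (lam m * lam (TT hab c) * (lam m)⁻¹) *
          (lam m * mu wn * (lam m)⁻¹)⁻¹ := by
      rw [zz_ab]
      group
    rw [e, h1, h3]
    rfl
  · intro c
    have e : lam m * zz lam mu a b hab.symm c * (lam m)⁻¹ =
        (lam m * muJ lam mu a b a wn * (lam m)⁻¹) * (lam m * lam (TT hab.symm c) * (lam m)⁻¹) *
          (lam m * muJ lam mu a b a wn * (lam m)⁻¹)⁻¹ := by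
      simp only [zz]
      group
    rw [e, h2, h4]
    rfl

/-- F6: the symmetry of the short root elements. -/
lemma zz_symm {i j' : ι} (hij : i ≠ j') (c : K) : zz lam mu a b hij c = zz lam mu a b hij.symm (σ c) := by
  obtain ⟨m, η, hη, -, -, -, -, h5, h6⟩ := H.transfer2 hij
  have h := H.zz_symm_ab (η * c)
  have h' := congrArg (fun x => lam m * x * (lam m)⁻¹) h
  simp only [h5, h6, map_mul, Inv.sig_eta hη] at h'
  rwa [← mul_assoc, hη, one_mul, ← mul_assoc, hη, one_mul] at h'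

lemma comm_yj_zz {i j' : ι} (hij : i ≠ j') (d : k) (c : K) :
    Commute (yy lam mu a b j' d) (zz lam mu a b hij c) := by
  have h1 : yy lam mu a b j' d * muJ lam mu a b j' wn =
      muJ lam mu a b j' wn * muJ lam mu a b j' (ll (-d)) := by
    rw [yy, ← map_mul, ← map_mul, uu_wn]
  have h2 : Commute (muJ lam mu a b j' (ll (-d))) (lam (TT hij c)) := H.comm_ylj_Tij hij _ _
  have h4 : (muJ lam mu a b j' wn)⁻¹ * yy lam mu a b j' d =
      muJ lam mu a b j' (ll (-d)) * (muJ lam mu a b j' wn)⁻¹ := by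
    rw [eq_mul_inv_iff_mul_eq, mul_assoc, h1]
    group
  change _ = _
  simp only [zz]
  calc yy lam mu a b j' d * (muJ lam mu a b j' wn * lam (TT hij c) * (muJ lam mu a b j' wn)⁻¹)
      = (yy lam mu a b j' d * muJ lam mu a b j' wn) * lam (TT hij c) * (muJ lam mu a b j' wn)⁻¹ := by group
    _ = muJ lam mu a b j' wn * (muJ lam mu a b j' (ll (-d)) * lam (TT hij c)) * (muJ lam mu a b j' wn)⁻¹ := by
        rw [h1]; group
    _ = muJ lam mu a b j' wn * lam (TT hij c) * (muJ lam mu a b j' (ll (-d)) * (muJ lam mu a b j' wn)⁻¹) := by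
        rw [h2.eq]; group
    _ = _ := by
        rw [← h4]; group

lemma comm_yi_zz {i j' : ι} (hij : i ≠ j') (d : k) (c : K) :
    Commute (yy lam mu a b i d) (zz lam mu a b hij c) := by
  rw [H.zz_symm hij]
  exact H.comm_yj_zz hij.symm d _

lemma comm_muJ_zz {i j' k' : ι} (hij : i ≠ j') (hki : k' ≠ i) (hkj : k' ≠ j') (g : M2 k) (c : K) :
    Commute (muJ lam mu a b k' g) (zz lam mu a b hij c) := by
  simp only [zz]
  exact ((H.comm_muJ hkj g wn).mul_right (H.comm_T_muJ hij hki.symm hkj.symm c g).symm).mul_right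
    (H.comm_muJ hkj g wn).inv_right

omit H [Finite K] [Finite k] in
lemma comm_yy_same (k' : ι) (d e : k) : Commute (yy lam mu a b k' d) (yy lam mu a b k' e) := by
  change _ = _
  rw [← yy_add, ← yy_add, add_comm]

lemma comm_yy (k' l : ι) (d e : k) : Commute (yy lam mu a b k' d) (yy lam mu a b l e) := by
  by_cases h : k' = l
  · subst h
    exact comm_yy_same k' d e
  · exact H.comm_muJ h _ _

lemma comm_yy_zz (k' : ι) {i j' : ι} (hij : i ≠ j') (d : k) (c : K) :
    Commute (yy lam mu a b k' d) (zz lam mu a b hij c) := by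
  by_cases h1 : k' = j'
  · subst h1
    exact H.comm_yj_zz hij d c
  · by_cases h2 : k' = i
    · subst h2
      exact H.comm_yi_zz hij d c
    · exact H.comm_muJ_zz hij h2 h1 _ c

omit H [Finite K] [Finite k] in
lemma comm_zz_col {i k' j' : ι} (hij : i ≠ j') (hkj : k' ≠ j') (c d : K) :
    Commute (zz lam mu a b hij c) (zz lam mu a b hkj d) := by
  simp only [zz]
  exact comm_conj _ ((T_comm_col hij hkj c d).map lam)

lemma comm_T_zz_disj {i j' k' l : ι} (hij : i ≠ j') (hkl : k' ≠ l) (hik : i ≠ k') (hil : i ≠ l)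
    (hjk : j' ≠ k') (hjl : j' ≠ l) (c d : K) :
    Commute (lam (TT hij c)) (zz lam mu a b hkl d) := by
  simp only [zz]
  have h1 := H.comm_T_muJ hij hil hjl c wn
  have h2 : Commute (lam (TT hij c)) (lam (TT hkl d)) := (T_comm_disj hij hkl hjk hil c d).map lam
  exact (h1.mul_right h2).mul_right h1.inv_right

lemma comm_T_zz_row {i j' l : ι} (hij : i ≠ j') (hil : i ≠ l) (hjl : j' ≠ l) (c d : K) :
    Commute (lam (TT hij c)) (zz lam mu a b hil d) := by
  simp only [zz]
  have h1 := H.comm_T_muJ hij hil hjl c wn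
  have h2 : Commute (lam (TT hij c)) (lam (TT hil d)) := (T_comm_row hij hil c d).map lam
  exact (h1.mul_right h2).mul_right h1.inv_right

lemma comm_zz {i j' k' l : ι} (hij : i ≠ j') (hkl : k' ≠ l) (c d : K) :
    Commute (zz lam mu a b hij c) (zz lam mu a b hkl d) := by
  by_cases h1 : j' = l
  · subst h1
    exact comm_zz_col hij hkl c d
  by_cases h2 : j' = k'
  · subst h2
    rw [H.zz_symm hkl]
    exact comm_zz_col hij hkl.symm c _
  by_cases h3 : i = l
  · subst h3
    rw [H.zz_symm hij]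
    exact comm_zz_col hij.symm hkl _ d
  by_cases h4 : i = k'
  · subst h4
    rw [H.zz_symm hij, H.zz_symm hkl]
    exact comm_zz_col hij.symm hkl.symm _ _
  · have h5 := H.comm_T_zz_disj hij hkl h4 h3 h2 h1 c d
    have h6 := H.comm_muJ_zz hkl h2 h1 wn d
    simp only [zz] at h5 h6 ⊢
    exact (h6.mul_left h5).mul_left h6.inv_left

/-- The conjugate of a transvection by the inverse of a Weyl element. -/
lemma w_inv_T {i j' : ι} (hij : i ≠ j') (c : K) :
    (muJ lam mu a b j' wn)⁻¹ * lam (TT hij c) * muJ lam mu a b j' wn = zz lam mu a b hij (-c) := by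
  have e1 : (muJ lam mu a b j' wn)⁻¹ = muJ lam mu a b j' wn * muJ lam mu a b j' (dd (-1)) := by
    rw [← map_inv, wn_inv, map_mul]
  have h3 := H.hj_T hij (-1 : kˣ) c
  have e3 : j (((-1 : kˣ)⁻¹ : kˣ) : k) * c = -c := by simp
  rw [e3] at h3
  simp only [zz]
  rw [← h3]
  calc (muJ lam mu a b j' wn)⁻¹ * lam (TT hij c) * muJ lam mu a b j' wn
      = (muJ lam mu a b j' wn)⁻¹ * lam (TT hij c) * ((muJ lam mu a b j' wn)⁻¹)⁻¹ := by rw [inv_inv]
    _ = (muJ lam mu a b j' wn * muJ lam mu a b j' (dd (-1))) * lam (TT hij c) *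
          (muJ lam mu a b j' wn * muJ lam mu a b j' (dd (-1)))⁻¹ := by rw [e1]
    _ = _ := by group

end UHyp0

/-- The hypotheses, with the relation `S4`. -/
structure UHyp [Finite K] [Finite k] {σ : K →+* K} {j : k →+* K} (I : Inv σ j)
    (lam : SpecialLinearGroup ι K →* Γ) (mu : M2 k →* Γ) (hab : a ≠ b) (ζ : Kˣ) : Prop
    extends UHyp0 I lam mu hab ζ where
  s4g : ∀ (c : K) (d : k), lam (TT hab c) * mu (uu d) * (lam (TT hab c))⁻¹ =
    mu (uu d) * (mu wn * lam (TT hab (c * j d)) * (mu wn)⁻¹) *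
      (lam (pj a b a) * mu (uu (I.nm c * d)) * (lam (pj a b a))⁻¹)

namespace UHyp

variable [Finite K] [Finite k] {σ : K →+* K} {j : k →+* K} {I : Inv σ j}
  {lam : SpecialLinearGroup ι K →* Γ} {mu : M2 k →* Γ} {hab : a ≠ b} {ζ : Kˣ}
  (H : UHyp I lam mu hab ζ)
include H

/-- The relation `S4` for `a, b`. -/
lemma s4_ab (c : K) (d : k) :
    lam (TT hab c) * mu (uu d) * (lam (TT hab c))⁻¹ =
      mu (uu d) * zz lam mu a b hab (c * j d) * yy lam mu a b a (I.nm c * d) := by
  rw [H.s4g, zz_ab, yy, muJ_apply]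

/-- The relation `S4` for all indices. -/
lemma s4 {i j' : ι} (hij : i ≠ j') (c : K) (d : k) :
    lam (TT hij c) * yy lam mu a b j' d * (lam (TT hij c))⁻¹ =
      yy lam mu a b j' d * zz lam mu a b hij (c * j d) * yy lam mu a b i (I.nm c * d) := by
  obtain ⟨m, η, hη, h1, -, h3, h4, h5, -⟩ := H.transfer2 hij
  have h := congrArg (fun x => lam m * x * (lam m)⁻¹) (H.s4_ab (η * c) d)
  have e5 : lam m * (lam (TT hab (η * c)) * mu (uu d) * (lam (TT hab (η * c)))⁻¹) * (lam m)⁻¹ =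
      (lam m * lam (TT hab (η * c)) * (lam m)⁻¹) * (lam m * mu (uu d) * (lam m)⁻¹) *
        (lam m * lam (TT hab (η * c)) * (lam m)⁻¹)⁻¹ := by group
  have e6 : lam m * (mu (uu d) * zz lam mu a b hab (η * c * j d) * yy lam mu a b a (I.nm (η * c) * d)) *
        (lam m)⁻¹ =
      (lam m * mu (uu d) * (lam m)⁻¹) * (lam m * zz lam mu a b hab (η * c * j d) * (lam m)⁻¹) *
        (lam m * yy lam mu a b a (I.nm (η * c) * d) * (lam m)⁻¹) := by group
  simp only [e5, e6] at h
  have e1 : η * (η * c) = c := by rw [← mul_assoc, hη, one_mul]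
  have e2 : η * (η * c * j d) = c * j d := by
    calc η * (η * c * j d) = (η * η) * (c * j d) := by ring
      _ = _ := by rw [hη, one_mul]
  rw [h1, h3, h5, e1, e2, yy, h4, I.nm_eta hη] at h
  exact h

/-- The commutator of two short root elements. -/
lemma ss {i j' : ι} (hij : i ≠ j') (c d : K) :
    lam (TT hij c) * zz lam mu a b hij d * (lam (TT hij c))⁻¹ =
      zz lam mu a b hij d * yy lam mu a b i (I.tr (c * σ d)) := by
  have A : ∀ c, lam (TT hij c) * yy lam mu a b j' 1 * (lam (TT hij c))⁻¹ =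
      yy lam mu a b j' 1 * zz lam mu a b hij c * yy lam mu a b i (I.nm c) := by
    intro c
    have := H.s4 hij c 1
    simpa using this
  have hxY : ∀ e, Commute (lam (TT hij c)) (yy lam mu a b i e) := fun e => (H.comm_yj_Tji hij.symm e c).symm
  have B : lam (TT hij (c + d)) * yy lam mu a b j' 1 * (lam (TT hij (c + d)))⁻¹ =
      lam (TT hij c) * (lam (TT hij d) * yy lam mu a b j' 1 * (lam (TT hij d))⁻¹) * (lam (TT hij c))⁻¹ := by
    rw [TT_add, map_mul]
    group
  rw [A, A] at B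
  have e1 : lam (TT hij c) * (yy lam mu a b j' 1 * zz lam mu a b hij d * yy lam mu a b i (I.nm d)) *
      (lam (TT hij c))⁻¹ = (lam (TT hij c) * yy lam mu a b j' 1 * (lam (TT hij c))⁻¹) *
        (lam (TT hij c) * zz lam mu a b hij d * (lam (TT hij c))⁻¹) * yy lam mu a b i (I.nm d) := by
    have := (hxY (I.nm d)).eq
    calc _ = (lam (TT hij c) * yy lam mu a b j' 1 * (lam (TT hij c))⁻¹) *
        (lam (TT hij c) * zz lam mu a b hij d * (lam (TT hij c))⁻¹) *
          (lam (TT hij c) * yy lam mu a b i (I.nm d) * (lam (TT hij c))⁻¹) := by group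
      _ = _ := by rw [this]; group
  rw [e1, A] at B
  set Z := lam (TT hij c) * zz lam mu a b hij d * (lam (TT hij c))⁻¹ with hZ
  rw [I.nm_add, yy_add, yy_add, zz_add] at B
  have c3 : Commute (yy lam mu a b i (I.nm c)) (zz lam mu a b hij d) := H.comm_yy_zz i hij _ _
  have B' : zz lam mu a b hij d * yy lam mu a b i (I.nm c) * yy lam mu a b i (I.tr (c * σ d)) *
      yy lam mu a b i (I.nm d) = yy lam mu a b i (I.nm c) * Z * yy lam mu a b i (I.nm d) := by
    have := B
    simp only [mul_assoc] at this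
    simp only [mul_left_cancel_iff] at this
    simpa [mul_assoc] using this
  have B2 : zz lam mu a b hij d * yy lam mu a b i (I.nm c) * yy lam mu a b i (I.tr (c * σ d)) =
      yy lam mu a b i (I.nm c) * Z := mul_right_cancel B'
  rw [← c3.eq, mul_assoc] at B2
  exact (mul_left_cancel B2).symm

/-- The conjugate of a short root element by a transvection in the next position. -/
lemma conj_T_zz_next {i j' l : ι} (hij : i ≠ j') (hjl : j' ≠ l) (hil : i ≠ l) (c d : K) :
    lam (TT hij c) * zz lam mu a b hjl d * (lam (TT hij c))⁻¹ =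
      zz lam mu a b hil (c * d) * zz lam mu a b hjl d := by
  have h1 := H.comm_T_muJ hij hil hjl c wn
  simp only [zz]
  rw [conj_comm h1.symm, ← map_inv, ← map_mul, ← map_mul, T_conj_next hij hjl hil, map_mul]
  group

/-- Conjugating a transvection by the long root element. -/
lemma yy_conj_T {i j' : ι} (hij : i ≠ j') (e : k) (c : K) :
    yy lam mu a b j' e * lam (TT hij c) * (yy lam mu a b j' e)⁻¹ =
      zz lam mu a b hij (c * j (-e)) * yy lam mu a b i (I.nm c * (-e)) * lam (TT hij c) := by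
  have h := H.s4 hij c (-e)
  rw [yy_neg] at h
  have e1 : yy lam mu a b j' e * lam (TT hij c) * (yy lam mu a b j' e)⁻¹ * (lam (TT hij c))⁻¹ =
      zz lam mu a b hij (c * j (-e)) * yy lam mu a b i (I.nm c * (-e)) := by
    have h2 : lam (TT hij c) * (yy lam mu a b j' e)⁻¹ * (lam (TT hij c))⁻¹ =
        (yy lam mu a b j' e)⁻¹ * (zz lam mu a b hij (c * j (-e)) * yy lam mu a b i (I.nm c * (-e))) := by
      rw [h]
      group
    calc _ = yy lam mu a b j' e * (lam (TT hij c) * (yy lam mu a b j' e)⁻¹ * (lam (TT hij c))⁻¹) := by group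
      _ = _ := by rw [h2]; group
  rw [← e1]
  group

/-- Conjugating a short root element by the lower long root element. -/
lemma yl_conj_zz {i j' : ι} (hij : i ≠ j') (e : k) (c : K) :
    muJ lam mu a b j' (ll e) * zz lam mu a b hij c * (muJ lam mu a b j' (ll e))⁻¹ =
      lam (TT hij (-(c * j e))) * yy lam mu a b i (I.nm c * e) * zz lam mu a b hij c := by
  have e1 : muJ lam mu a b j' (ll e) * muJ lam mu a b j' wn = muJ lam mu a b j' wn * yy lam mu a b j' (-e) := by
    rw [yy, ← map_mul, ← map_mul, ll_wn]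
  have h1 := H.yy_conj_T hij (-e) c
  simp only [neg_neg] at h1
  have e2 : muJ lam mu a b j' wn * zz lam mu a b hij (c * j e) * (muJ lam mu a b j' wn)⁻¹ =
      lam (TT hij (-(c * j e))) := by
    have h3 := H.hj_T hij (-1 : kˣ) (c * j e)
    have e3 : j (((-1 : kˣ)⁻¹ : kˣ) : k) * (c * j e) = -(c * j e) := by simp
    rw [e3] at h3
    rw [← h3, zz, ← wn_sq, map_mul]
    group
  have e4 : Commute (muJ lam mu a b j' wn) (yy lam mu a b i (I.nm c * e)) := H.comm_muJ hij.symm _ _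
  have e5 : ∀ c, zz lam mu a b hij c =
      muJ lam mu a b j' wn * lam (TT hij c) * (muJ lam mu a b j' wn)⁻¹ := fun _ => rfl
  have e6 : muJ lam mu a b j' wn * yy lam mu a b i (I.nm c * e) * (muJ lam mu a b j' wn)⁻¹ =
      yy lam mu a b i (I.nm c * e) := by
    rw [e4.eq]
    group
  calc muJ lam mu a b j' (ll e) * zz lam mu a b hij c * (muJ lam mu a b j' (ll e))⁻¹
      = (muJ lam mu a b j' (ll e) * muJ lam mu a b j' wn) * lam (TT hij c) *
          (muJ lam mu a b j' (ll e) * muJ lam mu a b j' wn)⁻¹ := by rw [e5]; group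
    _ = muJ lam mu a b j' wn * (yy lam mu a b j' (-e) * lam (TT hij c) * (yy lam mu a b j' (-e))⁻¹) *
          (muJ lam mu a b j' wn)⁻¹ := by rw [e1]; group
    _ = muJ lam mu a b j' wn * (zz lam mu a b hij (c * j e) * yy lam mu a b i (I.nm c * e) * lam (TT hij c)) *
          (muJ lam mu a b j' wn)⁻¹ := by rw [h1]
    _ = (muJ lam mu a b j' wn * zz lam mu a b hij (c * j e) * (muJ lam mu a b j' wn)⁻¹) *
          (muJ lam mu a b j' wn * yy lam mu a b i (I.nm c * e) * (muJ lam mu a b j' wn)⁻¹) *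
          (muJ lam mu a b j' wn * lam (TT hij c) * (muJ lam mu a b j' wn)⁻¹) := by group
    _ = _ := by rw [e2, e6, ← e5]

end UHyp

end Cfsg.Agent.Lib.PresU
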